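import Cfsg.Agent.GenDih.Struct
import Cfsg.Agent.S0514
import Cfsg.Agent.TwoFusion.DihedralSylow
import Cfsg.Agent.SelfCentNC.PSL
import Cfsg.Agent.Lib.Element

/-!
# A generalised dihedral centralizer of an involution outside the simple normal subgroup

Setting `OutData`: `N` has index two, contains `L`, not `e`, and meets the Sylow subgroup in the
dihedral group `⟨aa, u⟩`.
-/

set_option autoImplicit false
set_option linter.style.haveILetI false
set_option linter.unusedSectionVars false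

namespace Cfsg.Agent.GenDih

open Subgroup
open Cfsg.Agent.TwoGroups

universe u

variable {X : Type u} [Group X] [Finite X]

/-- The setting. -/
structure OutData (e : X) (K : Subgroup X) (P : Sylow 2 X) (L N : Subgroup X) (z aa u : X) :
    Prop where
  hyp : Hyp e K
  nL : L.Normal
  simple : IsSimpleGroup L
  nonab : ¬ ∀ a b : L, a * b = b * a
  cent : centralizer (L : Set X) = ⊥
  one : ∀ x ∈ L, orderOf x = 2 → ∃ l ∈ L, l * x * l⁻¹ = z
  nN : N.Normal
  le : L ≤ N
  idx : N.index = 2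
  notMem : e ∉ N
  e_mem : e ∈ (P : Subgroup X)
  z_inv : orderOf z = 2
  z_mem : z ∈ L
  z_cent : ∀ p ∈ (P : Subgroup X), p * z = z * p
  z_ne : z ≠ e
  aa_mem : aa ∈ (P : Subgroup X) ∧ aa ∈ L
  u_mem : u ∈ (P : Subgroup X) ∧ u ∈ L
  u_sq : u * u = 1
  u_inv : u * aa * u⁻¹ = aa⁻¹
  u_not : u ∉ zpowers aa
  z_pow : z ∈ zpowers aa
  cases : ∀ p ∈ (P : Subgroup X), p ∈ N → p ∈ zpowers aa ∨ p * u ∈ zpowers aa
  unique : ∀ x ∈ zpowers aa, x * x = 1 → x = 1 ∨ x = z
  e_conj : ∃ p ∈ (P : Subgroup X), p * e * p⁻¹ = aa * e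
  rank : RankTwo X

namespace OutData

variable {e : X} {K : Subgroup X} {P : Sylow 2 X} {L N : Subgroup X} {z aa u : X}

/-- The fused four-groups of a simple group with dihedral Sylow 2-subgroups. -/
theorem exists_odd_moving {Y : Type u} [Group Y] [Finite Y] {m : ℕ} (S : Sylow 2 Y) (hm : 2 ≤ m)
    (iso : (S : Subgroup Y) ≃* DihedralGroup m)
    (hA : ∀ x y : Y, orderOf x = 2 → orderOf y = 2 → IsConj x y) {V : Subgroup Y} (hV : Four V)
    (hVS : V ≤ (S : Subgroup Y)) :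
    ∃ c ∈ normalizer (V : Set Y), Odd (orderOf c) ∧ c ∉ centralizer (V : Set Y) := by
  classical
  set N₁ := normalizer (V : Set Y) with hN₁
  set C₁ := (centralizer (V : Set Y)).subgroupOf N₁ with hC₁
  have hVf : TwoFusion.IsFour V := ⟨hV.card, hV.sq⟩
  have h3 : 3 ∣ (centralizer (V : Set Y)).relIndex N₁ := by
    rcases TwoFusion.dihedral_cases hm iso with h4 | ⟨⟨n, a, b, hd⟩, -⟩
    · have hVe : V = (S : Subgroup Y) := eq_of_le_of_card_ge hVS (by rw [hV.card, h4.1])
      rw [hN₁, hVe, TwoFusion.relIndex_eq_three_of_all_conj h4 hA]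
    · rw [TwoFusion.Dih.six_of_all_conj hd hA hVf hVS]; norm_num
  haveI : Fact (Nat.Prime 3) := ⟨Nat.prime_three⟩
  haveI hn : C₁.Normal := TwoFusion.centralizer_normal_in_normalizer V
  obtain ⟨y, hy⟩ := exists_prime_orderOf_dvd_card' (G := N₁ ⧸ C₁) 3 (by
    rw [← Subgroup.index_eq_card]; exact h3)
  obtain ⟨g, rfl⟩ := QuotientGroup.mk'_surjective C₁ y
  set o := orderOf g with ho
  set k := 2 ^ o.factorization 2 with hk
  have hopos : 0 < o := orderOf_pos g
  have hkdvd : k ∣ o := Nat.ordProj_dvd o 2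
  refine ⟨((g ^ k : N₁) : Y), (g ^ k).2, ?_, fun hc => ?_⟩
  · rw [Subgroup.orderOf_coe, orderOf_pow_of_dvd (by positivity) hkdvd, ← Nat.not_even_iff_odd,
      even_iff_two_dvd]
    exact Nat.not_dvd_ordCompl Nat.prime_two hopos.ne'
  · have h1 : QuotientGroup.mk' C₁ g ^ k = 1 := by
      rw [← map_pow]; exact (QuotientGroup.eq_one_iff _).2 (mem_subgroupOf.2 hc)
    have h2 := orderOf_dvd_of_pow_eq_one h1
    rw [hy, hk] at h2
    exact absurd ((Nat.prime_dvd_prime_iff_eq Nat.prime_three Nat.prime_two).1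
      (Nat.prime_three.dvd_of_dvd_pow h2)) (by norm_num)

section

variable (d : OutData e K P L N z aa u)
include d

theorem two_le : 2 ≤ orderOf aa := by
  obtain ⟨k, hk⟩ := mem_zpowers_iff.1 d.z_pow
  by_contra hlt
  have h1 : orderOf aa = 1 := by have := orderOf_pos aa; omega
  rw [orderOf_eq_one_iff.1 h1, one_zpow] at hk
  exact ne_one_of_orderOf_two d.z_inv hk.symm

theorem zpow_mem_P (k : ℤ) : aa ^ k ∈ (P : Subgroup X) := Subgroup.zpow_mem _ d.aa_mem.1 k

theorem u_z : u * z = z * u := d.z_cent u d.u_mem.1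

theorem e_z : e * z = z * e := d.z_cent e d.e_mem

theorem ne_z : u ≠ z := fun h => d.u_not (h ▸ d.z_pow)

theorem u_ne_one : u ≠ 1 := fun h => d.u_not (h ▸ (zpowers aa).one_mem)

theorem card_Q :
    Nat.card ((P : Subgroup X) ⊓ N : Subgroup X) = 2 * orderOf aa := by
  set Q := (P : Subgroup X) ⊓ N
  have hle : zpowers aa ≤ Q := zpowers_le.2 ⟨d.aa_mem.1, d.le d.aa_mem.2⟩
  have hidx : ((zpowers aa).subgroupOf Q).index = 2 := by
    rw [Subgroup.index_eq_two_iff]
    refine ⟨⟨u, d.u_mem.1, d.le d.u_mem.2⟩, fun b => ?_⟩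
    rcases d.cases b b.2.1 b.2.2 with hb | hb
    · refine Or.inr ⟨hb, fun hh => d.u_not ?_⟩
      have h1 : (b : X) * u ∈ zpowers aa := mem_subgroupOf.1 hh
      simpa using (zpowers aa).mul_mem ((zpowers aa).inv_mem hb) h1
    · refine Or.inl ⟨hb, fun hh => d.u_not ?_⟩
      simpa using (zpowers aa).mul_mem ((zpowers aa).inv_mem (mem_subgroupOf.1 hh)) hb
  rw [← Subgroup.card_mul_index ((zpowers aa).subgroupOf Q), hidx,
    Nat.card_congr (subgroupOfEquivOfLe hle).toEquiv, Nat.card_zpowers, mul_comm]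

theorem inter_eq : (P : Subgroup X) ⊓ N = (P : Subgroup X) ⊓ L := by
  refine le_antisymm (fun p hp => ⟨hp.1, ?_⟩) (inf_le_inf_left _ d.le)
  have hz : ∀ x ∈ zpowers aa, x ∈ L := fun x hx => zpowers_le.2 d.aa_mem.2 hx
  rcases d.cases p hp.1 hp.2 with h | h
  · exact hz p h
  · simpa [mul_assoc, d.u_sq] using L.mul_mem (hz _ h) d.u_mem.2

/-- The dihedral Sylow subgroup of `N` (or of `L`). -/
theorem exists_sylow_dihedral (M : Subgroup X) [M.Normal] (hML : L ≤ M) (hMN : M ≤ N) :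
    ∃ R : Sylow 2 M, (R : Subgroup M) = (P : Subgroup X).subgroupOf M ∧
      Nat.card (R : Subgroup M) = 2 * orderOf aa ∧
        Nonempty ((R : Subgroup M) ≃* DihedralGroup (orderOf aa)) := by
  have hp : IsPGroup 2 ((P : Subgroup X).subgroupOf M) :=
    P.isPGroup'.comap_of_injective M.subtype M.subtype_injective
  haveI : Fact (Nat.Prime 2) := ⟨Nat.prime_two⟩
  refine ⟨hp.toSylow (not_dvd_relIndex_normal P M), rfl, ?_⟩
  set R := (P : Subgroup X).subgroupOf M
  change Nat.card R = _ ∧ Nonempty (R ≃* _)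
  have hcard : Nat.card R = 2 * orderOf aa := by
    rw [← d.card_Q]
    have heq : (P : Subgroup X) ⊓ M = (P : Subgroup X) ⊓ N :=
      le_antisymm (inf_le_inf_left _ hMN) (d.inter_eq.le.trans (inf_le_inf_left _ hML))
    rw [← heq, ← card_map_of_injective M.subtype_injective (K := R), Subgroup.subgroupOf_map_subtype]
  refine ⟨hcard, ?_⟩
  haveI : NeZero (orderOf aa) := ⟨(orderOf_pos aa).ne'⟩
  refine equiv_dihedral_of_generators
    (a := (⟨⟨aa, hML d.aa_mem.2⟩, d.aa_mem.1⟩ : R)) (b := ⟨⟨u, hML d.u_mem.2⟩, d.u_mem.1⟩)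
    ?_ hcard ?_ (Subtype.ext (Subtype.ext d.u_sq)) (Subtype.ext (Subtype.ext d.u_inv))
  · rw [← Subgroup.orderOf_coe, ← Subgroup.orderOf_coe]
  · rintro ⟨k, hk⟩
    exact d.u_not ⟨k, congrArg (fun x : R => ((x : M) : X)) hk⟩

/-- **The odd part of `C_N(z)`**. -/
theorem exists_W : ∃ W : Subgroup X,
    (∀ x, x ∈ W ↔ x ∈ N ∧ x * z = z * x ∧ Odd (orderOf x)) ∧
      ∀ c ∈ N, c * z = z * c → ∃ w ∈ W, ∃ q ∈ (P : Subgroup X) ⊓ N, c = w * q := by
  classical
  haveI : Fact (Nat.Prime 2) := ⟨Nat.prime_two⟩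
  haveI := d.nN
  obtain ⟨R, hR, hRcard, hRiso⟩ := d.exists_sylow_dihedral N d.le le_rfl
  set z' : N := ⟨z, d.le d.z_mem⟩ with hz'
  set C := centralizer ({z'} : Set N) with hC
  obtain ⟨W0, hW0n, hW0odd, k, hk⟩ :=
    Cfsg.Agent.S0514.result R _ d.two_le hRiso z' (by rw [hz', Subgroup.orderOf_mk, d.z_inv])
  haveI := hW0n
  set W := (W0.map C.subtype).map N.subtype with hW
  have hWmem : ∀ x, x ∈ W ↔ x ∈ N ∧ x * z = z * x ∧ Odd (orderOf x) := by
    intro x
    constructor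
    · rintro ⟨y, ⟨w, hw, rfl⟩, rfl⟩
      refine ⟨(w : N).2, congrArg Subtype.val (mem_centralizer_singleton_iff.1 w.2), ?_⟩
      show Odd (orderOf ((w : N) : X))
      rw [Subgroup.orderOf_coe, Subgroup.orderOf_coe]
      exact hW0odd.of_dvd_nat (Subgroup.orderOf_dvd_natCard W0 hw)
    · rintro ⟨hxN, hxz, hxo⟩
      set x' : C := ⟨⟨x, hxN⟩, mem_centralizer_singleton_iff.2 (Subtype.ext hxz)⟩ with hx'
      refine ⟨⟨x, hxN⟩, ⟨x', ?_, rfl⟩, rfl⟩
      show x' ∈ W0
      rw [← QuotientGroup.eq_one_iff, ← orderOf_eq_one_iff]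
      have hox : orderOf x' = orderOf x := by rw [hx', Subgroup.orderOf_mk, Subgroup.orderOf_mk]
      have h1 : orderOf (x' : C ⧸ W0) ∣ 2 ^ k := by
        rw [← hk, Subgroup.index_eq_card]; exact orderOf_dvd_natCard _
      have h2 : orderOf (x' : C ⧸ W0) ∣ orderOf x :=
        hox ▸ orderOf_map_dvd (QuotientGroup.mk' W0) x'
      exact Nat.eq_one_of_dvd_coprimes (hxo.coprime_two_right.pow_right k) h2 h1
  refine ⟨W, hWmem, fun c hcN hcz => ?_⟩
  have hRC : (R : Subgroup N) ≤ C := fun q hq => mem_centralizer_singleton_iff.2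
    (Subtype.ext (d.z_cent _ (hR ▸ hq : q ∈ (P : Subgroup X).subgroupOf N)))
  let f : W0 × (R : Subgroup N) → C := fun p => (p.1 : C) * ⟨p.2, hRC p.2.2⟩
  have hf : Function.Injective f := by
    rintro ⟨w₁, q₁⟩ ⟨w₂, q₂⟩ he
    have he' : (((w₁ : C) : N)) * (q₁ : N) = ((w₂ : C) : N) * (q₂ : N) :=
      congrArg (fun x : C => (x : N)) he
    have h1 : (((w₂ : C) : N))⁻¹ * ((w₁ : C) : N) = (q₂ : N) * (q₁ : N)⁻¹ := by
      rw [eq_mul_inv_iff_mul_eq, mul_assoc, he', inv_mul_cancel_left]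
    have hodd : Odd (orderOf ((((w₂⁻¹ * w₁ : W0) : C)) : N)) := by
      rw [Subgroup.orderOf_coe, Subgroup.orderOf_coe]
      exact hW0odd.of_dvd_nat (orderOf_dvd_natCard _)
    have h2 : (((w₂⁻¹ * w₁ : W0) : C) : N) = ((q₂ * q₁⁻¹ : (R : Subgroup N)) : N) := h1
    obtain ⟨j, hj⟩ := IsPGroup.iff_orderOf.1 R.isPGroup' (q₂ * q₁⁻¹)
    rw [h2, Subgroup.orderOf_coe, hj] at hodd
    have hj0 : j = 0 := by
      by_contra h0
      exact absurd hodd (Nat.not_odd_iff_even.2 (even_iff_two_dvd.2 (dvd_pow_self 2 h0)))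
    rw [hj0, pow_zero, orderOf_eq_one_iff, mul_inv_eq_one] at hj
    subst hj
    have h3 : ((w₁ : C) : N) = ((w₂ : C) : N) := mul_right_cancel he'
    exact Prod.ext (Subtype.ext (Subtype.ext h3)) rfl
  have hcardC : Nat.card C ≤ Nat.card (W0 × (R : Subgroup N)) := by
    rw [Nat.card_prod, ← Subgroup.card_mul_index W0, hk]
    refine Nat.mul_le_mul_left _ (Nat.le_of_dvd Nat.card_pos ?_)
    have hdvd : 2 ^ k ∣ Nat.card N :=
      (Dvd.intro_left _ (by rw [← hk]; exact Subgroup.card_mul_index W0) : 2 ^ k ∣ Nat.card C).trans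
        (Subgroup.card_subgroup_dvd_card C)
    rw [← Subgroup.card_mul_index (R : Subgroup N)] at hdvd
    refine (Nat.Coprime.pow_left k ?_).dvd_of_dvd_mul_right hdvd
    exact (Nat.prime_two.coprime_iff_not_dvd).2 R.not_dvd_index
  have hsurj := ((Nat.bijective_iff_injective_and_card f).2
    ⟨hf, le_antisymm (Nat.card_le_card_of_injective f hf) hcardC⟩).surjective
  obtain ⟨⟨w, q⟩, hwq⟩ := hsurj
    ⟨⟨c, hcN⟩, mem_centralizer_singleton_iff.2 (Subtype.ext hcz)⟩
  exact ⟨_, mem_map_of_mem _ (mem_map_of_mem _ w.2), ((q : N) : X),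
    ⟨(hR ▸ q.2 : (q : N) ∈ (P : Subgroup X).subgroupOf N), (q : N).2⟩,
    (congrArg (fun x : C => ((x : N) : X)) hwq).symm⟩

theorem conj_mem_W {W : Subgroup X} (hW : ∀ x, x ∈ W ↔ x ∈ N ∧ x * z = z * x ∧ Odd (orderOf x))
    {p w : X} (hp : p ∈ (P : Subgroup X)) (hw : w ∈ W) : p * w * p⁻¹ ∈ W := by
  obtain ⟨hwN, hwz, hwo⟩ := (hW w).1 hw
  refine (hW _).2 ⟨d.nN.conj_mem w hwN p, ?_, by rw [orderOf_conj]; exact hwo⟩
  have h1 := d.z_cent p hp
  calc p * w * p⁻¹ * z = p * w * (p⁻¹ * z) := by group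
    _ = p * w * (z * p⁻¹) := by rw [d.z_cent p⁻¹ (Subgroup.inv_mem _ hp)]
    _ = p * (w * z) * p⁻¹ := by group
    _ = p * (z * w) * p⁻¹ := by rw [hwz]
    _ = (p * z) * w * p⁻¹ := by group
    _ = z * (p * w * p⁻¹) := by rw [h1]; group

/-- `e` inverts the odd part, and `aa` centralises it. -/
theorem action_W {W : Subgroup X} (hW : ∀ x, x ∈ W ↔ x ∈ N ∧ x * z = z * x ∧ Odd (orderOf x)) :
    (∀ x ∈ W, ∀ y ∈ W, x * y = y * x) ∧ ∀ x ∈ W, ∀ k : ℤ, aa ^ k * x = x * aa ^ k := by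
  have hg := d.hyp.gdc
  let f : W →* W :=
    { toFun := fun w => ⟨e * w * e⁻¹, d.conj_mem_W hW d.e_mem w.2⟩
      map_one' := Subtype.ext (by simp)
      map_mul' := fun a b => Subtype.ext (by push_cast; group) }
  have hfp : MonoidHom.FixedPointFree f := by
    intro w hw
    have h1 : e * (w : X) * e⁻¹ = w := congrArg Subtype.val hw
    obtain ⟨hwN, hwz, hwo⟩ := (hW _).1 w.2
    have hwK := hg.mem_of_odd (mul_inv_eq_iff_eq_mul.1 h1).symm hwo
    have hzC : z ∈ centralizer ({e} : Set X) := mem_centralizer_singleton_iff.2 d.e_z.symm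
    have h2 := (hg.out z hzC (hg.not_mem_of_inv d.z_inv d.z_ne)).2 _ hwK
    rw [← hwz, mul_inv_cancel_right] at h2
    exact Subtype.ext (eq_one_of_odd_of_sq hwo (eq_inv_iff_mul_eq_one.1 h2))
  have hinv : Function.Involutive f := fun w => Subtype.ext (by
    show e * (e * w * e⁻¹) * e⁻¹ = w
    rw [show e * (e * w * e⁻¹) * e⁻¹ = (e * e) * w * (e * e)⁻¹ by group, hg.sq]; simp)
  have hf : ∀ x ∈ W, e * x * e⁻¹ = x⁻¹ := fun x hx =>
    congrArg Subtype.val (congrFun (hfp.coe_eq_inv_of_involutive hinv) ⟨x, hx⟩)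
  have hcomm : ∀ x ∈ W, ∀ y ∈ W, x * y = y * x := by
    intro x hx y hy
    have h1 := hf _ (W.mul_mem hx hy)
    rw [show e * (x * y) * e⁻¹ = e * x * e⁻¹ * (e * y * e⁻¹) by group, hf x hx, hf y hy,
      mul_inv_rev] at h1
    exact inv_injective (by rw [mul_inv_rev, mul_inv_rev]; exact h1.symm)
  refine ⟨hcomm, ?_⟩
  obtain ⟨p, hp, hpe⟩ := d.e_conj
  have hp' : ∀ x ∈ W, (aa * e) * x * (aa * e)⁻¹ = x⁻¹ := by
    intro x hx
    have hx' : p⁻¹ * x * p ∈ W := by
      simpa using d.conj_mem_W hW (Subgroup.inv_mem _ hp) hx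
    rw [← hpe]
    calc p * e * p⁻¹ * x * (p * e * p⁻¹)⁻¹ = p * (e * (p⁻¹ * x * p) * e⁻¹) * p⁻¹ := by group
      _ = x⁻¹ := by rw [hf _ hx']; group
  have h1 : ∀ x ∈ W, Commute aa x := fun x hx => by
    have h2 := hp' x⁻¹ (W.inv_mem hx)
    rw [inv_inv, show aa * e * x⁻¹ * (aa * e)⁻¹ = aa * (e * x⁻¹ * e⁻¹) * aa⁻¹ by group,
      hf _ (W.inv_mem hx), inv_inv] at h2
    exact mul_inv_eq_iff_eq_mul.1 h2
  exact fun x hx k => ((h1 x hx).zpow_left k).eq

end

/-- **The main theorem of this case.** -/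
theorem isPgl (d : OutData e K P L N z aa u) :
    ∃ (F : Type) (_ : Field F) (_ : Fintype F), 3 < Fintype.card F ∧
      Nonempty (X ≃* Matrix.ProjGenLinGroup (Fin 2) F) := by
  classical
  haveI : Fact (Nat.Prime 2) := ⟨Nat.prime_two⟩
  haveI := d.nL
  haveI := d.nN
  haveI := d.simple
  obtain ⟨W, hW, hdec⟩ := d.exists_W
  obtain ⟨hWc, haW⟩ := d.action_W hW
  have hzz := sq_of_orderOf_two d.z_inv
  have hu1 := d.u_ne_one
  have huo : orderOf u = 2 := orderOf_eq_prime (by rw [pow_two]; exact d.u_sq) hu1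
  have hui : u⁻¹ = u := inv_of_orderOf_two huo
  have huW : ∀ x ∈ W, u * x * u⁻¹ ∈ W := fun x hx => d.conj_mem_W hW d.u_mem.1 hx
  -- elements of `P ⊓ N`
  have hQ : ∀ q ∈ (P : Subgroup X) ⊓ N, (∃ k : ℤ, q = aa ^ k) ∨ ∃ k : ℤ, q = aa ^ k * u := by
    intro q hq
    rcases d.cases q hq.1 hq.2 with h | h
    · obtain ⟨k, hk⟩ := mem_zpowers_iff.1 h; exact Or.inl ⟨k, hk.symm⟩
    · obtain ⟨k, hk⟩ := mem_zpowers_iff.1 h
      exact Or.inr ⟨k, by rw [hk, mul_assoc, d.u_sq, mul_one]⟩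
  have hQL : ∀ q ∈ (P : Subgroup X) ⊓ N, q ∈ L := fun q hq => (d.inter_eq.le hq).2
  set U := W ⊓ centralizer ({u} : Set X) with hU
  have hUu : ∀ x ∈ U, x * u = u * x := fun x hx => mem_centralizer_singleton_iff.1 hx.2
  have hUQ : ∀ x ∈ U, ∀ q ∈ (P : Subgroup X) ⊓ N, x * q = q * x := by
    intro x hx q hq
    rcases hQ q hq with ⟨k, rfl⟩ | ⟨k, rfl⟩
    · exact (haW x hx.1 k).symm
    · rw [← mul_assoc, ← haW x hx.1 k, mul_assoc, hUu x hx, mul_assoc]
  have hUC : ∀ x ∈ U, ∀ c ∈ N, c * z = z * c → x * c = c * x := by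
    intro x hx c hcN hcz
    obtain ⟨w, hw, q, hq, rfl⟩ := hdec c hcN hcz
    rw [← mul_assoc, hWc x hx.1 w hw, mul_assoc, hUQ x hx q hq, mul_assoc]
  -- `W ⊆ U L`
  have hWUL : W ≤ L ⊔ U := by
    intro w hw
    obtain ⟨-, -, hwo⟩ := (hW w).1 hw
    have h1 : w * (u * w * u⁻¹) ∈ U := by
      refine ⟨W.mul_mem hw (huW w hw), mem_centralizer_singleton_iff.2 ?_⟩
      have hc := hWc w hw _ (huW w hw)
      have h2 : u * (w * (u * w * u⁻¹)) * u⁻¹ = (u * w * u⁻¹) * w := by
        rw [hui]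
        calc u * (w * (u * w * u)) * u = u * w * u * w * (u * u) := by group
          _ = u * w * u * w := by rw [d.u_sq, mul_one]
      rw [← hc] at h2
      exact (mul_inv_eq_iff_eq_mul.1 h2).symm
    have h2 : w * u * w⁻¹ * u⁻¹ ∈ L := L.mul_mem (d.nL.conj_mem u d.u_mem.2 w) (L.inv_mem d.u_mem.2)
    have h3 : w * w ∈ L ⊔ U := by
      have hwu : u * w⁻¹ * u⁻¹ ∈ W := huW _ (W.inv_mem hw)
      have heq : w * w = (w * (u * w * u⁻¹)) * (w * u * w⁻¹ * u⁻¹) := by
        rw [show w * (u * w * u⁻¹) * (w * u * w⁻¹ * u⁻¹)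
          = w * ((u * w * u⁻¹) * w) * (u * w⁻¹ * u⁻¹) by group, hWc _ (huW w hw) w hw]
        group
      rw [heq]
      exact Subgroup.mul_mem _ (mem_sup_right h1) (mem_sup_left h2)
    obtain ⟨j, hj⟩ := hwo
    have he : w = (w * w) ^ (j + 1) := by
      rw [← pow_two, ← pow_mul, show 2 * (j + 1) = orderOf w + 1 by omega, pow_succ,
        pow_orderOf_eq_one, one_mul]
    rw [he]
    exact Subgroup.pow_mem _ h3 _
  -- Frattini
  have hNUL : N ≤ L ⊔ U := by
    intro g hg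
    obtain ⟨l, hl, hlg⟩ := d.one (g * z * g⁻¹) (d.nL.conj_mem z d.z_mem g)
      (by rw [orderOf_conj, d.z_inv])
    have h1 : l * g * z = z * (l * g) := mul_inv_eq_iff_eq_mul.1 (by
      calc l * g * z * (l * g)⁻¹ = l * (g * z * g⁻¹) * l⁻¹ := by group
        _ = z := hlg)
    obtain ⟨w, hw, q, hq, hwq⟩ := hdec _ (N.mul_mem (d.le hl) hg) h1
    rw [show g = l⁻¹ * (l * g) by group, hwq]
    exact Subgroup.mul_mem _ (mem_sup_left (L.inv_mem hl))
      (Subgroup.mul_mem _ (hWUL hw) (mem_sup_left (hQL q hq)))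
  -- the Sylow subgroup of `L`
  obtain ⟨R, hR, hRcard, ⟨iso⟩⟩ := d.exists_sylow_dihedral L le_rfl d.le
  set zL : L := ⟨z, d.z_mem⟩ with hzL
  have hzLo : orderOf zL = 2 := by rw [hzL, Subgroup.orderOf_mk, d.z_inv]
  have hRz : (R : Subgroup L) ≤ centralizer {zL} := fun q hq => mem_centralizer_singleton_iff.2
    (Subtype.ext (d.z_cent _ (hR ▸ hq : q ∈ (P : Subgroup X).subgroupOf L)))
  have hzR : zL ∈ (R : Subgroup L) := by
    rw [hR, mem_subgroupOf]
    obtain ⟨k, hk⟩ := mem_zpowers_iff.1 d.z_pow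
    show z ∈ (P : Subgroup X)
    rw [← hk]; exact d.zpow_mem_P k
  have hA : ∀ x y : L, orderOf x = 2 → orderOf y = 2 → IsConj x y := by
    have key : ∀ x : L, orderOf x = 2 → IsConj x zL := by
      intro x hx
      obtain ⟨l, hl, hlx⟩ := d.one x x.2 (by rw [Subgroup.orderOf_coe]; exact hx)
      exact isConj_iff.2 ⟨⟨l, hl⟩, Subtype.ext hlx⟩
    exact fun x y hx hy => (key x hx).trans (key y hy).symm
  -- centralizer inclusion into the normalizer of `U`
  set M := L ⊓ normalizer (U : Set X) with hM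
  have hCM : ∀ c ∈ L, c * z = z * c → c ∈ M := by
    refine fun c hc hcz => ⟨hc, mem_normalizer_of_conj fun x hx => ?_⟩
    rw [← hUC x hx c (d.le hc) hcz, mul_inv_cancel_right]
    exact hx
  -- reflections are fused to `z` inside `M`
  have hfuse : ∀ (k : ℤ), ∃ m ∈ M, m * (aa ^ k * u) * m⁻¹ = z := by
    intro k
    set q := aa ^ k * u with hq
    have hqP : q ∈ (P : Subgroup X) := Subgroup.mul_mem _ (d.zpow_mem_P k) d.u_mem.1
    have hqL : q ∈ L := L.mul_mem (L.zpow_mem d.aa_mem.2 k) d.u_mem.2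
    have hqq : q * q = 1 := by
      have h2 : u * aa ^ k * u⁻¹ = aa ^ (-k) := by
        rw [← conj_zpow, d.u_inv, inv_zpow, zpow_neg]
      rw [hui] at h2
      rw [hq, show aa ^ k * u * (aa ^ k * u) = aa ^ k * (u * aa ^ k * u) by group, h2,
        ← zpow_add, add_neg_cancel, zpow_zero]
    have hq1 : q ≠ 1 := fun h => d.u_not ⟨-k, by
      show aa ^ (-k) = u
      rw [zpow_neg]; exact inv_eq_of_mul_eq_one_right (hq ▸ h)⟩
    have hqz : q ≠ z := fun h => d.u_not (by
      have h1 := (zpowers aa).mul_mem ((zpowers aa).zpow_mem (mem_zpowers aa) (-k))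
        (h ▸ d.z_pow : q ∈ zpowers aa)
      rwa [hq, ← mul_assoc, ← zpow_add, neg_add_cancel, zpow_zero, one_mul] at h1)
    set qL : L := ⟨q, hqL⟩ with hqLdef
    have hqLo : orderOf qL = 2 := by
      rw [hqLdef, Subgroup.orderOf_mk]; exact orderOf_eq_prime (by rw [pow_two]; exact hqq) hq1
    obtain ⟨V, hV, hzV, hqV, hVc⟩ := exists_four hzLo hqLo
      (fun h => hqz (congrArg Subtype.val h).symm) (Subtype.ext (d.z_cent q hqP))
    have hVR : V ≤ (R : Subgroup L) := by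
      intro v hv
      have hqR : qL ∈ (R : Subgroup L) := by rw [hR, mem_subgroupOf]; exact hqP
      rcases hVc v hv with rfl | rfl | rfl | rfl
      · exact Subgroup.one_mem _
      · exact hzR
      · exact hqR
      · exact Subgroup.mul_mem _ hzR hqR
    obtain ⟨c, hcN, hco, hcC⟩ := exists_odd_moving R d.two_le iso hA hV hVR
    have hcconj : ∀ v ∈ V, c * v * c⁻¹ ∈ V := fun v hv => conj_mem_of_mem_normalizer hcN hv
    -- odd elements of `C(z) ∩ N(V)` centralise `V`
    have hkey : c * zL * c⁻¹ ≠ zL := by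
      intro h
      have hcz : (c : X) * z = z * c := congrArg Subtype.val (mul_inv_eq_iff_eq_mul.1 h)
      have hcW : (c : X) ∈ W := (hW _).2 ⟨d.le c.2, hcz, by rw [Subgroup.orderOf_coe]; exact hco⟩
      have h2 : ((c * qL * c⁻¹ * qL⁻¹ : L) : X) ∈ W := by
        have h3 : q * (c : X)⁻¹ * q⁻¹ ∈ W := d.conj_mem_W hW hqP (W.inv_mem hcW)
        show (c : X) * q * (c : X)⁻¹ * q⁻¹ ∈ W
        rw [show (c : X) * q * (c : X)⁻¹ * q⁻¹ = (c : X) * (q * (c : X)⁻¹ * q⁻¹) by group]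
        exact W.mul_mem hcW h3
      have h4 := V.mul_mem (hcconj qL hqV) (V.inv_mem hqV)
      have h5 : (c * qL * c⁻¹ * qL⁻¹ : L) = 1 := Subtype.ext (eq_one_of_odd_of_sq
        ((hW _).1 h2).2.2 (congrArg Subtype.val (hV.sq _ h4)))
      have h6 : c * qL = qL * c := mul_inv_eq_iff_eq_mul.1 (mul_inv_eq_one.1 h5)
      exact hcC (hV.centralizer_pair hzV hqV (ne_one_of_orderOf_two hzLo)
        (ne_one_of_orderOf_two hqLo) (fun h' => hqz (congrArg Subtype.val h').symm)
        (mul_inv_eq_iff_eq_mul.1 h) h6)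
    have hzne := ne_one_of_orderOf_two hzLo
    have hqne := ne_one_of_orderOf_two hqLo
    obtain ⟨m, hmN, hmq⟩ : ∃ m ∈ normalizer (V : Set L), m * qL * m⁻¹ = zL := by
      rcases hVc _ (hcconj zL hzV) with h | h | h | h
      · exact absurd (conj_eq_one_iff.1 h) hzne
      · exact absurd h hkey
      · exact ⟨c⁻¹, Subgroup.inv_mem _ hcN, by rw [← h]; group⟩
      · rcases hVc _ (hcconj qL hqV) with h' | h' | h' | h'
        · exact absurd (conj_eq_one_iff.1 h') hqne
        · exact ⟨c, hcN, h'⟩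
        · exfalso
          refine hkey (mul_inv_eq_iff_eq_mul.2 (commute_of_commute_sq hco ?_))
          have hc2 : c * c * zL * (c * c)⁻¹ = zL := by
            calc c * c * zL * (c * c)⁻¹ = c * (c * zL * c⁻¹) * c⁻¹ := by group
              _ = c * (zL * qL) * c⁻¹ := by rw [h]
              _ = (c * zL * c⁻¹) * (c * qL * c⁻¹) := by group
              _ = zL * qL * qL := by rw [h, h']
              _ = zL := by
                have hqq' : qL * qL = 1 := Subtype.ext hqq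
                rw [mul_assoc, hqq', mul_one]
          exact mul_inv_eq_iff_eq_mul.1 hc2
        · exact absurd ((MulAut.conj c).injective (h.trans h'.symm))
            (fun h'' => hqz (congrArg Subtype.val h'').symm)
    refine ⟨(m : X), ⟨m.2, mem_normalizer_of_conj fun x hx => ?_⟩, congrArg Subtype.val hmq⟩
    -- `m` normalises `U`
    obtain ⟨hxN, -, hxo⟩ := (hW x).1 hx.1
    have hxq : x * q = q * x := hUQ x hx q ⟨hqP, d.le hqL⟩
    have hxV : ∀ v ∈ V, x * (v : X) = (v : X) * x := by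
      intro v hv
      have hxz : x * z = z * x := ((hW x).1 hx.1).2.1
      rcases hVc v hv with rfl | rfl | rfl | rfl
      · simp
      · exact hxz
      · exact hxq
      · exact (Commute.mul_right (hxz : Commute x z) (hxq : Commute x q)).eq
    have himg : ∀ v ∈ V, ((m : X) * x * (m : X)⁻¹) * (v : X) = (v : X) * ((m : X) * x * (m : X)⁻¹) := by
      intro v hv
      have hv' : m⁻¹ * v * m ∈ V := by
        simpa using conj_mem_of_mem_normalizer (Subgroup.inv_mem _ hmN) hv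
      have h1 := hxV _ hv'
      push_cast at h1
      calc (m : X) * x * (m : X)⁻¹ * v = m * (x * ((m : X)⁻¹ * v * m)) * (m : X)⁻¹ := by group
        _ = m * (((m : X)⁻¹ * v * m) * x) * (m : X)⁻¹ := by rw [h1]
        _ = _ := by group
    have h1 : (m : X) * x * (m : X)⁻¹ ∈ W :=
      (hW _).2 ⟨d.nN.conj_mem x hxN m, himg zL hzV, by rw [orderOf_conj]; exact hxo⟩
    refine ⟨h1, mem_centralizer_singleton_iff.2 ?_⟩
    have h2 := himg qL hqV
    have h3 := haW _ h1 k
    set y := (m : X) * x * (m : X)⁻¹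
    change y * (aa ^ k * u) = aa ^ k * u * y at h2
    exact (mul_left_cancel (a := aa ^ k) (calc
      aa ^ k * (y * u) = aa ^ k * y * u := (mul_assoc _ _ _).symm
      _ = y * aa ^ k * u := by rw [h3]
      _ = y * (aa ^ k * u) := mul_assoc _ _ _
      _ = aa ^ k * u * y := h2
      _ = aa ^ k * (u * y) := mul_assoc _ _ _))
  -- `M` has one class of involutions
  have hMone : OneClass (M.subgroupOf L) := by
    have key : ∀ x : M.subgroupOf L, orderOf x = 2 → ∃ g : M.subgroupOf L,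
        g * x * g⁻¹ = ⟨zL, mem_subgroupOf.2 (hCM z d.z_mem rfl)⟩ := by
      intro x hx
      have hxo : orderOf (x : L) = 2 := by rw [Subgroup.orderOf_coe]; exact hx
      have hRM : (R : Subgroup L) ≤ M.subgroupOf L := fun q hq => mem_subgroupOf.2
        (hCM q q.2 (congrArg Subtype.val (mem_centralizer_singleton_iff.1 (hRz hq))))
      obtain ⟨g, hg, hgR⟩ := TwoFusion.exists_conj_le_sylow_of_le R hRM
        (IsPGroup.of_card (n := 1) (by rw [Nat.card_zpowers, hxo, pow_one]) :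
          IsPGroup 2 (zpowers (x : L))) (zpowers_le.2 x.2)
      have hy := hgR _ (mem_zpowers _)
      set y := g * (x : L) * g⁻¹ with hy'
      have hyo : orderOf (y : X) = 2 := by rw [Subgroup.orderOf_coe, hy', orderOf_conj, hxo]
      have hyQ : (y : X) ∈ (P : Subgroup X) ⊓ N :=
        ⟨(hR ▸ hy : y ∈ (P : Subgroup X).subgroupOf L), d.le y.2⟩
      rcases hQ _ hyQ with ⟨k, hk⟩ | ⟨k, hk⟩
      · have h1 := (d.unique _ (hk ▸ zpow_mem (mem_zpowers aa) k)
          (sq_of_orderOf_two hyo)).resolve_left (ne_one_of_orderOf_two hyo)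
        exact ⟨⟨g, hg⟩, Subtype.ext (Subtype.ext h1)⟩
      · obtain ⟨m, hm, hmk⟩ := hfuse k
        refine ⟨⟨⟨m, hm.1⟩ * g, Subgroup.mul_mem _ (mem_subgroupOf.2 hm) hg⟩,
          Subtype.ext (Subtype.ext ?_)⟩
        show m * (g : X) * (x : L) * (m * (g : X))⁻¹ = z
        rw [← hmk, ← hk, hy']
        push_cast
        group
    intro a b ha hb
    obtain ⟨g, hg⟩ := key a ha
    obtain ⟨g', hg'⟩ := key b hb
    exact (isConj_iff.2 ⟨g, hg⟩).trans (isConj_iff.2 ⟨g', hg'⟩).symm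
  -- if `L` normalises `U` then `U` is trivial
  have hbig : M.subgroupOf L = ⊤ → U = ⊥ := by
    intro htop
    have hnorm : L ≤ normalizer (U : Set X) := fun l hl =>
      (show l ∈ M from mem_subgroupOf.1 (htop.ge (Subgroup.mem_top (⟨l, hl⟩ : L)))).2
    haveI : ((U ⊓ L).subgroupOf L).Normal := ⟨fun x hx l => ⟨conj_mem_of_mem_normalizer (hnorm l.2)
      (mem_subgroupOf.1 hx).1, L.mul_mem (L.mul_mem l.2 x.2) (L.inv_mem l.2)⟩⟩
    rcases IsSimpleGroup.eq_bot_or_eq_top_of_normal ((U ⊓ L).subgroupOf L) inferInstance with h0 | h0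
    · rw [eq_bot_iff, ← d.cent]
      intro x hx
      refine mem_centralizer_iff.2 fun l hl => ?_
      have h1 : l * x * l⁻¹ * x⁻¹ ∈ U ⊓ L := by
        refine ⟨U.mul_mem (conj_mem_of_mem_normalizer (hnorm hl) hx) (U.inv_mem hx), ?_⟩
        rw [show l * x * l⁻¹ * x⁻¹ = l * (x * l⁻¹ * x⁻¹) by group]
        exact L.mul_mem hl (d.nL.conj_mem _ (L.inv_mem hl) x)
      have h2 : (⟨_, h1.2⟩ : L) ∈ (U ⊓ L).subgroupOf L := mem_subgroupOf.2 h1
      rw [h0, Subgroup.mem_bot] at h2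
      exact mul_inv_eq_iff_eq_mul.1 (mul_inv_eq_one.1 (congrArg Subtype.val h2))
    · exfalso
      have h1 : zL ∈ (U ⊓ L).subgroupOf L := h0 ▸ Subgroup.mem_top _
      have h2 := ((hW z).1 (mem_subgroupOf.1 h1).1.1).2.2
      rw [d.z_inv] at h2
      exact absurd h2 (by decide)
  -- the centralizer of `z` in `L` when `U` meets `L` trivially
  have hgdc : U ⊓ L = ⊥ → ∃ K' : Subgroup L, GDC zL K' := by
    intro hUL
    let K' : Subgroup L :=
      { carrier := {x | ∃ w ∈ W, ∃ k : ℤ, (x : X) = w * aa ^ k}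
        one_mem' := ⟨1, W.one_mem, 0, by simp⟩
        mul_mem' := by
          rintro x y ⟨w, hw, k, hx⟩ ⟨w', hw', k', hy⟩
          refine ⟨w * w', W.mul_mem hw hw', k + k', ?_⟩
          rw [Subgroup.coe_mul, hx, hy, zpow_add, show w * aa ^ k * (w' * aa ^ k')
            = w * (aa ^ k * w') * aa ^ k' by group, haW w' hw' k]
          group
        inv_mem' := by
          rintro x ⟨w, hw, k, hx⟩
          refine ⟨w⁻¹, W.inv_mem hw, -k, ?_⟩
          rw [Subgroup.coe_inv, hx, mul_inv_rev, zpow_neg, ← zpow_neg, haW _ (W.inv_mem hw)] }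
    have hWL : ∀ w ∈ W, w ∈ L → u * w * u⁻¹ = w⁻¹ := by
      intro w hw hwL
      have h1 : w * (u * w * u⁻¹) ∈ U ⊓ L := by
        refine ⟨⟨W.mul_mem hw (huW w hw), mem_centralizer_singleton_iff.2 ?_⟩,
          L.mul_mem hwL (d.nL.conj_mem w hwL u)⟩
        have hc := hWc w hw _ (huW w hw)
        have h2 : u * (w * (u * w * u⁻¹)) * u⁻¹ = (u * w * u⁻¹) * w := by
          rw [hui]
          calc u * (w * (u * w * u)) * u = u * w * u * w * (u * u) := by group
            _ = u * w * u * w := by rw [d.u_sq, mul_one]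
        rw [← hc] at h2
        exact (mul_inv_eq_iff_eq_mul.1 h2).symm
      rw [hUL, Subgroup.mem_bot] at h1
      exact eq_inv_of_mul_eq_one_right h1
    have hsplit : ∀ c : L, c ∈ centralizer ({zL} : Set L) → c ∉ K' →
        ∃ w ∈ W, w ∈ L ∧ ∃ k : ℤ, (c : X) = w * (aa ^ k * u) := by
      intro c hc hcK
      obtain ⟨w, hw, q, hq, hcq⟩ := hdec c (d.le c.2)
        (congrArg Subtype.val (mem_centralizer_singleton_iff.1 hc))
      have hwL : w ∈ L := by
        rw [show w = (c : X) * q⁻¹ by rw [hcq, mul_inv_cancel_right]]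
        exact L.mul_mem c.2 (L.inv_mem (hQL q hq))
      rcases hQ q hq with ⟨k, rfl⟩ | ⟨k, rfl⟩
      · exact absurd ⟨w, hw, k, hcq⟩ hcK
      · exact ⟨w, hw, hwL, k, hcq⟩
    have hKL : ∀ x ∈ K', ∃ w ∈ W, w ∈ L ∧ ∃ k : ℤ, (x : X) = w * aa ^ k := by
      rintro x ⟨w, hw, k, hx⟩
      refine ⟨w, hw, ?_, k, hx⟩
      rw [show w = (x : X) * (aa ^ k)⁻¹ by rw [hx, mul_inv_cancel_right]]
      exact L.mul_mem x.2 (L.inv_mem (L.zpow_mem d.aa_mem.2 k))
    have hrefl : ∀ (k k' : ℤ), ∀ w ∈ W, w ∈ L →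
        (aa ^ k * u) * (w * aa ^ k') * (aa ^ k * u)⁻¹ = (w * aa ^ k')⁻¹ := by
      intro k k' w hw hwL
      calc (aa ^ k * u) * (w * aa ^ k') * (aa ^ k * u)⁻¹
          = aa ^ k * ((u * w * u⁻¹) * (u * aa ^ k' * u⁻¹)) * (aa ^ k)⁻¹ := by group
        _ = aa ^ k * (w⁻¹ * aa ^ (-k')) * (aa ^ k)⁻¹ := by
          rw [hWL w hw hwL, ← conj_zpow, d.u_inv, inv_zpow, zpow_neg]
        _ = aa ^ k * w⁻¹ * (aa ^ k)⁻¹ * aa ^ (-k') := by group
        _ = (w * aa ^ k')⁻¹ := by
          rw [haW _ (W.inv_mem hw) k, mul_inv_cancel_right, mul_inv_rev, zpow_neg, ← zpow_neg,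
            haW _ (W.inv_mem hw)]
    refine ⟨K', hzLo, ?_, ?_, ?_, ?_, fun c hc hcK => ?_, fun c hc c' hc' hcK hcK' => ?_, ?_⟩
    · rintro x ⟨w, hw, k, hx⟩
      refine mem_centralizer_singleton_iff.2 (Subtype.ext ?_)
      show (x : X) * z = z * x
      rw [hx, mul_assoc, d.z_cent _ (d.zpow_mem_P k), ← mul_assoc, ((hW w).1 hw).2.1, mul_assoc]
    · obtain ⟨k, hk⟩ := mem_zpowers_iff.1 d.z_pow
      exact ⟨1, W.one_mem, k, by rw [one_mul, hk]⟩
    · rintro x ⟨w, hw, k, hx⟩ y ⟨w', hw', k', hy⟩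
      refine Subtype.ext ?_
      show (x : X) * y = y * x
      rw [hx, hy]
      calc w * aa ^ k * (w' * aa ^ k') = w * (aa ^ k * w') * aa ^ k' := by group
        _ = w * w' * (aa ^ k * aa ^ k') := by rw [haW w' hw' k]; group
        _ = w' * w * (aa ^ k' * aa ^ k) := by rw [hWc w hw w' hw', ← zpow_add, add_comm, zpow_add]
        _ = w' * (w * aa ^ k') * aa ^ k := by group
        _ = w' * (aa ^ k' * w) * aa ^ k := by rw [haW w hw k']
        _ = _ := by group
    · rintro x ⟨w, hw, k, hx⟩ hxx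
      have hx2 : (x : X) * x = 1 := congrArg Subtype.val hxx
      have h1 : w * w = aa ^ (-(2 * k)) := by
        rw [hx, show w * aa ^ k * (w * aa ^ k) = w * (aa ^ k * w) * aa ^ k by group, haW w hw k,
          show w * (w * aa ^ k) * aa ^ k = w * w * aa ^ (2 * k) by group] at hx2
        rw [zpow_neg]; exact eq_inv_of_mul_eq_one_left hx2
      obtain ⟨j, hj⟩ := Element.orderOf_eq_pow_of_mem_isPGroup P.isPGroup' (d.zpow_mem_P (-(2 * k)))
      have hodd := ((hW _).1 (W.mul_mem hw hw)).2.2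
      rw [h1, hj] at hodd
      have hj0 : j = 0 := by
        by_contra h0
        exact absurd hodd (Nat.not_odd_iff_even.2 (even_iff_two_dvd.2 (dvd_pow_self 2 h0)))
      rw [hj0, pow_zero, orderOf_eq_one_iff] at hj
      rw [hj] at h1
      have hw1 : w = 1 := eq_one_of_odd_of_sq ((hW w).1 hw).2.2 h1
      rw [hw1, one_mul] at hx
      rcases d.unique _ (hx ▸ zpow_mem (mem_zpowers aa) k) hx2 with h2 | h2
      · exact Or.inl (Subtype.ext h2)
      · exact Or.inr (Subtype.ext h2)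
    · obtain ⟨w, hw, hwL, k, hck⟩ := hsplit c hc hcK
      have hkk : (aa ^ k * u) * (aa ^ k * u) = 1 := by
        have h := hrefl k 0 1 W.one_mem L.one_mem
        calc (aa ^ k * u) * (aa ^ k * u) = aa ^ k * (u * aa ^ k * u⁻¹) := by
              rw [hui]; group
          _ = 1 := by rw [← conj_zpow, d.u_inv, inv_zpow, mul_inv_cancel]
      have hqi : (aa ^ k * u)⁻¹ = aa ^ k * u := inv_eq_of_mul_eq_one_right hkk
      have hqw := hrefl k 0 w hw hwL
      rw [zpow_zero, mul_one] at hqw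
      refine ⟨Subtype.ext ?_, fun a ha => Subtype.ext ?_⟩
      · show (c : X) * c = 1
        rw [hck]
        calc w * (aa ^ k * u) * (w * (aa ^ k * u))
            = w * ((aa ^ k * u) * w * (aa ^ k * u)⁻¹) * ((aa ^ k * u) * (aa ^ k * u)) := by group
          _ = 1 := by rw [hqw, hkk, mul_inv_cancel, one_mul]
      · obtain ⟨w', hw', hwL', k', hak⟩ := hKL a ha
        show (c : X) * a * (c : X)⁻¹ = (a : X)⁻¹
        rw [hck, hak]
        calc w * (aa ^ k * u) * (w' * aa ^ k') * (w * (aa ^ k * u))⁻¹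
            = w * ((aa ^ k * u) * (w' * aa ^ k') * (aa ^ k * u)⁻¹) * w⁻¹ := by group
          _ = w * (w' * aa ^ k')⁻¹ * w⁻¹ := by rw [hrefl k k' w' hw' hwL']
          _ = (w' * aa ^ k')⁻¹ := by
            refine mul_inv_eq_iff_eq_mul.2 (Commute.inv_right ?_).eq
            exact Commute.mul_right (hWc w hw w' hw') (haW w hw k').symm
    · obtain ⟨w, hw, hwL, k, hck⟩ := hsplit c hc hcK
      obtain ⟨w', hw', hwL', k', hck'⟩ := hsplit c' hc' hcK'
      refine ⟨w * w'⁻¹, W.mul_mem hw (W.inv_mem hw'), k - k', ?_⟩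
      have hqw := hrefl k 0 w' hw' hwL'
      rw [zpow_zero, mul_one] at hqw
      have huu : u * aa ^ k' * u = aa ^ (-k') := by
        have h2 : u * aa ^ k' * u⁻¹ = aa ^ (-k') := by
          rw [← conj_zpow, d.u_inv, inv_zpow, zpow_neg]
        rwa [hui] at h2
      show (c : X) * c' = _
      rw [hck, hck']
      calc w * (aa ^ k * u) * (w' * (aa ^ k' * u))
          = w * ((aa ^ k * u) * w' * (aa ^ k * u)⁻¹) * (aa ^ k * (u * aa ^ k' * u)) := by group
        _ = _ := by rw [hqw, huu, ← zpow_add]; rfl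
    · refine ⟨⟨u, d.u_mem.2⟩, mem_centralizer_singleton_iff.2 (Subtype.ext d.u_z), ?_⟩
      rintro ⟨w, hw, k, hu⟩
      have hu' : u = w * aa ^ k := hu
      have hw1 : w = 1 := by
        have hwP : w ∈ (P : Subgroup X) := by
          rw [show w = u * (aa ^ k)⁻¹ by rw [hu', mul_inv_cancel_right]]
          exact Subgroup.mul_mem _ d.u_mem.1 (Subgroup.inv_mem _ (d.zpow_mem_P k))
        obtain ⟨j, hj⟩ := Element.orderOf_eq_pow_of_mem_isPGroup P.isPGroup' hwP
        have hodd := ((hW w).1 hw).2.2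
        rw [hj] at hodd
        rcases j with - | j
        · rwa [pow_zero, orderOf_eq_one_iff] at hj
        · exact absurd hodd (Nat.not_odd_iff_even.2 (even_iff_two_dvd.2 (dvd_pow_self 2 j.succ_ne_zero)))
      rw [hw1, one_mul] at hu'
      exact d.u_not ⟨k, hu'.symm⟩
  -- `U` is trivial
  have hU0 : U = ⊥ := by
    by_cases h12 : 12 ≤ Nat.card (centralizer ({zL} : Set L))
    · refine hbig (by_contra fun hne => index_lemma R _ d.two_le ⟨iso⟩ hzLo hzR hRz h12 hA
        (M.subgroupOf L) hne ?_ hMone)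
      intro c hc
      exact mem_subgroupOf.2
        (hCM c c.2 (congrArg Subtype.val (mem_centralizer_singleton_iff.1 hc)))
    · -- a small centralizer
      have hWL : W ⊓ L = ⊥ := by
        by_contra h0
        refine h12 ?_
        set Y := (W ⊓ L).subgroupOf L
        have hY3 : 3 ≤ Nat.card Y := by
          rw [Nat.card_congr (subgroupOfEquivOfLe (inf_le_right : W ⊓ L ≤ L)).toEquiv]
          haveI : Nontrivial (W ⊓ L : Subgroup X) := (Subgroup.nontrivial_iff_ne_bot _).2 h0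
          have h1 : 1 < Nat.card (W ⊓ L : Subgroup X) := Finite.one_lt_card
          by_contra hlt
          have h2 : Nat.card (W ⊓ L : Subgroup X) = 2 := by omega
          obtain ⟨⟨x, hx⟩, hxo⟩ :=
            exists_prime_orderOf_dvd_card' (G := (W ⊓ L : Subgroup X)) 2 (by rw [h2])
          rw [← Subgroup.orderOf_coe] at hxo
          have h3 := ((hW x).1 hx.1).2.2
          rw [hxo] at h3
          exact absurd h3 (by decide)
        have hYC : Y ≤ centralizer ({zL} : Set L) := fun y hy => mem_centralizer_singleton_iff.2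
          (Subtype.ext ((hW _).1 (mem_subgroupOf.1 hy).1).2.1)
        let f : Y × (R : Subgroup L) → centralizer ({zL} : Set L) :=
          fun p => ⟨(p.1 : L) * p.2, Subgroup.mul_mem _ (hYC p.1.2) (hRz p.2.2)⟩
        have hf : Function.Injective f := by
          rintro ⟨y₁, q₁⟩ ⟨y₂, q₂⟩ he
          have he' : (y₁ : L) * (q₁ : L) = (y₂ : L) * (q₂ : L) := congrArg Subtype.val he
          have h1 : ((y₂⁻¹ * y₁ : Y) : L) = ((q₂ * q₁⁻¹ : (R : Subgroup L)) : L) := by
            push_cast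
            rw [eq_mul_inv_iff_mul_eq, mul_assoc, he', inv_mul_cancel_left]
          have hodd : Odd (orderOf ((y₂⁻¹ * y₁ : Y) : L)) := by
            rw [← Subgroup.orderOf_coe]
            exact ((hW _).1 (mem_subgroupOf.1 (y₂⁻¹ * y₁).2).1).2.2
          obtain ⟨j, hj⟩ := IsPGroup.iff_orderOf.1 R.isPGroup' (q₂ * q₁⁻¹)
          rw [h1, Subgroup.orderOf_coe, hj] at hodd
          have hj0 : j = 0 := by
            by_contra h0'
            exact absurd hodd (Nat.not_odd_iff_even.2 (even_iff_two_dvd.2 (dvd_pow_self 2 h0')))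
          rw [hj0, pow_zero, orderOf_eq_one_iff, mul_inv_eq_one] at hj
          subst hj
          exact Prod.ext (Subtype.ext (mul_right_cancel he')) rfl
        have hle := Nat.card_le_card_of_injective f hf
        rw [Nat.card_prod, hRcard] at hle
        have := d.two_le
        nlinarith
      have hUL : U ⊓ L = ⊥ := le_bot_iff.1 ((inf_le_inf_right L inf_le_left).trans hWL.le)
      obtain ⟨K', hK'⟩ := hgdc hUL
      obtain ⟨F, i1, i2, hodd, -, ⟨ι⟩⟩ := psl_of_simple d.nonab hK' R hRz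
      have hCp : IsPGroup 2 (centralizer ({zL} : Set L)) := by
        refine R.isPGroup'.to_le fun c hc => ?_
        obtain ⟨w, hw, q, hq, hcq⟩ := hdec c (d.le c.2)
          (congrArg Subtype.val (mem_centralizer_singleton_iff.1 hc))
        have hwL : w ∈ W ⊓ L := ⟨hw, by
          rw [show w = (c : X) * q⁻¹ by rw [hcq, mul_inv_cancel_right]]
          exact L.mul_mem c.2 (L.inv_mem (hQL q hq))⟩
        rw [hWL, Subgroup.mem_bot] at hwL
        rw [hwL, one_mul] at hcq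
        rw [hR, mem_subgroupOf, hcq]
        exact hq.1
      have hq := SelfCentNC.card_cases hodd (x := ι zL)
        (fun h => ne_one_of_orderOf_two hzLo (ι.injective (h.trans (map_one ι).symm)))
        (by rw [← map_mul, sq_of_orderOf_two hzLo, map_one]) (by
          refine (hCp.map ι.toMonoidHom).to_le fun c hc => ?_
          obtain ⟨b, rfl⟩ := ι.surjective c
          refine ⟨b, mem_centralizer_singleton_iff.2 (ι.injective ?_), rfl⟩
          rw [map_mul, map_mul]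
          exact mem_centralizer_singleton_iff.1 hc)
      rw [eq_bot_iff]
      intro x hx
      obtain ⟨-, -, hxo⟩ := (hW x).1 hx.1
      have hxL := mem_of_odd_small ι d.cent (hq.imp id And.left) hxo
      exact hWL.le ⟨hx.1, hxL⟩
  have hNL : N = L := le_antisymm (hNUL.trans (sup_le le_rfl (hU0.le.trans bot_le))) d.le
  obtain ⟨K', hK'⟩ := hgdc (by rw [hU0, bot_inf_eq])
  obtain ⟨F, i1, i2, hodd, h3, ⟨ι⟩⟩ := psl_of_simple d.nonab hK' R hRz
  exact ⟨F, i1, i2, h3,
    pgl_of_index_two ι (hNL ▸ d.idx) d.cent hodd d.rank d.hyp.gdc.sq (hNL ▸ d.notMem)⟩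

end OutData

end Cfsg.Agent.GenDih
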