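import Cfsg.Agent.GenDih.Loc
import Cfsg.Agent.S1230
import Cfsg.Agent.S0205
import Cfsg.Agent.Invol.Basic
import Cfsg.Agent.Signalizer.PAction

/-!
# Reduction for S3322: common setting and the elementary abelian case
-/

set_option autoImplicit false
set_option linter.style.haveILetI false
set_option linter.unusedSectionVars false

namespace Cfsg.Agent.GenDih

open Subgroup
open scoped MatrixGroups

universe u

/-- The conclusion of S3322. -/
def Concl (G : Type u) [Group G] : Prop :=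
  ∃ (N : Subgroup G) (_ : N.Normal), (Odd (Nat.card ↥N) ∨ ∃ m : ℕ, Odd m ∧ Nat.card ↥N = 2 * m) ∧
    ∃ (F : Type) (_ : Field F) (_ : Fintype F), 3 < Fintype.card F ∧
      (Nonempty (G ⧸ N ≃* Matrix.ProjectiveSpecialLinearGroup (Fin 2) F) ∨
        Nonempty (G ⧸ N ≃* Matrix.ProjGenLinGroup (Fin 2) F))

/-- The D-group setting with a non-elementary abelian subgroup of index two. -/
structure DG {G : Type u} [Group G] (H A : Subgroup G) : Prop where
  le : A ≤ H
  comm : ∀ a ∈ A, ∀ b ∈ A, a * b = b * a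
  sq : ∀ x ∈ H, x ∉ A → x * x = 1
  inv : ∀ x ∈ H, x ∉ A → ∀ a ∈ A, x * a * x⁻¹ = a⁻¹
  mul_out : ∀ x ∈ H, x ∉ A → ∀ y ∈ H, y ∉ A → x * y ∈ A
  outside : ∃ x ∈ H, x ∉ A
  nonelem : ∃ a ∈ A, a * a ≠ 1
  four : 4 ∣ Nat.card H
  cent : ∀ j ∈ A, j * j = 1 → j ≠ 1 → centralizer ({j} : Set G) = H
  nsolv : ¬ Group.IsSolvable G

variable {G : Type u} [Group G] [Finite G]

theorem odd_index_of_sylow_le (S : Sylow 2 G) {H : Subgroup G} (h : (S : Subgroup G) ≤ H) :
    Odd H.index := by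
  haveI : Fact (Nat.Prime 2) := ⟨Nat.prime_two⟩
  rw [← Nat.not_even_iff_odd, even_iff_two_dvd]
  exact fun h2 => S.not_dvd_index (h2.trans (Subgroup.index_dvd_of_le h))

/-- A normal solvable subgroup of odd index: the group is solvable. -/
theorem isSolvable_of_normal_odd_index (N : Subgroup G) [N.Normal] (hN : Group.IsSolvable N)
    (hodd : Odd N.index) : Group.IsSolvable G := by
  haveI := hN
  haveI : Group.IsSolvable (G ⧸ N) :=
    Cfsg.Agent.S0205.result (by rw [← Subgroup.index_eq_card]; exact hodd)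
  exact Group.isSolvable_of_ker_le_range N.subtype (QuotientGroup.mk' N)
    (by rw [QuotientGroup.ker_mk', Subgroup.range_subtype])

/-- A 2-subgroup containing `S` and fixed-point controlled equals `S`. -/
theorem sylow_le_of_fixed {H : Subgroup G} {E : Subgroup G} (hE : IsPGroup 2 E)
    (s : Set G) (hodd : Odd (Nat.card s))
    (hconj : ∀ g ∈ normalizer (E : Set G), ∀ x ∈ s, g * x * g⁻¹ ∈ s)
    (hcent : ∀ x ∈ s, centralizer ({x} : Set G) = H) {L : Subgroup G}
    (hLE : ∀ Q : Subgroup G, IsPGroup 2 Q → E ≤ Q → Q ≤ L → Q ≤ H → Q ≤ E)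
    (P : Subgroup G) (hP : IsPGroup 2 P) (hEP : E ≤ P) (hPL : P ≤ L) : P = E := by
  haveI : Fact (Nat.Prime 2) := ⟨Nat.prime_two⟩
  by_contra hne
  haveI : Group.IsNilpotent P := hP.isNilpotent
  have hlt : E.subgroupOf P < ⊤ := by
    rw [lt_top_iff_ne_top]
    exact fun h => hne (le_antisymm (subgroupOf_eq_top.1 h) hEP)
  obtain ⟨g, hg, hgE⟩ := SetLike.exists_of_lt
    (Group.normalizerCondition_of_isNilpotent (G := P) _ hlt)
  set Q := P ⊓ normalizer (E : Set G) with hQ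
  have hgQ : (g : G) ∈ Q := ⟨g.2, by
    refine (TwoFusion.map_conj_eq_self_iff_mem_normalizer E (g : G)).1
      (eq_of_le_of_card_ge ?_ (by rw [card_map_of_injective (MulAut.conj (g : G)).injective]))
    rintro _ ⟨e, he, rfl⟩
    exact (mem_normalizer_iff.1 hg ⟨e, hEP he⟩).1 he⟩
  have hQp : IsPGroup 2 Q := hP.to_le inf_le_left
  obtain ⟨x, hx, hxc⟩ := Signalizer.exists_fixed_of_isPGroup hQp s
    (fun a ha x hx => hconj a ha.2 x hx) hodd.not_two_dvd_nat
  have hQH : Q ≤ H := by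
    rw [← hcent x hx]
    intro a ha
    exact mem_centralizer_singleton_iff.2 (mem_centralizer_iff.1 hxc a ha)
  exact hgE (hLE Q hQp (le_inf hEP le_normalizer) (inf_le_left.trans hPL) hQH hgQ)

/-- Elementary abelian `H`. -/
theorem concl_of_elementary {H : Subgroup G} (h2 : ∀ x ∈ H, x * x = 1) (h4 : 4 ∣ Nat.card H)
    (hC : ∀ j ∈ H, j ≠ 1 → centralizer ({j} : Set G) = H) (hns : ¬ Group.IsSolvable G) :
    Concl G := by
  classical
  haveI : Fact (Nat.Prime 2) := ⟨Nat.prime_two⟩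
  have hH2 : IsPGroup 2 H := fun x => ⟨1, Subtype.ext (by rw [pow_one, pow_two]; exact h2 x x.2)⟩
  have hcomm : ∀ a ∈ H, ∀ b ∈ H, a * b = b * a := by
    intro a ha b hb
    have h := h2 _ (mul_mem ha hb)
    calc a * b = a⁻¹ * b⁻¹ := by
          rw [inv_eq_of_mul_eq_one_right (h2 a ha), inv_eq_of_mul_eq_one_right (h2 b hb)]
      _ = (b * a)⁻¹ := by group
      _ = b * a := inv_eq_of_mul_eq_one_right (h2 _ (mul_mem hb ha))
  obtain ⟨T, hT⟩ := hH2.exists_le_sylow
  have h4le : 4 ≤ Nat.card H := Nat.le_of_dvd Nat.card_pos h4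
  have hsodd : Odd (Nat.card ({x : G | x ∈ H ∧ x ≠ 1} : Set G)) := by
    have hset : ({x : G | x ∈ H ∧ x ≠ 1} : Set G) = (H : Set G) \ {1} := by
      ext x; simp [Set.mem_diff]
    rw [hset, Nat.card_coe_set_eq, Set.ncard_diff_singleton_of_mem (one_mem H),
      ← Nat.card_coe_set_eq]
    have he : Even (Nat.card (H : Set G)) := even_iff_two_dvd.2 (dvd_trans (by norm_num) h4)
    exact Nat.Even.sub_odd Nat.card_pos he odd_one
  have hTH : (T : Subgroup G) = H := sylow_le_of_fixed hH2 {x | x ∈ H ∧ x ≠ 1} hsodd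
    (fun g hg x hx => ⟨(mem_normalizer_iff.1 hg x).1 hx.1, fun e => hx.2 (conj_eq_one_iff.1 e)⟩)
    (fun x hx => hC x hx.1 hx.2) (L := ⊤) (fun Q _ _ _ hQH => hQH)
    T T.isPGroup' hT le_top
  have hnc : ¬ IsCyclic (T : Subgroup G) := by
    intro hc
    haveI := hc
    haveI : Fintype (T : Subgroup G) := Fintype.ofFinite _
    have h3 := IsCyclic.card_pow_eq_one_le (α := (T : Subgroup G)) (show 0 < 2 by norm_num)
    rw [Finset.filter_true_of_mem (fun x _ => Subtype.ext (by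
      rw [Subgroup.coe_pow, pow_two]; exact h2 _ (hTH ▸ x.2 : (x : G) ∈ H))), Finset.card_univ,
      ← Nat.card_eq_fintype_card, hTH] at h3
    omega
  have hnn : ¬ (T : Subgroup G).Normal := by
    intro hn
    haveI := hn
    refine hns (isSolvable_of_normal_odd_index (T : Subgroup G) ?_ (odd_index_of_sylow_le T le_rfl))
    exact Group.isSolvable_of_comm fun a b =>
      Subtype.ext (hcomm _ (hTH ▸ a.2) _ (hTH ▸ b.2))
  obtain ⟨F, i1, i2, hcard, ⟨e⟩⟩ := Cfsg.Agent.S1230.result T hnc hnn (by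
    intro t ht
    obtain ⟨g, hg⟩ := TwoFusion.exists_conj_le_sylow T
      (IsPGroup.of_card (n := 1) (by rw [Nat.card_zpowers, ht, pow_one]) : IsPGroup 2 (zpowers t))
    have hj : g * t * g⁻¹ ∈ H := hTH ▸ hg t (mem_zpowers t)
    have hj1 : g * t * g⁻¹ ≠ 1 := fun e => ne_one_of_orderOf_two ht (conj_eq_one_iff.1 e)
    have hmem : ∀ c ∈ centralizer ({t} : Set G), g * c * g⁻¹ ∈ H := by
      intro c hc
      rw [← hC _ hj hj1, mem_centralizer_singleton_iff]
      calc g * c * g⁻¹ * (g * t * g⁻¹) = g * (c * t) * g⁻¹ := by group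
        _ = g * (t * c) * g⁻¹ := by rw [mem_centralizer_singleton_iff.1 hc]
        _ = _ := by group
    refine ⟨⟨⟨fun a b => Subtype.ext (mul_left_cancel (a := g) (mul_right_cancel (b := g⁻¹) ?_))⟩⟩,
      fun c hc => ?_⟩
    · calc g * ((a : G) * b) * g⁻¹ = g * a * g⁻¹ * (g * b * g⁻¹) := by group
        _ = g * b * g⁻¹ * (g * a * g⁻¹) := hcomm _ (hmem a a.2) _ (hmem b b.2)
        _ = g * ((b : G) * a) * g⁻¹ := by group
        _ = _ := rfl
    · have h5 := h2 _ (hmem c hc)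
      rw [pow_two]
      calc c * c = g⁻¹ * (g * c * g⁻¹ * (g * c * g⁻¹)) * g := by group
        _ = 1 := by rw [h5]; group)
  refine ⟨⊥, inferInstance, Or.inl (by simp), F, i1, i2, ?_, Or.inl ⟨QuotientGroup.quotientBot.trans e⟩⟩
  rw [hcard, show Nat.card T = Nat.card H by rw [← hTH]]
  omega

namespace DG

variable {H A : Subgroup G}

theorem out_inv_eq (h : DG H A) {x : G} (hx : x ∈ H) (hxA : x ∉ A) : x⁻¹ = x :=
  inv_eq_of_mul_eq_one_right (h.sq x hx hxA)

theorem orderOf_out (h : DG H A) {x : G} (hx : x ∈ H) (hxA : x ∉ A) : orderOf x = 2 :=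
  orderOf_eq_prime (by rw [pow_two]; exact h.sq x hx hxA) fun e => hxA (e ▸ one_mem A)

/-- The normalizer of `H` normalises `A`. -/
theorem normalizer_le (h : DG H A) : normalizer (H : Set G) ≤ normalizer (A : Set G) := by
  obtain ⟨a₀, ha₀, ha₀2⟩ := h.nonelem
  have key : ∀ g ∈ normalizer (H : Set G), ∀ a ∈ A, a * a ≠ 1 → g * a * g⁻¹ ∈ A := by
    intro g hg a ha hne
    by_contra hout
    have h1 := h.sq _ ((mem_normalizer_iff.1 hg a).1 (h.le ha)) hout
    have h5 : g * (a * a) * g⁻¹ = 1 := by rw [← h1]; group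
    exact hne (conj_eq_one_iff.1 h5)
  intro g hg
  refine (TwoFusion.map_conj_eq_self_iff_mem_normalizer A g).1
    (eq_of_le_of_card_ge ?_ (by rw [card_map_of_injective (MulAut.conj g).injective]))
  rintro _ ⟨a, ha, rfl⟩
  show g * a * g⁻¹ ∈ A
  by_cases h1 : a * a = 1
  · have h2 : a * a₀ * (a * a₀) ≠ 1 := by
      rw [show a * a₀ * (a * a₀) = a * (a₀ * a) * a₀ by group, h.comm a₀ ha₀ a ha,
        show a * (a * a₀) * a₀ = (a * a) * (a₀ * a₀) by group, h1, one_mul]
      exact ha₀2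
    have h3 := key g hg _ (mul_mem ha ha₀) h2
    have h4 := key g hg a₀ ha₀ ha₀2
    rw [show g * a * g⁻¹ = g * (a * a₀) * g⁻¹ * (g * a₀ * g⁻¹)⁻¹ by group]
    exact mul_mem h3 (inv_mem h4)
  · exact key g hg a ha h1

theorem isSolvable (h : DG H A) : Group.IsSolvable H := by
  haveI hA : (A.subgroupOf H).Normal := ⟨fun a ha g => by
    by_cases hg : (g : G) ∈ A
    · exact mul_mem (mul_mem (show g ∈ A.subgroupOf H from hg) ha) (inv_mem (show g ∈ A.subgroupOf H from hg))
    · rw [mem_subgroupOf] at ha ⊢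
      push_cast
      rw [h.inv g g.2 hg a ha]
      exact inv_mem ha⟩
  haveI : Group.IsSolvable (A.subgroupOf H) := Group.isSolvable_of_comm fun a b =>
    Subtype.ext (Subtype.ext (h.comm _ (mem_subgroupOf.1 a.2) _ (mem_subgroupOf.1 b.2)))
  haveI : Group.IsSolvable (H ⧸ A.subgroupOf H) := Group.isSolvable_of_comm fun a b => by
    induction a using QuotientGroup.induction_on with | _ a =>
    induction b using QuotientGroup.induction_on with | _ b =>
    by_cases ha : (a : G) ∈ A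
    · rw [(QuotientGroup.eq_one_iff a).2 (mem_subgroupOf.2 ha), one_mul, mul_one]
    by_cases hb : (b : G) ∈ A
    · rw [(QuotientGroup.eq_one_iff b).2 (mem_subgroupOf.2 hb), one_mul, mul_one]
    rw [← QuotientGroup.mk_mul, ← QuotientGroup.mk_mul,
      (QuotientGroup.eq_one_iff _).2 (mem_subgroupOf.2 (h.mul_out a a.2 ha b b.2 hb)),
      (QuotientGroup.eq_one_iff _).2 (mem_subgroupOf.2 (h.mul_out b b.2 hb a a.2 ha))]
  exact Group.isSolvable_of_ker_le_range (A.subgroupOf H).subtype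
    (QuotientGroup.mk' (A.subgroupOf H)) (by rw [QuotientGroup.ker_mk', Subgroup.range_subtype])

/-- The subgroup of elements of square one of `A`. -/
def omega (h : DG H A) : Subgroup G where
  carrier := {a | a ∈ A ∧ a * a = 1}
  one_mem' := ⟨one_mem A, one_mul 1⟩
  mul_mem' := by
    rintro a b ⟨ha, ha2⟩ ⟨hb, hb2⟩
    refine ⟨mul_mem ha hb, ?_⟩
    rw [show a * b * (a * b) = a * (b * a) * b by group, h.comm b hb a ha,
      show a * (a * b) * b = (a * a) * (b * b) by group, ha2, hb2, mul_one]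
  inv_mem' := by
    rintro a ⟨ha, ha2⟩
    exact ⟨inv_mem ha, by rw [← mul_inv_rev, ha2, inv_one]⟩

theorem mem_omega (h : DG H A) {a : G} : a ∈ h.omega ↔ a ∈ A ∧ a * a = 1 := Iff.rfl

theorem cent_omega (h : DG H A) {j : G} (hj : j ∈ h.omega) (hj1 : j ≠ 1) :
    centralizer ({j} : Set G) = H := h.cent j hj.1 hj.2 hj1

/-- Involutions of `H` are in `Ω` or outside `A`. -/
theorem mem_omega_of_inv (h : DG H A) {x : G} (_hx : x ∈ H) (hxA : x ∈ A) (ho : orderOf x = 2) :
    x ∈ h.omega := ⟨hxA, sq_of_orderOf_two ho⟩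

theorem omega_central (h : DG H A) {w x : G} (hw : w ∈ h.omega) (hx : x ∈ H) : x * w = w * x := by
  by_cases hxA : x ∈ A
  · exact h.comm x hxA w hw.1
  · have := h.inv x hx hxA w hw.1
    rw [inv_eq_of_mul_eq_one_right hw.2, mul_inv_eq_iff_eq_mul] at this
    exact this

theorem normalizer_omega (h : DG H A) : normalizer (H : Set G) ≤ normalizer (h.omega : Set G) := by
  intro g hg
  refine (TwoFusion.map_conj_eq_self_iff_mem_normalizer h.omega g).1
    (eq_of_le_of_card_ge ?_ (by rw [card_map_of_injective (MulAut.conj g).injective]))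
  rintro _ ⟨a, ⟨ha, ha2⟩, rfl⟩
  refine ⟨(mem_normalizer_iff.1 (h.normalizer_le hg) a).1 ha, ?_⟩
  show g * a * g⁻¹ * (g * a * g⁻¹) = 1
  rw [show g * a * g⁻¹ * (g * a * g⁻¹) = g * (a * a) * g⁻¹ by group, ha2]; group

/-- If `g` maps one nontrivial element of `Ω` into `Ω`, it normalises `H`. -/
theorem mem_normalizer_of_conj (h : DG H A) {g f : G} (hf : f ∈ h.omega) (hf1 : f ≠ 1)
    (hgf : g * f * g⁻¹ ∈ h.omega) : g ∈ normalizer (H : Set G) := by
  have h1 := h.cent_omega hf hf1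
  have h2 := h.cent_omega hgf fun e => hf1 (conj_eq_one_iff.1 e)
  refine (TwoFusion.map_conj_eq_self_iff_mem_normalizer H g).1
    (eq_of_le_of_card_ge ?_ (by rw [card_map_of_injective (MulAut.conj g).injective]))
  rintro _ ⟨x, hx, rfl⟩
  have hxf : x * f = f * x := mem_centralizer_singleton_iff.1 (h1.symm ▸ hx)
  refine h2.le (mem_centralizer_singleton_iff.2 ?_)
  show g * x * g⁻¹ * (g * f * g⁻¹) = g * f * g⁻¹ * (g * x * g⁻¹)
  calc g * x * g⁻¹ * (g * f * g⁻¹) = g * (x * f) * g⁻¹ := by group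
    _ = g * (f * x) * g⁻¹ := by rw [hxf]
    _ = _ := by group

theorem exists_omega_ne_one (h : DG H A) : ∃ e ∈ h.omega, e ≠ 1 := by
  haveI : Fact (Nat.Prime 2) := ⟨Nat.prime_two⟩
  obtain ⟨r, hr, hrA⟩ := h.outside
  have hidx : (A.subgroupOf H).index = 2 := by
    rw [Subgroup.index_eq_two_iff']
    refine ⟨⟨r, hr⟩, fun b => ?_⟩
    by_cases hb : (b : G) ∈ A
    · refine Or.inr ⟨hb, fun hh => hrA ?_⟩
      have h1 : r * b ∈ A := mem_subgroupOf.1 hh
      simpa using A.mul_mem h1 (A.inv_mem hb)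
    · exact Or.inl ⟨h.mul_out r hr hrA b b.2 hb, hb⟩
  have h2 : 2 ∣ Nat.card A := by
    have h1 := Subgroup.card_mul_index (A.subgroupOf H)
    rw [hidx, Nat.card_congr (subgroupOfEquivOfLe h.le).toEquiv] at h1
    obtain ⟨c, hc⟩ := h.four
    exact ⟨c, by omega⟩
  obtain ⟨e, he⟩ := exists_prime_orderOf_dvd_card' (G := A) 2 h2
  have heo : orderOf (e : G) = 2 := by rw [Subgroup.orderOf_coe]; exact he
  exact ⟨e, ⟨e.2, sq_of_orderOf_two heo⟩, ne_one_of_orderOf_two heo⟩

/-- `H` is not normal. -/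
theorem not_normal (h : DG H A) (S : Sylow 2 G) (hS : (S : Subgroup G) ≤ H) : ¬ H.Normal := fun hn =>
  h.nsolv (by haveI := hn; exact isSolvable_of_normal_odd_index H h.isSolvable (odd_index_of_sylow_le S hS))

end DG

end Cfsg.Agent.GenDih
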