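import Cfsg.Agent.GenDih.CaseIn
import Cfsg.Agent.GenDih.CaseOut
import Cfsg.Agent.S0204
import Cfsg.Agent.GenDih.RedBase
import Cfsg.Agent.Coprime.Action
import Cfsg.Agent.TwoFusion.IsolatedCenter

/-!
# The case `|Ω| = 2`
-/

set_option autoImplicit false
set_option linter.style.haveILetI false
set_option linter.unusedSectionVars false

namespace Cfsg.Agent.GenDih

open Subgroup
open Cfsg.Agent.TwoGroups
open scoped MatrixGroups

universe u

/-- The non-2-central case. -/
theorem Hyp.isPslPgl_out {X : Type u} [Group X] [Finite X] {e : X} {K : Subgroup X} (h : Hyp e K)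
    (hno : ∀ S : Sylow 2 X, ¬ (S : Subgroup X) ≤ centralizer {e}) : IsPslPgl X := by
  classical
  haveI : Fact (Nat.Prime 2) := ⟨Nat.prime_two⟩
  obtain ⟨P, n, a, b, r, hd, heP, hai, t⟩ := h.exists_two_out hno
  set z := TwoFusion.MC.zG n a with hz
  obtain ⟨L, hLn, hsimple, hnc, hzL, hLc, -, hone⟩ := h.exists_simple t
  haveI := hLn
  haveI := hsimple
  have hee := h.gdc.sq
  have hei : e⁻¹ = e := inv_of_orderOf_two h.gdc.inv
  have hze : z ≠ e := fun h0 => hno P fun p hp =>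
    mem_centralizer_singleton_iff.2 (h0 ▸ t.central p hp)
  -- `e` is outside `L`
  have heL : e ∉ L := by
    intro heL
    obtain ⟨l, hl, hle⟩ := hone e heL h.gdc.inv
    refine hno (l⁻¹ • P) fun x hx => ?_
    rw [Sylow.coe_subgroup_smul] at hx
    obtain ⟨p, hp, rfl⟩ := hx
    have h1 := t.central p hp
    rw [← hle] at h1
    refine mem_centralizer_singleton_iff.2 ?_
    show l⁻¹ * p * (l⁻¹)⁻¹ * e = e * (l⁻¹ * p * (l⁻¹)⁻¹)
    calc l⁻¹ * p * (l⁻¹)⁻¹ * e = l⁻¹ * (p * (l * e * l⁻¹)) * l := by group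
      _ = l⁻¹ * ((l * e * l⁻¹) * p) * l := by rw [h1]
      _ = _ := by group
  -- coordinates of `e`
  have heA : (⟨e, heP⟩ : (P : Subgroup X)) ∉ zpowers a := by
    rintro ⟨i, hi⟩
    exact hai i (by
      have := congrArg Subtype.val hi
      rwa [Subgroup.coe_zpow] at this)
  obtain ⟨i, hi⟩ := hd.toCyclicExt.exists_eq_of_notMem heA
  have hie : e = ((a ^ i * b : (P : Subgroup X)) : X) := congrArg Subtype.val hi
  -- an involution of `L ∩ P` outside `⟨a⟩`
  obtain ⟨u, huP, huL, huu, huA⟩ : ∃ u, ∃ huP : u ∈ (P : Subgroup X), u ∈ L ∧ u * u = 1 ∧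
      (⟨u, huP⟩ : (P : Subgroup X)) ∉ zpowers a := by
    obtain ⟨E, hE⟩ := Cfsg.Agent.S0204.result (G := L) (fun hc => hnc (by
      haveI := hc; exact fun x y => mul_comm' x y))
    have hsq : ∀ x ∈ E, x * x = 1 := fun x hx =>
      congrArg Subtype.val (IsKleinFour.mul_self (⟨x, hx⟩ : E))
    have hQp : IsPGroup 2 ((P : Subgroup X).subgroupOf L) :=
      P.isPGroup'.comap_of_injective L.subtype L.subtype_injective
    obtain ⟨g, hg⟩ := TwoFusion.exists_conj_le_sylow (hQp.toSylow (not_dvd_relIndex_normal P L))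
      (IsPGroup.of_card (n := 2) (by rw [hE.card_four]; norm_num) : IsPGroup 2 E)
    obtain ⟨x, y, hx, hy, hx1, hy1, hxy⟩ :
        ∃ x y : L, x ∈ E ∧ y ∈ E ∧ x ≠ 1 ∧ y ≠ 1 ∧ x ≠ y := by
      haveI := Fintype.ofFinite E
      have h4 : Fintype.card E = 4 := by rw [← Nat.card_eq_fintype_card]; exact hE.card_four
      obtain ⟨x, hx⟩ := Fintype.exists_ne_of_one_lt_card (by omega) (1 : E)
      obtain ⟨y, hy⟩ : ∃ y : E, y ∉ ({1, x} : Finset E) := by
        by_contra hall
        push Not at hall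
        have h1 := Finset.card_le_card (fun y (_ : y ∈ (Finset.univ : Finset E)) => hall y)
        rw [Finset.card_univ, h4] at h1
        exact absurd (h1.trans Finset.card_le_two) (by norm_num)
      simp only [Finset.mem_insert, Finset.mem_singleton, not_or] at hy
      exact ⟨x, y, x.2, y.2, fun h0 => hx (Subtype.ext h0), fun h0 => hy.1 (Subtype.ext h0),
        fun h0 => hy.2 (Subtype.ext h0.symm)⟩
    have hfP : ∀ v ∈ E, ((g * v * g⁻¹ : L) : X) ∈ (P : Subgroup X) := fun v hv => hg v hv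
    have hfsq : ∀ v ∈ E, ((g * v * g⁻¹ : L) : X) * ((g * v * g⁻¹ : L) : X) = 1 := fun v hv => by
      rw [← Subgroup.coe_mul, show g * v * g⁻¹ * (g * v * g⁻¹) = g * (v * v) * g⁻¹ by group,
        hsq v hv, mul_one, mul_inv_cancel, Subgroup.coe_one]
    have hfA : ∀ v, ∀ hv : v ∈ E, v ≠ 1 →
        (⟨_, hfP v hv⟩ : (P : Subgroup X)) ∈ zpowers a → ((g * v * g⁻¹ : L) : X) = z := by
      intro v hv hv1 hA
      refine (t.unique _ (mem_map_of_mem _ hA) (hfsq v hv)).resolve_left fun h0 => hv1 ?_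
      exact conj_eq_one_iff.1 (Subtype.ext h0 : g * v * g⁻¹ = 1)
    by_cases hxA : (⟨_, hfP x hx⟩ : (P : Subgroup X)) ∈ zpowers a
    · refine ⟨_, hfP y hy, (g * y * g⁻¹).2, hfsq y hy, fun hyA => hxy ?_⟩
      have h1 := (hfA x hx hx1 hxA).trans (hfA y hy hy1 hyA).symm
      exact mul_left_cancel (mul_right_cancel (Subtype.ext h1 : g * x * g⁻¹ = g * y * g⁻¹))
    · exact ⟨_, hfP x hx, (g * x * g⁻¹).2, hfsq x hx, hxA⟩
  obtain ⟨j, hj⟩ := hd.toCyclicExt.exists_eq_of_notMem huA
  have hju : u = ((a ^ j * b : (P : Subgroup X)) : X) := congrArg Subtype.val hj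
  -- conjugation inside `P`
  have hconjL : ∀ p q : (P : Subgroup X), (p : X) ∈ L → ∀ k, k * p * k⁻¹ = q → (q : X) ∈ L := by
    intro p q hp k hk
    rw [← hk]
    exact hLn.conj_mem _ hp k
  have hij : ¬ (2 : ℤ) ∣ i - j := by
    intro hdvd
    obtain ⟨k, hk⟩ := hd.exists_conj_eq j i
      (by rw [← neg_sub]; exact (dvd_neg).2 hdvd)
    exact heL (hie ▸ hconjL _ _ (hju ▸ huL) _ hk)
  set aa := ((a ^ (2 : ℤ) : (P : Subgroup X)) : X) with haa
  have haaP : ∀ m : ℤ, ((a ^ (2 * m) : (P : Subgroup X)) : X) = aa ^ m := by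
    intro m
    rw [haa, ← Subgroup.coe_zpow, ← zpow_mul]
  have haaL : aa ∈ L := by
    obtain ⟨k, hk⟩ := hd.exists_conj_eq j (j + 2) (by simp)
    have h1 := hconjL _ _ (hju ▸ huL) _ hk
    have h2 := L.mul_mem h1 (L.inv_mem (hju ▸ huL))
    rw [← Subgroup.coe_inv, ← Subgroup.coe_mul,
      show a ^ (j + 2) * b * (a ^ j * b)⁻¹ = a ^ (2 : ℤ) by group] at h2
    exact h2
  -- every element of `P` lies in `⟨aa, u⟩` or in its coset by `e`
  have hpar : ∀ p ∈ (P : Subgroup X), ∃ m : ℤ,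
      p = aa ^ m ∨ p = aa ^ m * u ∨ p = aa ^ m * e ∨ p = aa ^ m * u * e := by
    intro p hp
    rcases hd.toCyclicExt.exists_eq (⟨p, hp⟩ : (P : Subgroup X)) with ⟨k, hk⟩ | ⟨k, hk⟩
    · have hk' : p = ((a ^ k : (P : Subgroup X)) : X) := congrArg Subtype.val hk
      rcases Int.even_or_odd k with ⟨m, hm⟩ | ⟨m, hm⟩
      · refine ⟨m, Or.inl ?_⟩
        rw [← haaP, hk', hm, two_mul]
      · obtain ⟨q, hq⟩ : ∃ q, j - i = 2 * q + 1 := ⟨(j - i - 1) / 2, by omega⟩
        refine ⟨m - q, Or.inr (Or.inr (Or.inr ?_))⟩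
        rw [← haaP, hju, ← hei, hie, ← Subgroup.coe_inv, ← Subgroup.coe_mul, ← Subgroup.coe_mul,
          hk']
        congr 1
        rw [show k = 2 * (m - q) + (j - i) by omega]
        group
    · have hk' : p = ((a ^ k * b : (P : Subgroup X)) : X) := congrArg Subtype.val hk
      by_cases hkj : (2 : ℤ) ∣ k - j
      · obtain ⟨m, hm⟩ := hkj
        refine ⟨m, Or.inr (Or.inl ?_)⟩
        rw [← haaP, hju, ← Subgroup.coe_mul, hk', show k = 2 * m + j by omega, zpow_add, mul_assoc]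
      · obtain ⟨m, hm⟩ : (2 : ℤ) ∣ k - i := by omega
        refine ⟨m, Or.inr (Or.inr (Or.inl ?_))⟩
        rw [← haaP, hie, ← Subgroup.coe_mul, hk', show k = 2 * m + i by omega, zpow_add, mul_assoc]
  -- the quotient by `L`
  set π := QuotientGroup.mk' L with hπ
  have hπL : ∀ x ∈ L, π x = 1 := fun x hx => (QuotientGroup.eq_one_iff x).2 hx
  have hπe1 : π e ≠ 1 := fun h0 => heL ((QuotientGroup.eq_one_iff e).1 h0)
  have hπP : ∀ p ∈ (P : Subgroup X), π p = 1 ∨ π p = π e := by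
    intro p hp
    obtain ⟨m, hm | hm | hm | hm⟩ := hpar p hp
    · exact Or.inl (hπL p (hm ▸ L.zpow_mem haaL m))
    · exact Or.inl (hπL p (hm ▸ L.mul_mem (L.zpow_mem haaL m) huL))
    · right; rw [hm, map_mul, hπL _ (L.zpow_mem haaL m), one_mul]
    · right; rw [hm, map_mul, hπL _ (L.mul_mem (L.zpow_mem haaL m) huL), one_mul]
  set Pb := P.mapSurjective (QuotientGroup.mk'_surjective L) with hPb
  have hπe : orderOf (π e) = 2 := orderOf_eq_prime (by rw [pow_two, ← map_mul, hee, map_one]) hπe1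
  have hPbeq : (Pb : Subgroup (X ⧸ L)) = zpowers (π e) := by
    show (P : Subgroup X).map π = zpowers (π e)
    refine le_antisymm ?_ (zpowers_le.2 (mem_map_of_mem _ heP))
    rintro _ ⟨p, hp, rfl⟩
    rcases hπP p hp with h0 | h0 <;> rw [h0]
    · exact Subgroup.one_mem _
    · exact mem_zpowers _
  have hPb2 : Nat.card (Pb : Subgroup (X ⧸ L)) = 2 := by rw [hPbeq, Nat.card_zpowers, hπe]
  have hev : 2 ∣ Nat.card (X ⧸ L) := hπe ▸ orderOf_dvd_natCard (π e)
  have hcyc : IsCyclic (Pb : Subgroup (X ⧸ L)) := isCyclic_of_prime_card (p := 2) hPb2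
  have hctr := IsCyclic.normalizer_le_centralizer (P := Pb) ((Nat.minFac_eq_two_iff _).2 hev) hcyc
  set f := MonoidHom.transferSylow Pb hctr with hf
  have hfidx : f.ker.index = 2 := by
    rw [(MonoidHom.ker_transferSylow_isComplement' Pb hctr).symm.index_eq_card, hPb2]
  have hfe : π e ∉ f.ker := fun h0 => MonoidHom.not_dvd_card_ker_transferSylow Pb hctr
    (hπe.symm.dvd.trans (Subgroup.orderOf_dvd_natCard f.ker h0))
  set N := f.ker.comap π with hN
  haveI hNn : N.Normal := inferInstance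
  have hNidx : N.index = 2 := by
    rw [hN, Subgroup.index_comap_of_surjective _ (QuotientGroup.mk'_surjective L), hfidx]
  have hLN : L ≤ N := fun x hx => by
    rw [hN, mem_comap, hπL x hx]; exact Subgroup.one_mem _
  have heN : e ∉ N := hfe
  have hzpow : z ∈ zpowers aa := by
    refine ⟨((2 ^ (n - 2) : ℕ) : ℤ), ?_⟩
    show aa ^ _ = z
    rw [← haaP, hz]
    show _ = ((a ^ (2 ^ (n - 1)) : (P : Subgroup X)) : X)
    congr 1
    rw [← zpow_natCast a (2 ^ (n - 1))]
    congr 1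
    have h2 := hd.two_le
    have h3 : 2 ^ (n - 1) = 2 * 2 ^ (n - 2) := by rw [← pow_succ']; congr 1; omega
    rw [h3]; push_cast; ring
  have d : OutData e K P L N z aa u :=
    { hyp := h, nL := hLn, simple := hsimple, nonab := hnc, cent := hLc, one := hone, nN := hNn
      le := hLN, idx := hNidx, notMem := heN, e_mem := heP, z_inv := t.inv, z_mem := hzL
      z_cent := t.central, z_ne := hze, aa_mem := ⟨(a ^ (2 : ℤ)).2, haaL⟩, u_mem := ⟨huP, huL⟩
      u_sq := huu
      u_inv := by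
        rw [haa, hju, ← Subgroup.coe_inv, ← Subgroup.coe_mul, ← Subgroup.coe_mul, ← Subgroup.coe_inv]
        congr 1
        calc a ^ j * b * a ^ (2 : ℤ) * (a ^ j * b)⁻¹
            = a ^ j * (b * a ^ (2 : ℤ) * b⁻¹) * (a ^ j)⁻¹ := by group
          _ = (a ^ (2 : ℤ))⁻¹ := by rw [hd.zpow_conj_eq_neg (dvd_refl 2)]; group
      u_not := by
        rintro ⟨m, hm⟩
        refine huA ⟨2 * m, Subtype.ext ?_⟩
        show ((a ^ (2 * m) : (P : Subgroup X)) : X) = u
        rw [haaP]; exact hm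
      z_pow := hzpow
      cases := by
        intro p hp hpN
        have hs : ∀ m : ℤ, aa ^ m ∈ zpowers aa := fun m => zpow_mem (mem_zpowers aa) m
        have hne : ∀ s ∈ N, s * e ∉ N := fun s hs' h0 => heN (by
          simpa using N.mul_mem (N.inv_mem hs') h0)
        obtain ⟨m, hm | hm | hm | hm⟩ := hpar p hp
        · exact Or.inl (hm ▸ hs m)
        · refine Or.inr ?_
          rw [hm, mul_assoc, huu, mul_one]
          exact hs m
        · exact absurd (hm ▸ hpN) (hne _ (N.zpow_mem (hLN haaL) m))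
        · exact absurd (hm ▸ hpN) (hne _ (N.mul_mem (N.zpow_mem (hLN haaL) m) (hLN huL)))
      unique := by
        rintro x ⟨m, rfl⟩ hxx
        refine t.unique _ ⟨a ^ (2 * m), Subgroup.zpow_mem_zpowers a _, ?_⟩ hxx
        exact haaP m
      e_conj := by
        obtain ⟨k, hk⟩ := hd.exists_conj_eq i (i + 2) (by simp)
        refine ⟨((a ^ k : (P : Subgroup X)) : X), (a ^ k).2, ?_⟩
        rw [hie, haa, ← Subgroup.coe_inv, ← Subgroup.coe_mul, ← Subgroup.coe_mul, ← Subgroup.coe_mul,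
          hk]
        congr 1
        group
      rank := t.rankTwo }
  obtain ⟨F, i1, i2, h3, hiso⟩ := d.isPgl
  exact ⟨F, i1, i2, h3, Or.inr hiso⟩

/-- A generalised dihedral centralizer in a nonsolvable group with trivial odd core. -/
theorem isPslPgl_of_gdc {X : Type u} [Group X] [Finite X] {e : X} {K : Subgroup X} (h : GDC e K)
    (hcore : ∀ N : Subgroup X, N.Normal → Odd (Nat.card N) → N = ⊥)
    (hns : ¬ Group.IsSolvable X) : IsPslPgl X := by
  classical
  by_cases hk : ∀ k ∈ K, k * k = 1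
  · exact isPslPgl_of_small h hns hk
  push Not at hk
  have hH : Hyp e K := ⟨h, hcore, hns, hk⟩
  by_cases hS : ∃ S : Sylow 2 X, (S : Subgroup X) ≤ centralizer {e}
  · obtain ⟨S, hS⟩ := hS
    exact hH.isPslPgl_in S hS
  · push Not at hS
    exact hH.isPslPgl_out hS

/-- `|Ω| = 2`. -/
theorem DG.concl_of_omega_two {G : Type u} [Group G] [Finite G] {H A : Subgroup G} (h : DG H A)
    (h2 : Nat.card h.omega = 2) : Concl G := by
  classical
  obtain ⟨e, he, he1⟩ := h.exists_omega_ne_one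
  have hCe := h.cent_omega he he1
  have heo : orderOf e = 2 := orderOf_eq_prime (by rw [pow_two]; exact he.2) he1
  have huniq : ∀ a ∈ A, a * a = 1 → a = 1 ∨ a = e := by
    intro a ha ha2
    by_contra hne
    push Not at hne
    haveI := Fintype.ofFinite h.omega
    have h3 : ({1, ⟨e, he⟩, ⟨a, ha, ha2⟩} : Finset h.omega).card = 3 := by
      rw [Finset.card_insert_of_notMem, Finset.card_insert_of_notMem, Finset.card_singleton]
      · simp [Subtype.ext_iff, Ne.symm hne.2]
      · simp [Subtype.ext_iff, Ne.symm he1, Ne.symm hne.1]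
    have h4 := Finset.card_le_univ ({1, ⟨e, he⟩, ⟨a, ha, ha2⟩} : Finset h.omega)
    rw [h3, ← Nat.card_eq_fintype_card, h2] at h4
    omega
  set O := Cfsg.oddCore G with hO
  haveI hOn : O.Normal := by rw [hO]; infer_instance
  have hOodd : Odd (Nat.card O) := TwoFusion.odd_card_oddCore
  set π := QuotientGroup.mk' O with hπ
  have hker : ∀ x ∈ O, Odd (orderOf x) := fun x hx =>
    hOodd.of_dvd_nat (Subgroup.orderOf_dvd_natCard O hx)
  have hnsQ : ¬ Group.IsSolvable (G ⧸ O) := by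
    intro hs
    haveI := hs
    haveI : Group.IsSolvable O := Cfsg.Agent.S0205.result hOodd
    exact h.nsolv (Group.isSolvable_of_ker_le_range O.subtype π
      (by rw [hπ, QuotientGroup.ker_mk', Subgroup.range_subtype]))
  have hcent : centralizer ({π e} : Set (G ⧸ O)) = H.map π := by
    have h1 := Coprime.centralizer_map_mk' (zpowers e) O
      (by rw [Nat.card_zpowers, heo]; exact hOodd.coprime_two_left)
      (Or.inr (Cfsg.Agent.S0205.result hOodd))
    rw [MonoidHom.map_zpowers, zpowers_eq_closure, centralizer_closure, zpowers_eq_closure,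
      centralizer_closure, hCe] at h1
    exact h1
  have hout : ∀ c ∈ H.map π, c ∉ A.map π → ∃ x ∈ H, x ∉ A ∧ π x = c := by
    rintro _ ⟨x, hx, rfl⟩ hc
    exact ⟨x, hx, fun hxA => hc (mem_map_of_mem π hxA), rfl⟩
  have hg : GDC (π e) (A.map π) := by
    refine ⟨?_, ?_, mem_map_of_mem π he.1, ?_, ?_, ?_, ?_, ?_⟩
    · refine orderOf_eq_prime (by rw [pow_two, ← map_mul, he.2, map_one]) fun h0 => ?_
      have h1 := hker e ((QuotientGroup.eq_one_iff e).1 h0)
      rw [heo] at h1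
      exact absurd h1 (by decide)
    · rw [hcent]; exact map_mono h.le
    · rintro _ ⟨a, ha, rfl⟩ _ ⟨b, hb, rfl⟩
      rw [← map_mul, ← map_mul, h.comm a ha b hb]
    · rintro _ ⟨a, ha, rfl⟩ h1
      rw [← map_mul] at h1
      have h3 := hker _ ((QuotientGroup.eq_one_iff _).1 h1)
      obtain ⟨j, hj⟩ := h3
      set m := 2 * j + 1 with hm
      have hsq : a ^ m * a ^ m = 1 := by
        rw [← pow_add, ← two_mul, pow_mul, pow_two, ← hj, pow_orderOf_eq_one]
      have hπ2 : π a * π a = 1 := by rw [← map_mul]; exact h1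
      have hπm : π (a ^ m) = π a := by
        rw [map_pow, hm, pow_succ, pow_mul, pow_two, hπ2, one_pow, one_mul]
      rcases huniq _ (A.pow_mem ha m) hsq with h4 | h4
      · left; rw [← hπm, h4, map_one]
      · right; rw [← hπm, h4]
    · intro c hc hcA
      obtain ⟨x, hx, hxA, rfl⟩ := hout c (hcent ▸ hc) hcA
      refine ⟨by rw [← map_mul, h.sq x hx hxA, map_one], ?_⟩
      rintro _ ⟨a, ha, rfl⟩
      rw [← map_inv, ← map_mul, ← map_mul, h.inv x hx hxA a ha, map_inv]
    · intro c hc d hd hcA hdA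
      obtain ⟨x, hx, hxA, rfl⟩ := hout c (hcent ▸ hc) hcA
      obtain ⟨y, hy, hyA, rfl⟩ := hout d (hcent ▸ hd) hdA
      rw [← map_mul]
      exact mem_map_of_mem π (h.mul_out x hx hxA y hy hyA)
    · obtain ⟨x, hx, hxA⟩ := h.outside
      refine ⟨π x, hcent ▸ mem_map_of_mem π hx, ?_⟩
      rintro ⟨a, ha, hax⟩
      have h1 : a⁻¹ * x ∈ O := QuotientGroup.eq.1 hax
      have hout' : a⁻¹ * x ∉ A := fun h0 => hxA (by simpa using A.mul_mem ha h0)
      have h2' := h.sq _ (H.mul_mem (H.inv_mem (h.le ha)) hx) hout'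
      exact hout' (eq_one_of_odd_of_sq (hker _ h1) h2' ▸ A.one_mem)
  obtain ⟨F, i1, i2, h3, hiso⟩ := isPslPgl_of_gdc hg (fun N hN hodd => by
    have h0 : Cfsg.oddCore (G ⧸ O) = ⊥ := TwoFusion.oddCore_quotient_eq_bot
    exact eq_bot_iff.2 ((Cores.le_oddCore hN hodd).trans h0.le)) hnsQ
  exact ⟨O, hOn, Or.inl hOodd, F, i1, i2, h3, hiso⟩

end Cfsg.Agent.GenDih
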