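import Cfsg.Agent.GenDih.Loc
import Cfsg.Agent.S3277
import Cfsg.Agent.S0205
import Cfsg.Agent.PermP.ZassCore
import Cfsg.Agent.Invol.IndexTwo

/-!
# Nonsolvable groups with an involution whose centralizer is a four-group

Such a group is the alternating group of degree five.
-/

set_option autoImplicit false
set_option linter.style.haveILetI false
set_option linter.unusedSectionVars false

namespace Cfsg.Agent.GenDih

open Subgroup

universe u

/-- A group with cyclic Sylow 2-subgroups is solvable. -/
theorem isSolvable_of_cyclic_sylow {X : Type u} [Group X] [Finite X] (P : Sylow 2 X)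
    (hcyc : IsCyclic (P : Subgroup X)) : Group.IsSolvable X := by
  haveI : Fact (Nat.Prime 2) := ⟨Nat.prime_two⟩
  rcases Nat.even_or_odd (Nat.card X) with hev | hodd
  swap
  · exact Cfsg.Agent.S0205.result hodd
  have hmf : (Nat.card X).minFac = 2 := (Nat.minFac_eq_two_iff _).2 (even_iff_two_dvd.1 hev)
  have hc := IsCyclic.normalizer_le_centralizer (P := P) hmf hcyc
  set f := MonoidHom.transferSylow P hc with hf
  haveI : Group.IsSolvable f.ker := Cfsg.Agent.S0205.result (by
    rw [← Nat.not_even_iff_odd, even_iff_two_dvd]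
    exact MonoidHom.not_dvd_card_ker_transferSylow P hc)
  haveI : Group.IsSolvable (P : Subgroup X) := by
    haveI : Group.IsNilpotent (P : Subgroup X) := P.isPGroup'.isNilpotent
    infer_instance
  exact Group.isSolvable_of_ker_le_range f.ker.subtype f (by rw [Subgroup.range_subtype])

/-- A group with Sylow 2-subgroups of order at most two is solvable. -/
theorem isSolvable_of_sylow_le_two {X : Type u} [Group X] [Finite X] (P : Sylow 2 X)
    (hP : Nat.card (P : Subgroup X) ≤ 2) : Group.IsSolvable X := by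
  haveI : Fact (Nat.Prime 2) := ⟨Nat.prime_two⟩
  refine isSolvable_of_cyclic_sylow P ?_
  obtain ⟨k, hk⟩ := IsPGroup.iff_card.1 P.isPGroup'
  rcases k with - | - | k
  · haveI : Subsingleton (P : Subgroup X) :=
      (Nat.card_eq_one_iff_unique.1 (by simpa using hk)).1
    infer_instance
  · exact isCyclic_of_prime_card (p := 2) (by simpa using hk)
  · exfalso
    have h4 : 4 ≤ 2 ^ (k + 2) := by
      calc 4 = 2 ^ 2 := by norm_num
        _ ≤ 2 ^ (k + 2) := Nat.pow_le_pow_right (by norm_num) (by omega)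
    rw [← hk] at h4
    omega

/-- A group of prime power order is solvable. -/
theorem isSolvable_of_isPGroup {X : Type u} [Group X] [Finite X] (h : IsPGroup 2 X) :
    Group.IsSolvable X := by
  haveI : Fact (Nat.Prime 2) := ⟨Nat.prime_two⟩
  haveI : Group.IsNilpotent X := h.isNilpotent
  infer_instance

/-- A nonsolvable group has no normal 2-complement. -/
theorem not_hasNormalPComplement {X : Type u} [Group X] [Finite X] (hns : ¬ Group.IsSolvable X) :
    ¬ Cfsg.HasNormalPComplement 2 X := by
  rintro ⟨P, N, hNn, hc⟩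
  haveI : Fact (Nat.Prime 2) := ⟨Nat.prime_two⟩
  haveI := hNn
  haveI : Group.IsSolvable N := Cfsg.Agent.S0205.result (by
    rw [← hc.index_eq_card, ← Nat.not_even_iff_odd, even_iff_two_dvd]
    exact P.not_dvd_index)
  haveI : Group.IsSolvable (X ⧸ N) := by
    obtain ⟨k, hk⟩ := IsPGroup.iff_card.1 P.isPGroup'
    refine isSolvable_of_isPGroup (IsPGroup.of_card (n := k) ?_)
    rw [← Subgroup.index_eq_card, hc.symm.index_eq_card, hk]
  exact hns (Group.isSolvable_of_ker_le_range N.subtype (QuotientGroup.mk' N)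
    (by rw [QuotientGroup.ker_mk', Subgroup.range_subtype]))

/-- If the centralizer of a normal subgroup of order at most four is solvable, so is the group. -/
theorem isSolvable_of_small_normal {X : Type u} [Group X] [Finite X] (E : Subgroup X) [E.Normal]
    (hE : Nat.card E ≤ 4) (hC : Group.IsSolvable (centralizer (E : Set X))) : Group.IsSolvable X := by
  haveI := hC
  let f : X →* Equiv.Perm E :=
    { toFun := fun g => (MulAut.conjNormal g : E ≃* E).toEquiv
      map_one' := by ext a; simp
      map_mul' := fun g h => by ext a; simp [MulAut.conjNormal_apply, mul_assoc] }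
  haveI : Group.IsSolvable (Equiv.Perm E) := PermP.Zass.solvable_perm_le_four hE
  refine Group.isSolvable_of_ker_le_range (centralizer (E : Set X)).subtype f ?_
  rw [Subgroup.range_subtype]
  intro g hg
  refine mem_centralizer_iff.2 fun a ha => ?_
  have h1 := congrArg (fun σ : Equiv.Perm E => ((σ ⟨a, ha⟩ : E) : X)) hg
  simp [f, MulAut.conjNormal_apply] at h1
  exact (mul_inv_eq_iff_eq_mul.1 h1).symm

/-- The hypothesis: a four-group centralizer. -/
def SmallCentred {X : Type*} [Group X] (e : X) : Prop :=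
  orderOf e = 2 ∧ Nat.card (centralizer ({e} : Set X)) = 4 ∧
    ∀ c ∈ centralizer ({e} : Set X), c ^ 2 = 1

/-- All involutions of the alternating group of degree five are conjugate. -/
theorem isConj_alternating_five {X : Type u} [Group X] [Finite X]
    (iso : X ≃* alternatingGroup (Fin 5)) {e y : X} (he : SmallCentred e) (hy : orderOf y = 2) :
    IsConj e y := by
  haveI : Fact (Nat.Prime 2) := ⟨Nat.prime_two⟩
  have hsimp : IsSimpleGroup X := iso.isSimpleGroup
  have hX : Nat.card X = 60 := by
    rw [Nat.card_congr iso.toEquiv, nat_card_alternatingGroup, Nat.card_fin]; rfl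
  obtain ⟨he2, he4, -⟩ := he
  obtain ⟨S, hS⟩ := (IsPGroup.of_card (n := 2) (by rw [he4]; norm_num) :
    IsPGroup 2 (centralizer ({e} : Set X))).exists_le_sylow
  have hScard : Nat.card (S : Subgroup X) = 4 := by
    rw [S.card_eq_multiplicity, hX, show (60 : ℕ) = 2 ^ 2 * 15 by norm_num,
      Nat.factorization_mul (by norm_num) (by norm_num), Finsupp.add_apply,
      Nat.prime_two.factorization_pow, Finsupp.single_eq_same,
      Nat.factorization_eq_zero_of_not_dvd (by norm_num : ¬ 2 ∣ 15), add_zero]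
    norm_num
  have hno : ∀ H : Subgroup X, H.index ≠ 2 := by
    intro H hH
    haveI := Subgroup.normal_of_index_eq_two hH
    rcases IsSimpleGroup.eq_bot_or_eq_top_of_normal H inferInstance with e' | e'
    · rw [e', Subgroup.index_bot, hX] at hH; omega
    · rw [e', Subgroup.index_top] at hH; omega
  obtain ⟨g, hg⟩ := Invol.exists_conj_mem_of_no_index_two hno S (zpowers e)
    (by rw [Nat.card_zpowers, he2, hScard]) hy
  obtain ⟨k, hk⟩ := mem_zpowers_iff.1 hg
  rw [← zpow_mod_orderOf, he2] at hk
  rcases Int.emod_two_eq_zero_or_one k with h | h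
  · rw [show ((2 : ℕ) : ℤ) = 2 from rfl, h, zpow_zero] at hk
    exfalso
    refine ne_one_of_orderOf_two hy ?_
    calc y = g * (g⁻¹ * y * g) * g⁻¹ := by group
      _ = 1 := by rw [← hk]; group
  · rw [show ((2 : ℕ) : ℤ) = 2 from rfl, h, zpow_one] at hk
    exact isConj_iff.2 ⟨g, by rw [hk]; group⟩

section Central

variable {M : Type u} [Group M] [Finite M] {r e : M}

/-- A central involution and an involution with a four-group as centralizer. -/
theorem isSolvable_of_central
    (IH : ∀ (Y : Type u) [Group Y] [Finite Y] (y : Y), Nat.card Y < Nat.card M → SmallCentred y →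
      ¬ Group.IsSolvable Y → Nonempty (Y ≃* alternatingGroup (Fin 5)))
    (hr : orderOf r = 2) (hrc : ∀ x : M, x * r = r * x) (he : SmallCentred e) :
    Group.IsSolvable M := by
  classical
  haveI : Fact (Nat.Prime 2) := ⟨Nat.prime_two⟩
  by_contra hns
  obtain ⟨he2, he4, hesq⟩ := he
  have hne : r ≠ e := by
    rintro rfl
    refine hns (isSolvable_of_isPGroup fun x => ⟨1, ?_⟩)
    rw [pow_one]
    exact hesq x (mem_centralizer_singleton_iff.2 (hrc x))
  obtain ⟨V, hV, heV, hrV, hVc⟩ := exists_four he2 hr hne.symm (hrc e).symm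
  set C := centralizer ({e} : Set M) with hC
  have hVC : V = C := eq_of_le_of_card_ge (hV.le_centralizer heV) (by rw [hV.card, he4])
  set Z := zpowers r with hZ
  haveI hZn : Z.Normal := ⟨fun z hz g => by
    obtain ⟨k, rfl⟩ := mem_zpowers_iff.1 hz
    rw [((show Commute g r from hrc g).zpow_right k).eq, mul_inv_cancel_right]
    exact hz⟩
  have hZcard : Nat.card Z = 2 := by rw [Nat.card_zpowers, hr]
  have hZmem : ∀ z ∈ Z, z = 1 ∨ z = r := by
    intro z hz
    obtain ⟨k, rfl⟩ := mem_zpowers_iff.1 hz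
    rw [← zpow_mod_orderOf, hr]
    rcases Int.emod_two_eq_zero_or_one k with h | h
    · left; rw [show ((2 : ℕ) : ℤ) = 2 from rfl, h, zpow_zero]
    · right; rw [show ((2 : ℕ) : ℤ) = 2 from rfl, h, zpow_one]
  have hrr := sq_of_orderOf_two hr
  have hee := sq_of_orderOf_two he2
  set π := QuotientGroup.mk' Z with hπ
  have hYlt : Nat.card (M ⧸ Z) < Nat.card M := by
    rw [← Subgroup.card_mul_index Z, hZcard, ← Subgroup.index_eq_card]
    have : 0 < Z.index := Nat.pos_of_ne_zero Subgroup.index_ne_zero_of_finite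
    omega
  have hnsY : ¬ Group.IsSolvable (M ⧸ Z) := by
    intro h
    haveI := h
    haveI : Group.IsSolvable Z := Group.isSolvable_of_comm fun a b => mul_comm' a b
    exact hns (Group.isSolvable_of_ker_le_range Z.subtype π
      (by rw [hπ, QuotientGroup.ker_mk', Subgroup.range_subtype]))
  have heZ : e ∉ Z := fun h => (hZmem e h).elim (ne_one_of_orderOf_two he2) hne.symm
  have hπeq : ∀ a b : M, π a = π b → b = a ∨ b = a * r := by
    intro a b h
    rcases hZmem _ (QuotientGroup.eq.1 h) with h1 | h1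
    · exact Or.inl (inv_mul_eq_one.1 h1).symm
    · exact Or.inr (by rw [← h1, mul_inv_cancel_left])
  have hπe1 : π e ≠ 1 := fun h => heZ ((QuotientGroup.eq_one_iff e).1 h)
  have hπe : orderOf (π e) = 2 :=
    orderOf_eq_prime (by rw [pow_two, ← map_mul, hee, map_one]) hπe1
  -- an element moving `e` to `e r`
  have hmove : ∀ d : M, π d * π e = π e * π d → d ∈ C ∨ (d ∉ C ∧ d * e * d⁻¹ = e * r) := by
    intro d hd
    have h1 : π e = π (d * e * d⁻¹) := by
      rw [map_mul, map_mul, map_inv, hd, mul_inv_cancel_right]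
    rcases hπeq _ _ h1 with h2 | h2
    · exact Or.inl (mem_centralizer_singleton_iff.2 (mul_inv_eq_iff_eq_mul.1 h2))
    · refine Or.inr ⟨fun hdC => ?_, h2⟩
      rw [mem_centralizer_singleton_iff] at hdC
      rw [hdC, mul_inv_cancel_right] at h2
      exact ne_one_of_orderOf_two hr (mul_eq_left.1 h2.symm)
  have hprodC : ∀ d₁ d₂ : M, d₁ * e * d₁⁻¹ = e * r → d₂ * e * d₂⁻¹ = e * r → d₁ * d₂ ∈ C := by
    intro d₁ d₂ h1 h2
    refine mem_centralizer_singleton_iff.2 (mul_inv_eq_iff_eq_mul.1 ?_)
    calc d₁ * d₂ * e * (d₁ * d₂)⁻¹ = d₁ * (d₂ * e * d₂⁻¹) * d₁⁻¹ := by group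
      _ = d₁ * e * (r * d₁⁻¹) := by rw [h2]; group
      _ = d₁ * e * (d₁⁻¹ * r) := by rw [hrc d₁⁻¹]
      _ = d₁ * e * d₁⁻¹ * r := by group
      _ = e := by rw [h1, mul_assoc, hrr, mul_one]
  -- squares of centralizing elements are trivial
  have hYsq : ∀ c ∈ centralizer ({π e} : Set (M ⧸ Z)), c ^ 2 = 1 := by
    intro c hc
    obtain ⟨d, rfl⟩ := QuotientGroup.mk'_surjective Z c
    rcases hmove d (mem_centralizer_singleton_iff.1 hc) with hd | ⟨-, hd⟩
    · rw [← map_pow, hesq d hd, map_one]
    · have h1 : d * d ∈ V := hVC ▸ hprodC d d hd hd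
      have h2 : d * (d * d) * d⁻¹ = d * d := by group
      rw [pow_two, ← map_mul]
      refine (QuotientGroup.eq_one_iff _).2 ?_
      rcases hVc _ h1 with h | h | h | h
      · rw [h]; exact one_mem _
      · exfalso
        rw [h, hd] at h2
        exact ne_one_of_orderOf_two hr (mul_eq_left.1 h2)
      · rw [h]; exact mem_zpowers r
      · exfalso
        rw [h] at h2
        have h3 : d * (e * r) * d⁻¹ = e := by
          calc d * (e * r) * d⁻¹ = d * e * (r * d⁻¹) := by group
            _ = d * e * d⁻¹ * r := by rw [← hrc d⁻¹]; group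
            _ = e := by rw [hd, mul_assoc, hrr, mul_one]
        rw [h3] at h2
        exact ne_one_of_orderOf_two hr (mul_eq_left.1 h2.symm)
  set CY := centralizer ({π e} : Set (M ⧸ Z)) with hCY
  set Cb := C.map π with hCb
  have hCbY : Cb ≤ CY := by
    rintro _ ⟨c, hc, rfl⟩
    rw [hCY, mem_centralizer_singleton_iff, ← map_mul, ← map_mul,
      mem_centralizer_singleton_iff.1 hc]
  have hZC : Z ≤ C := zpowers_le.2 (mem_centralizer_singleton_iff.2 (hrc e).symm)
  have hCbcard : Nat.card Cb = 2 := by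
    have h1 := Subgroup.card_mul_index (Z.subgroupOf C)
    rw [Nat.card_congr (subgroupOfEquivOfLe hZC).toEquiv, hZcard, he4] at h1
    have hker : (π.comp C.subtype).ker = Z.subgroupOf C := by
      rw [← MonoidHom.comap_ker, hπ, QuotientGroup.ker_mk']; rfl
    have h2 : (Z.subgroupOf C).index = Nat.card (π.comp C.subtype).range := by
      rw [← hker, Subgroup.index_ker]
    rw [MonoidHom.range_comp, Subgroup.range_subtype, ← hCb] at h2
    omega
  by_cases hCYeq : CY ≤ Cb
  · -- a centralizer of order two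
    obtain ⟨P, hP⟩ := (IsPGroup.of_card (n := 1) (by rw [Nat.card_zpowers, hπe, pow_one]) :
      IsPGroup 2 (zpowers (π e))).exists_le_sylow
    have heP := hP (mem_zpowers (π e))
    haveI : Nontrivial (P : Subgroup (M ⧸ Z)) :=
      ⟨⟨⟨π e, heP⟩, 1, fun h => hπe1 (congrArg Subtype.val h)⟩⟩
    haveI := P.isPGroup'.center_nontrivial
    obtain ⟨⟨c, hc⟩, hc1⟩ := exists_ne (1 : Subgroup.center (P : Subgroup (M ⧸ Z)))
    have hcCY : (c : M ⧸ Z) ∈ CY := mem_centralizer_singleton_iff.2
      (congrArg Subtype.val (Subgroup.mem_center_iff.1 hc ⟨π e, heP⟩)).symm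
    have hCYel : ∀ y ∈ CY, y = 1 ∨ y = π e := by
      intro y hy
      obtain ⟨d, hd, rfl⟩ := hCYeq hy
      rcases hVc d (hVC.symm ▸ hd : d ∈ V) with h | h | h | h
      · left; rw [h, map_one]
      · right; rw [h]
      · left; rw [h]; exact (QuotientGroup.eq_one_iff r).2 (mem_zpowers r)
      · right
        rw [h, map_mul, show π r = 1 from (QuotientGroup.eq_one_iff r).2 (mem_zpowers r), mul_one]
    have hce : (c : M ⧸ Z) = π e := (hCYel _ hcCY).resolve_left
      fun h => hc1 (Subtype.ext (Subtype.ext h))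
    have hle : (P : Subgroup (M ⧸ Z)) ≤ Cb := fun x hx => hCYeq (mem_centralizer_singleton_iff.2 (by
      rw [← hce]
      exact congrArg Subtype.val (Subgroup.mem_center_iff.1 hc ⟨x, hx⟩)))
    exact hnsY (isSolvable_of_sylow_le_two P ((Subgroup.card_le_of_le hle).trans hCbcard.le))
  obtain ⟨y, hy, hyCb⟩ := SetLike.not_le_iff_exists.1 hCYeq
  have hout : ∀ x ∈ CY, x ∉ Cb → ∃ d : M, π d = x ∧ d ∉ C ∧ d * e * d⁻¹ = e * r := by
    intro x hx hxb
    obtain ⟨d, rfl⟩ := QuotientGroup.mk'_surjective Z x
    rcases hmove d (mem_centralizer_singleton_iff.1 hx) with hd | ⟨hdC, hd⟩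
    · exact absurd (mem_map_of_mem π hd) hxb
    · exact ⟨d, rfl, hdC, hd⟩
  have hidx : (Cb.subgroupOf CY).index = 2 := by
    rw [Subgroup.index_eq_two_iff]
    refine ⟨⟨y, hy⟩, fun b => ?_⟩
    by_cases hb : (b : M ⧸ Z) ∈ Cb
    · refine Or.inr ⟨hb, fun hh => hyCb ?_⟩
      have h1 : (b : M ⧸ Z) * y ∈ Cb := mem_subgroupOf.1 hh
      simpa using Cb.mul_mem (Cb.inv_mem hb) h1
    · obtain ⟨d₁, hd₁, -, h1⟩ := hout b b.2 hb
      obtain ⟨d₂, hd₂, -, h2⟩ := hout y hy hyCb
      refine Or.inl ⟨?_, fun hh => hb (mem_subgroupOf.1 hh)⟩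
      show (b : M ⧸ Z) * y ∈ Cb
      rw [← hd₁, ← hd₂, ← map_mul]
      exact mem_map_of_mem π (hprodC d₁ d₂ h1 h2)
  have hCYcard : Nat.card CY = 4 := by
    rw [← Subgroup.card_mul_index (Cb.subgroupOf CY), hidx,
      Nat.card_congr (subgroupOfEquivOfLe hCbY).toEquiv, hCbcard]
  have hsm : SmallCentred (π e) := ⟨hπe, hCYcard, hYsq⟩
  obtain ⟨iso⟩ := IH (M ⧸ Z) (π e) hYlt hsm hnsY
  -- every element moving `e` to `e r` is an involution
  have hinv : ∀ d : M, d ∉ C → d * e * d⁻¹ = e * r → d * d = 1 := by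
    intro d hdC hd
    have hcy : π d ∈ CY := by
      rw [hCY, mem_centralizer_singleton_iff, ← mul_inv_eq_iff_eq_mul, ← map_inv, ← map_mul,
        ← map_mul, hd, map_mul,
        show π r = 1 from (QuotientGroup.eq_one_iff r).2 (mem_zpowers r), mul_one]
    have hd1 : π d ≠ 1 := fun h => hdC (hZC ((QuotientGroup.eq_one_iff d).1 h))
    obtain ⟨gb, hgb⟩ := isConj_iff.1 (isConj_alternating_five iso hsm
      (orderOf_eq_prime (hYsq _ hcy) hd1))
    obtain ⟨g, rfl⟩ := QuotientGroup.mk'_surjective Z gb
    have h1 : π (g * e * g⁻¹) = π d := by rw [map_mul, map_mul, map_inv]; exact hgb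
    have h2 : g * e * g⁻¹ * (g * e * g⁻¹) = 1 := by
      rw [show g * e * g⁻¹ * (g * e * g⁻¹) = g * (e * e) * g⁻¹ by group, hee]; group
    rcases hπeq _ _ h1 with h | h
    · rw [h, h2]
    · rw [h]
      calc g * e * g⁻¹ * r * (g * e * g⁻¹ * r)
          = g * e * g⁻¹ * (r * (g * e * g⁻¹)) * r := by group
        _ = g * e * g⁻¹ * (g * e * g⁻¹ * r) * r := by rw [hrc (g * e * g⁻¹)]
        _ = g * e * g⁻¹ * (g * e * g⁻¹) * (r * r) := by group
        _ = 1 := by rw [h2, hrr, one_mul]
  obtain ⟨d, -, hdC, hd⟩ := hout y hy hyCb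
  have hde : d * e ∉ C := fun h => hdC (by
    have := C.mul_mem h (C.inv_mem (mem_centralizer_singleton_iff.2 rfl : e ∈ C))
    simpa using this)
  have h1 := hinv (d * e) hde (by
    rw [show d * e * e * (d * e)⁻¹ = d * e * d⁻¹ by group, hd])
  refine hdC (mem_centralizer_singleton_iff.2 ?_)
  calc d * e = (d * e)⁻¹ := (inv_eq_of_mul_eq_one_right h1).symm
    _ = e * d := by
      rw [mul_inv_rev, inv_of_orderOf_two he2, inv_eq_of_mul_eq_one_right (hinv d hdC hd)]

end Central

/-- **Groups with a four-group as centralizer of an involution.** -/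
theorem iso_alternating_five {X : Type u} [Group X] [Finite X] {e : X} (he : SmallCentred e)
    (hns : ¬ Group.IsSolvable X) : Nonempty (X ≃* alternatingGroup (Fin 5)) := by
  suffices H : ∀ n : ℕ, ∀ (Y : Type u) [Group Y] [Finite Y] (y : Y), Nat.card Y < n →
      SmallCentred y → ¬ Group.IsSolvable Y → Nonempty (Y ≃* alternatingGroup (Fin 5)) from
    H (Nat.card X + 1) X e (Nat.lt_succ_self _) he hns
  intro n
  induction n with
  | zero => intro Y _ _ y h; omega
  | succ n ih =>
    intro Y _ _ y hlt hy hns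
    refine Cfsg.Agent.S3277.result y hy.1 hy.2.1 hy.2.2 (not_hasNormalPComplement hns)
      fun E hEn hEA => ?_
    by_contra hcard
    have hE : Nat.card E = 2 ∨ Nat.card E = 4 := by
      by_contra hh; push Not at hh; exact hcard hh
    haveI := hEn
    haveI : Fact (Nat.Prime 2) := ⟨Nat.prime_two⟩
    refine hns (isSolvable_of_small_normal E (by omega) ?_)
    -- a fixed point of `y` in `E`
    obtain ⟨r, hr, hr1, hry⟩ : ∃ r ∈ E, r ≠ 1 ∧ r * y = y * r := by
      by_cases hfix : ∀ a ∈ E, a * y = y * a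
      · haveI : Nontrivial E := Finite.one_lt_card_iff_nontrivial.1 (by omega)
        obtain ⟨a, ha⟩ := exists_ne (1 : E)
        exact ⟨a, a.2, fun h => ha (Subtype.ext h), hfix a a.2⟩
      · push Not at hfix
        obtain ⟨a, ha, hay⟩ := hfix
        have hb : y * a * y⁻¹ ∈ E := hEn.conj_mem a ha y
        refine ⟨a * (y * a * y⁻¹), mul_mem ha hb, fun h => hay ?_, ?_⟩
        · have haa : a * a = 1 := by rw [← pow_two]; exact hEA.2 a ha
          have h' : y * a * y⁻¹ = a := mul_left_cancel (h.trans haa.symm)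
          exact (mul_inv_eq_iff_eq_mul.1 h').symm
        · have hcomm : a * (y * a * y⁻¹) = y * a * y⁻¹ * a :=
            congrArg Subtype.val (hEA.1.1.1 ⟨a, ha⟩ ⟨_, hb⟩)
          have hyy := sq_of_orderOf_two hy.1
          have hyi := inv_of_orderOf_two hy.1
          calc a * (y * a * y⁻¹) * y = a * (y * a) := by group
            _ = (a * (y * a * y⁻¹)) * y := by group
            _ = (y * a * y⁻¹ * a) * y := by rw [hcomm]
            _ = y * (a * (y * a * y⁻¹)) := by
              rw [hyi]
              simp only [mul_assoc]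
    have hr2 : orderOf r = 2 := orderOf_eq_prime (hEA.2 r hr) hr1
    set Mr := centralizer ({r} : Set Y) with hMr
    have hCy : centralizer ({y} : Set Y) ≤ Mr := by
      intro c hc
      rw [hMr, mem_centralizer_singleton_iff]
      have hrC : r ∈ centralizer ({y} : Set Y) := mem_centralizer_singleton_iff.2 hry
      have h1 := hy.2.2 c hc
      have h2 := hy.2.2 r hrC
      have h3 := hy.2.2 _ (mul_mem hc hrC)
      rw [pow_two] at h1 h2 h3
      calc c * r = (c * r)⁻¹ := (inv_eq_of_mul_eq_one_right h3).symm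
        _ = r * c := by
          rw [mul_inv_rev, inv_eq_of_mul_eq_one_right h1, inv_eq_of_mul_eq_one_right h2]
    have hyM : y ∈ Mr := hCy (mem_centralizer_singleton_iff.2 rfl)
    have hset : centralizer ({(⟨y, hyM⟩ : Mr)} : Set Mr)
        = (centralizer ({y} : Set Y)).subgroupOf Mr := by
      ext c
      rw [mem_centralizer_singleton_iff, mem_subgroupOf, mem_centralizer_singleton_iff, Subtype.ext_iff]
      rfl
    have hsmall : SmallCentred (⟨y, hyM⟩ : Mr) := by
      refine ⟨by rw [Subgroup.orderOf_mk, hy.1], ?_, fun c hc => ?_⟩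
      · rw [hset, Nat.card_congr (subgroupOfEquivOfLe hCy).toEquiv, hy.2.1]
      · rw [hset, mem_subgroupOf] at hc
        exact Subtype.ext (by rw [Subgroup.coe_pow]; exact hy.2.2 c hc)
    have hsol : Group.IsSolvable Mr := isSolvable_of_central (r := (⟨r, by
        rw [hMr, mem_centralizer_singleton_iff]⟩ : Mr))
      (fun Y' _ _ y' hlt' hy' hns' => ih Y' y' (by
        have := Nat.card_le_card_of_injective _ (Subtype.val_injective (p := (· ∈ Mr)))
        omega) hy' hns')
      (by rw [Subgroup.orderOf_mk, hr2])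
      (fun x => Subtype.ext (mem_centralizer_singleton_iff.1 x.2)) hsmall
    have hle : centralizer (E : Set Y) ≤ Mr := fun c hc => by
      rw [hMr, mem_centralizer_singleton_iff]
      exact (mem_centralizer_iff.1 hc r hr).symm
    haveI := hsol
    exact Group.isSolvable_of_isSolvable_injective (f := Subgroup.inclusion hle)
      (Subgroup.inclusion_injective hle)

end Cfsg.Agent.GenDih
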