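import Cfsg.Agent.GenDih.Struct

/-!
# A generalised dihedral centralizer of a 2-central involution

Also the small case in which the centralizer is a four-group.
-/

set_option autoImplicit false
set_option linter.style.haveILetI false
set_option linter.unusedSectionVars false

namespace Cfsg.Agent.GenDih

open Subgroup
open scoped MatrixGroups

universe u

variable {X : Type u} [Group X] [Finite X]

/-- `X` is `PSL(2, F)` or `PGL(2, F)`. -/
def IsPslPgl (X : Type u) [Group X] : Prop :=
  ∃ (F : Type) (_ : Field F) (_ : Fintype F), 3 < Fintype.card F ∧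
    (Nonempty (X ≃* Matrix.ProjectiveSpecialLinearGroup (Fin 2) F) ∨
      Nonempty (X ≃* Matrix.ProjGenLinGroup (Fin 2) F))

/-- The centralizer is a four-group. -/
theorem isPslPgl_of_small {e : X} {K : Subgroup X} (h : GDC e K) (hns : ¬ Group.IsSolvable X)
    (hk : ∀ k ∈ K, k * k = 1) : IsPslPgl X := by
  classical
  haveI : Fact (Nat.Prime 2) := ⟨Nat.prime_two⟩
  set C := centralizer ({e} : Set X) with hC
  obtain ⟨c, hc, hcK⟩ := h.proper
  obtain ⟨V, hV, heV, hcV, -⟩ := exists_four h.inv (h.orderOf_out hc hcK)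
    (fun e' => hcK (e' ▸ h.mem)) (mem_centralizer_singleton_iff.1 hc)
  have hCV : C = V := by
    refine le_antisymm (fun d hd => ?_) (hV.le_centralizer heV)
    have hKV : ∀ k ∈ K, k ∈ V := fun k hk' => by
      rcases h.unique k hk' (hk k hk') with rfl | rfl
      · exact V.one_mem
      · exact heV
    by_cases hdK : d ∈ K
    · exact hKV d hdK
    · have h1 := V.mul_mem (V.inv_mem hcV) (hKV _ (h.mul_mem c hc d hd hcK hdK))
      rwa [inv_mul_cancel_left] at h1
  have hsc : SmallCentred e := by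
    refine ⟨h.inv, ?_, fun d hd => ?_⟩
    · rw [← hC, hCV, hV.card]
    · rw [← hC, hCV] at hd
      rw [pow_two]; exact hV.sq d hd
  obtain ⟨iso⟩ := iso_alternating_five hsc hns
  haveI : IsSimpleGroup X := iso.isSimpleGroup
  have hX : Nat.card X = 60 := by
    rw [Nat.card_congr iso.toEquiv, nat_card_alternatingGroup, Nat.card_fin]; rfl
  obtain ⟨S, hS⟩ := (IsPGroup.of_card (n := 2) (by rw [hCV, hV.card]; norm_num) :
    IsPGroup 2 C).exists_le_sylow
  have hScard : Nat.card (S : Subgroup X) = 4 := by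
    rw [S.card_eq_multiplicity, hX, show (60 : ℕ) = 2 ^ 2 * 15 by norm_num,
      Nat.factorization_mul (by norm_num) (by norm_num), Finsupp.add_apply,
      Nat.prime_two.factorization_pow, Finsupp.single_eq_same,
      Nat.factorization_eq_zero_of_not_dvd (by norm_num : ¬ 2 ∣ 15), add_zero]
    norm_num
  have hSC : (S : Subgroup X) ≤ C :=
    (eq_of_le_of_card_ge hS (by rw [hScard, hCV, hV.card])).ge
  obtain ⟨F, i1, i2, -, h3, hiso⟩ :=
    psl_of_simple (fun hcm => hns (Group.isSolvable_of_comm hcm)) h S hSC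
  exact ⟨F, i1, i2, h3, Or.inl hiso⟩

/-- A generalised dihedral centralizer restricted to a subgroup. -/
theorem GDC.subgroup {e : X} {K : Subgroup X} (h : GDC e K) {L : Subgroup X} (heL : e ∈ L) {r : X}
    (hrL : r ∈ L) (hrC : r ∈ centralizer ({e} : Set X)) (hrK : r ∉ K) :
    GDC (⟨e, heL⟩ : L) (K.subgroupOf L) := by
  have hc : ∀ c : L, c ∈ centralizer ({(⟨e, heL⟩ : L)} : Set L) →
      (c : X) ∈ centralizer ({e} : Set X) := fun c hc =>
    mem_centralizer_singleton_iff.2 (congrArg Subtype.val (mem_centralizer_singleton_iff.1 hc))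
  refine ⟨by rw [Subgroup.orderOf_mk, h.inv], ?_, h.mem, ?_, ?_, ?_, ?_, ?_⟩
  · intro a ha
    exact mem_centralizer_singleton_iff.2
      (Subtype.ext (mem_centralizer_singleton_iff.1 (h.le (mem_subgroupOf.1 ha))))
  · exact fun a ha b hb =>
      Subtype.ext (h.comm _ (mem_subgroupOf.1 ha) _ (mem_subgroupOf.1 hb))
  · intro a ha h1
    rcases h.unique _ (mem_subgroupOf.1 ha) (congrArg Subtype.val h1) with h2 | h2
    · exact Or.inl (Subtype.ext h2)
    · exact Or.inr (Subtype.ext h2)
  · intro c hcc hcK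
    obtain ⟨h1, h2⟩ := h.out _ (hc c hcc) (fun h' => hcK (mem_subgroupOf.2 h'))
    exact ⟨Subtype.ext h1, fun a ha => Subtype.ext (h2 _ (mem_subgroupOf.1 ha))⟩
  · intro c hcc d hdd hcK hdK
    exact mem_subgroupOf.2 (h.mul_mem _ (hc c hcc) _ (hc d hdd)
      (fun h' => hcK (mem_subgroupOf.2 h')) (fun h' => hdK (mem_subgroupOf.2 h')))
  · exact ⟨⟨r, hrL⟩, mem_centralizer_singleton_iff.2
      (Subtype.ext (mem_centralizer_singleton_iff.1 hrC)), fun h' => hrK (mem_subgroupOf.1 h')⟩

/-- The 2-central case. -/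
theorem Hyp.isPslPgl_in {e : X} {K : Subgroup X} (h : Hyp e K) (S : Sylow 2 X)
    (hS : (S : Subgroup X) ≤ centralizer {e}) : IsPslPgl X := by
  classical
  haveI : Fact (Nat.Prime 2) := ⟨Nat.prime_two⟩
  have t := h.exists_two_in S hS
  obtain ⟨L, hLn, hsimple, hnc, heL, hLc, ⟨r, hrL, hrS, hrA⟩, hone⟩ := h.exists_simple t
  haveI := hLn
  haveI := hsimple
  have hrK : r ∉ K := fun hK => hrA ⟨hrS, hK⟩
  have hg := h.gdc
  set C := centralizer ({e} : Set X) with hC
  have hQp : IsPGroup 2 ((S : Subgroup X).subgroupOf L) :=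
    S.isPGroup'.comap_of_injective L.subtype L.subtype_injective
  obtain ⟨F, i1, i2, hodd, h3, ⟨ι⟩⟩ := psl_of_simple hnc (hg.subgroup heL hrL (hS hrS) hrK)
    (hQp.toSylow (not_dvd_relIndex_normal S L)) (by
      intro x hx
      have hx' : x ∈ (S : Subgroup X).subgroupOf L := hx
      exact mem_centralizer_singleton_iff.2
        (Subtype.ext (mem_centralizer_singleton_iff.1 (hS (mem_subgroupOf.1 hx')))))
  -- `X = L K`
  have hgen : ∀ g : X, ∃ k ∈ K, g⁻¹ * k ∈ L := by
    intro g
    obtain ⟨l, hl, hlg⟩ := hone (g * e * g⁻¹) (hLn.conj_mem e heL g) (by rw [orderOf_conj, hg.inv])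
    have hc : l * g ∈ C := mem_centralizer_singleton_iff.2 (mul_inv_eq_iff_eq_mul.1 (by
      calc l * g * e * (l * g)⁻¹ = l * (g * e * g⁻¹) * l⁻¹ := by group
        _ = e := hlg))
    by_cases hK : l * g ∈ K
    · refine ⟨_, hK, ?_⟩
      rw [← mul_assoc]
      simpa using hLn.conj_mem l hl g⁻¹
    · refine ⟨_, hg.mul_mem _ hc r (hS hrS) hK hrK, ?_⟩
      rw [show g⁻¹ * (l * g * r) = g⁻¹ * l * g * r by group]
      refine L.mul_mem ?_ hrL
      simpa using hLn.conj_mem l hl g⁻¹
  let f : K →* X ⧸ L := (QuotientGroup.mk' L).comp K.subtype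
  have hfs : Function.Surjective f := by
    intro y
    obtain ⟨g, rfl⟩ := QuotientGroup.mk'_surjective L y
    obtain ⟨k, hk, hkL⟩ := hgen g
    exact ⟨⟨k, hk⟩, (QuotientGroup.eq.2 hkL).symm⟩
  let sq : K →* K :=
    { toFun := fun k => k * k
      map_one' := one_mul 1
      map_mul' := fun a b => Subtype.ext (by
        push_cast
        rw [show (a : X) * b * (a * b) = a * (b * a) * b by group, hg.comm b b.2 a a.2]
        group) }
  have hker : sq.range ≤ f.ker := by
    rintro _ ⟨k, rfl⟩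
    refine (QuotientGroup.eq_one_iff _).2 ?_
    show (k : X) * k ∈ L
    have h1 := (hg.out r (hS hrS) hrK).2 (k : X)⁻¹ (K.inv_mem k.2)
    rw [inv_inv] at h1
    have h2 : (k : X) * k = k * r * (k : X)⁻¹ * r⁻¹ := by
      conv_lhs => arg 2; rw [← h1]
      group
    rw [h2]
    exact L.mul_mem (hLn.conj_mem r hrL _) (L.inv_mem hrL)
  have hker2 : Nat.card sq.ker ≤ 2 := by
    haveI := Fintype.ofFinite sq.ker
    rw [Nat.card_eq_fintype_card, ← Finset.card_univ,
      ← Finset.card_image_of_injective Finset.univ (f := fun k : sq.ker => ((k : K) : X))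
        (fun a b hab => Subtype.ext (Subtype.ext hab))]
    refine (Finset.card_le_card (t := {1, e}) fun x hx => ?_).trans Finset.card_le_two
    obtain ⟨k, -, rfl⟩ := Finset.mem_image.1 hx
    rcases hg.unique _ (k : K).2 (congrArg Subtype.val k.2) with h1 | h1 <;> simp [h1]
  have hidx : L.index ≤ 2 := by
    rw [Subgroup.index_eq_card, ← Nat.card_congr (QuotientGroup.quotientKerEquivOfSurjective f hfs).toEquiv,
      ← Subgroup.index_eq_card]
    refine le_trans (Nat.le_of_dvd (Nat.pos_of_ne_zero Subgroup.index_ne_zero_of_finite)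
      (Subgroup.index_dvd_of_le hker)) ?_
    have h1 := Subgroup.card_mul_index sq.range
    have h2 := Subgroup.card_mul_index sq.ker
    rw [Subgroup.index_ker] at h2
    have h4 : sq.range.index = Nat.card sq.ker := by
      refine Nat.eq_of_mul_eq_mul_left (Nat.card_pos (α := sq.range)) ?_
      rw [h1, mul_comm, h2]
    omega
  rcases Nat.lt_or_ge L.index 2 with hlt | hge
  · have htop : L = ⊤ := Subgroup.index_eq_one.1 (by
      have : L.index ≠ 0 := Subgroup.index_ne_zero_of_finite
      omega)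
    exact ⟨F, i1, i2, h3, Or.inl ⟨(Subgroup.topEquiv.symm.trans
      (MulEquiv.subgroupCongr htop.symm)).trans ι⟩⟩
  · obtain ⟨-, -, -, -, -, ⟨iso⟩⟩ := sylow_shape hg S hS
    obtain ⟨x, hxS, hxx, hxL⟩ : ∃ x ∈ (S : Subgroup X), x * x = 1 ∧ x ∉ L := by
      by_contra hall
      push Not at hall
      exact TwoFusion.not_index_two_of_sylow_le (S := S)
        (TwoFusion.le_of_involutions_mem iso hall) (le_antisymm hidx hge)
    exact ⟨F, i1, i2, h3, Or.inr
      (pgl_of_index_two ι (le_antisymm hidx hge) hLc hodd t.rankTwo hxx hxL)⟩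

end Cfsg.Agent.GenDih
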