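import Cfsg.Agent.GenDih.Loc

/-!
# Maximal invariant `p`-subgroups meet trivially

In a group with `Loc`, two maximal `p`-subgroups (`p` odd) invariant under a four-group `V` which
meet nontrivially are equal.
-/

set_option autoImplicit false
set_option linter.style.haveILetI false
set_option linter.unusedSectionVars false

namespace Cfsg.Agent.GenDih

open Subgroup

variable {X : Type*} [Group X]

/-- `P` is a `p`-subgroup normalised by `V`. -/
def PInv (V : Subgroup X) (p : ℕ) (P : Subgroup X) : Prop :=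
  IsPGroup p P ∧ V ≤ normalizer (P : Set X)

/-- The subgroup generated by the `p`-elements of `C(z)`. -/
def pAxis (p : ℕ) (z : X) : Subgroup X :=
  closure {a | a * z = z * a ∧ ∃ k, orderOf a = p ^ k}

theorem exists_max [Finite X] {V P : Subgroup X} {p : ℕ} (h : PInv V p P) :
    ∃ R, P ≤ R ∧ Maximal (PInv V p) R :=
  Finite.exists_le_maximal (p := PInv V p) h

theorem odd_card_pgroup [Finite X] {p : ℕ} [Fact p.Prime] (hp : p ≠ 2) {P : Subgroup X}
    (hP : IsPGroup p P) : Odd (Nat.card P) := by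
  obtain ⟨k, hk⟩ := IsPGroup.iff_card.1 hP
  rw [hk]
  exact ((Fact.out : p.Prime).odd_of_ne_two hp).pow

theorem odd_orderOf_pow {p : ℕ} [Fact p.Prime] (hp : p ≠ 2) {a : X} {k : ℕ}
    (h : orderOf a = p ^ k) : Odd (orderOf a) := by
  rw [h]; exact ((Fact.out : p.Prime).odd_of_ne_two hp).pow

theorem exists_orderOf_eq_pow {p : ℕ} [Fact p.Prime] {P : Subgroup X} (hP : IsPGroup p P) {a : X}
    (ha : a ∈ P) : ∃ k, orderOf a = p ^ k := by
  obtain ⟨k, hk⟩ := IsPGroup.iff_orderOf.1 hP ⟨a, ha⟩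
  exact ⟨k, by rw [← hk, Subgroup.orderOf_mk]⟩

theorem mem_normalizer_of_conj [Finite X] {H : Subgroup X} {g : X}
    (h : ∀ a ∈ H, g * a * g⁻¹ ∈ H) : g ∈ normalizer (H : Set X) :=
  (TwoFusion.map_conj_eq_self_iff_mem_normalizer H g).1
    (eq_of_le_of_card_ge (by rintro _ ⟨a, ha, rfl⟩; exact h a ha)
      (by rw [card_map_of_injective (MulAut.conj g).injective]))

theorem conj_mem_of_mem_normalizer {H : Subgroup X} {g a : X} (hg : g ∈ normalizer (H : Set X))
    (ha : a ∈ H) : g * a * g⁻¹ ∈ H :=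
  (mem_normalizer_iff.1 hg a).1 ha

namespace Loc

variable [Finite X] (hL : Loc X) {V : Subgroup X} (hV : Four V) {p : ℕ} [Fact p.Prime]
include hL

theorem mem_pAxis (hp : p ≠ 2) {z a : X} (hz : orderOf z = 2) :
    a ∈ pAxis p z ↔ a * z = z * a ∧ ∃ k, orderOf a = p ^ k := by
  refine ⟨fun h => ?_, fun h => subset_closure h⟩
  induction h using closure_induction with
  | mem x hx => exact hx
  | one => exact ⟨by simp, 0, by simp⟩
  | mul x y _ _ ihx ihy =>
    obtain ⟨hx, i, hi⟩ := ihx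
    obtain ⟨hy, j, hj⟩ := ihy
    refine ⟨(Commute.mul_left hx hy : Commute (x * y) z).eq, ?_⟩
    have hc : Commute x y :=
      hL.odd_commute hz hx hy (odd_orderOf_pow hp hi) (odd_orderOf_pow hp hj)
    have h1 : (x * y) ^ (p ^ (max i j)) = 1 := by
      rw [hc.mul_pow, orderOf_dvd_iff_pow_eq_one.1 (hi ▸ pow_dvd_pow p (le_max_left i j)),
        orderOf_dvd_iff_pow_eq_one.1 (hj ▸ pow_dvd_pow p (le_max_right i j)), one_mul]
    obtain ⟨l, -, hl⟩ := (Nat.dvd_prime_pow Fact.out).1 (orderOf_dvd_of_pow_eq_one h1)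
    exact ⟨l, hl⟩
  | inv x _ ih => exact ⟨(Commute.inv_left ih.1 : Commute x⁻¹ z).eq, by rw [orderOf_inv]; exact ih.2⟩

theorem isPGroup_pAxis (hp : p ≠ 2) {z : X} (hz : orderOf z = 2) : IsPGroup p (pAxis p z) := by
  rw [IsPGroup.iff_orderOf]
  intro a
  obtain ⟨k, hk⟩ := ((hL.mem_pAxis hp hz).1 a.2).2
  exact ⟨k, by rw [← Subgroup.orderOf_coe, hk]⟩

include hV

theorem conj_axis_eq {x a v : X} (hx : x ∈ V) (hx1 : x ≠ 1) (ha : Odd (orderOf a))
    (hax : a * x = x * a) (hv : v ∈ V) : v * a * v⁻¹ = a ∨ v * a * v⁻¹ = a⁻¹ := by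
  rcases eq_or_ne v 1 with rfl | hv1
  · simp
  rcases eq_or_ne x v with rfl | hxv
  · exact Or.inl (by rw [← hax, mul_inv_cancel_right])
  · exact Or.inr (hL.inverts_four hV hx hv hx1 hv1 hxv ha hax)

theorem le_normalizer_zpowers_axis {x a : X} (hx : x ∈ V) (hx1 : x ≠ 1) (ha : Odd (orderOf a))
    (hax : a * x = x * a) : V ≤ normalizer ((zpowers a : Subgroup X) : Set X) := by
  refine le_normalizer_iff.2 fun v hv b hb => ?_
  obtain ⟨k, rfl⟩ := mem_zpowers_iff.1 hb
  rw [← conj_zpow]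
  refine zpow_mem ?_ k
  rcases hL.conj_axis_eq hV hx hx1 ha hax hv with e | e <;> rw [e]
  · exact mem_zpowers a
  · exact inv_mem (mem_zpowers a)

theorem pinv_pAxis (hp : p ≠ 2) {z : X} (hz : z ∈ V) (hz1 : z ≠ 1) : PInv V p (pAxis p z) := by
  refine ⟨hL.isPGroup_pAxis hp (hV.orderOf_eq hz hz1), le_normalizer_iff.2 fun v hv a ha => ?_⟩
  obtain ⟨haz, k, hk⟩ := (hL.mem_pAxis hp (hV.orderOf_eq hz hz1)).1 ha
  rcases hL.conj_axis_eq hV hz hz1 (odd_orderOf_pow hp hk) haz hv with e | e <;> rw [e]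
  · exact ha
  · exact inv_mem ha

/-- `V` normalises the odd part of the centralizer of an odd element of an axis. -/
theorem le_normalizer_coreC {w a : X} (hw : w ∈ V) (hw1 : w ≠ 1) (ha : Odd (orderOf a))
    (haw : a * w = w * a) {W : Subgroup X} (hW : ∀ b, b ∈ W ↔ b * a = a * b ∧ Odd (orderOf b)) :
    V ≤ normalizer (W : Set X) := by
  refine le_normalizer_iff.2 fun v hv b hb => ?_
  obtain ⟨hb1, hb2⟩ := (hW b).1 hb
  refine (hW _).2 ⟨?_, by rw [orderOf_conj]; exact hb2⟩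
  have h1 : v * b * v⁻¹ * (v * a * v⁻¹) = v * a * v⁻¹ * (v * b * v⁻¹) := by
    calc v * b * v⁻¹ * (v * a * v⁻¹) = v * (b * a) * v⁻¹ := by group
      _ = v * (a * b) * v⁻¹ := by rw [hb1]
      _ = _ := by group
  rcases hL.conj_axis_eq hV hw hw1 ha haw hv with e | e <;> rw [e] at h1
  · exact h1
  · exact (Commute.inv_right_iff.1 h1).eq

/-- **Maximal invariant `p`-subgroups meet trivially.** -/
theorem max_eq_of_inf_ne_bot (hp : p ≠ 2) {R₁ R₂ : Subgroup X} (h₁ : Maximal (PInv V p) R₁)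
    (h₂ : Maximal (PInv V p) R₂) (hne : R₁ ⊓ R₂ ≠ ⊥) : R₁ = R₂ := by
  classical
  induction hd : Nat.card X - Nat.card (R₁ ⊓ R₂ : Subgroup X) using Nat.strong_induction_on
    generalizing R₁ R₂ with
  | _ n ih =>
    subst hd
    by_contra hneq
    set D := R₁ ⊓ R₂ with hD
    -- members sharing more than `D` are equal
    have hIH : ∀ {R R' : Subgroup X}, Maximal (PInv V p) R → Maximal (PInv V p) R' →
        ∀ {U : Subgroup X}, D < U → U ≤ R → U ≤ R' → R = R' := by
      intro R R' hR hR' U hU hUR hUR'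
      have hlt : Nat.card D < Nat.card (R ⊓ R' : Subgroup X) := by
        refine lt_of_lt_of_le ?_ (card_le_of_le (le_inf hUR hUR'))
        exact lt_of_le_of_ne (card_le_of_le hU.le)
          fun e => hU.ne (eq_of_le_of_card_ge hU.le e.ge)
      have hle : Nat.card (R ⊓ R' : Subgroup X) ≤ Nat.card X := Subgroup.card_le_card_group _
      refine ih _ (by omega) hR hR' (fun e => ?_) rfl
      rw [e, Subgroup.card_bot] at hlt
      have : 0 < Nat.card D := Nat.card_pos
      omega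
    have hDp : IsPGroup p D := h₁.1.1.to_le inf_le_left
    have hDV : V ≤ normalizer (D : Set X) :=
      (le_inf h₁.1.2 h₂.1.2).trans inf_normalizer_le_normalizer_inf
    have hDodd := odd_card_pgroup hp hDp
    set N := normalizer (D : Set X) with hN
    -- the centre of `D`
    set A := (center D).map D.subtype with hA
    have hAD : A ≤ D := map_subtype_le _
    have hAc : ∀ a ∈ A, ∀ d ∈ D, a * d = d * a := by
      rintro _ ⟨a, ha, rfl⟩ d hd
      exact congrArg Subtype.val (mem_center_iff.1 ha ⟨d, hd⟩).symm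
    have hA1 : A ≠ ⊥ := by
      haveI : Nontrivial D := (nontrivial_iff_ne_bot D).2 hne
      haveI := hDp.center_nontrivial
      rw [hA, Ne, map_eq_bot_iff_of_injective _ D.subtype_injective]
      exact (nontrivial_iff_ne_bot _).1 inferInstance
    have hAV : V ≤ normalizer (A : Set X) := by
      refine le_normalizer_iff.2 fun v hv a ha => ?_
      refine ⟨⟨v * a * v⁻¹, le_normalizer_iff.1 hDV v hv a (hAD ha)⟩, mem_center_iff.2 fun d => ?_,
        rfl⟩
      have hd : v⁻¹ * d * v ∈ D := by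
        simpa using le_normalizer_iff.1 hDV _ (inv_mem hv) d d.2
      have h1 := congrArg (fun g => v * g * v⁻¹) (hAc a ha _ hd)
      refine Subtype.ext (?_ : (d : X) * (v * a * v⁻¹) = v * a * v⁻¹ * d)
      group at h1 ⊢
      exact h1.symm
    have hAodd : ∀ a ∈ A, Odd (orderOf a) := fun a ha =>
      hDodd.of_dvd_nat (Subgroup.orderOf_dvd_natCard D (hAD ha))
    -- new elements
    let New : X → X → Prop := fun x τ =>
      x ∈ V ∧ x ≠ 1 ∧ τ * x = x * τ ∧ (∃ k, orderOf τ = p ^ k) ∧ τ ∈ N ∧ τ ∉ D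
    have hNewU : ∀ {x τ}, New x τ → PInv V p (D ⊔ zpowers τ) ∧ D < D ⊔ zpowers τ := by
      rintro x τ ⟨hx, hx1, hτx, ⟨k, hk⟩, hτN, hτD⟩
      refine ⟨⟨?_, ?_⟩, ?_⟩
      · exact hDp.to_sup_of_normal_left'
          (IsPGroup.of_card (n := k) (by rw [Nat.card_zpowers, hk])) (zpowers_le.2 hτN)
      · exact (le_inf hDV (hL.le_normalizer_zpowers_axis hV hx hx1 (odd_orderOf_pow hp hk) hτx)).trans
          (normalizer_inf_normalizer_le_normalizer_sup _ _)
      · exact lt_of_le_of_ne le_sup_left fun e => hτD (e ▸ mem_sup_right (mem_zpowers τ))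
    -- same axis, same owner
    have hsame : ∀ {x τ τ'}, New x τ → New x τ' → ∀ {R R'}, Maximal (PInv V p) R →
        Maximal (PInv V p) R' → D ⊔ zpowers τ ≤ R → D ⊔ zpowers τ' ≤ R' → R = R' := by
      intro x τ τ' hτ hτ' R R' hR hR' hle hle'
      obtain ⟨hx, hx1, hτx, hτk, hτN, hτD⟩ := id hτ
      obtain ⟨-, -, hτx', hτk', hτN', -⟩ := id hτ'
      set P := pAxis p x ⊓ N with hP
      have hPN : P ≤ N := inf_le_right
      have hPV : V ≤ normalizer (P : Set X) :=
        (le_inf (hL.pinv_pAxis hV hp hx hx1).2 ((hDV.trans le_normalizer : V ≤ normalizer (N : Set X)))).trans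
          inf_normalizer_le_normalizer_inf
      have hPinv : PInv V p (D ⊔ P) :=
        ⟨hDp.to_sup_of_normal_left' ((hL.isPGroup_pAxis hp (hV.orderOf_eq hx hx1)).to_le inf_le_left)
            hPN,
          (le_inf hDV hPV).trans (normalizer_inf_normalizer_le_normalizer_sup _ _)⟩
      obtain ⟨R₀, hle0, hR₀⟩ := exists_max hPinv
      have hm : ∀ {σ}, σ * x = x * σ → (∃ k, orderOf σ = p ^ k) → σ ∈ N → D ⊔ zpowers σ ≤ R₀ := by
        intro σ h1 h2 h3
        refine sup_le (le_sup_left.trans hle0) (zpowers_le.2 (hle0 (mem_sup_right ⟨?_, h3⟩)))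
        exact subset_closure ⟨h1, h2⟩
      rw [hIH hR hR₀ (hNewU hτ).2 hle (hm hτx hτk hτN),
        hIH hR' hR₀ (hNewU hτ').2 hle' (hm hτx' hτk' hτN')]
    -- two new elements centralising one element of `A` on an axis
    have hjoin : ∀ {a w}, a ∈ A → a ≠ 1 → w ∈ V → w ≠ 1 → a * w = w * a → ∀ {x τ x' τ'},
        New x τ → New x' τ' → τ * a = a * τ → τ' * a = a * τ' → ∀ {R R'}, Maximal (PInv V p) R →
        Maximal (PInv V p) R' → D ⊔ zpowers τ ≤ R → D ⊔ zpowers τ' ≤ R' → R = R' := by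
      intro a w ha ha1 hw hw1 haw x τ x' τ' hτ hτ' hτa hτ'a R R' hR hR' hle hle'
      obtain ⟨W, hWo, hW, -⟩ := hL.exists_coreC (hV.orderOf_eq hw hw1) haw (hAodd a ha) ha1
      have hWV := hL.le_normalizer_coreC hV hw hw1 (hAodd a ha) haw hW
      set U := W ⊓ N with hU
      have hUV : V ≤ normalizer (U : Set X) :=
        (le_inf hWV (hDV.trans le_normalizer : V ≤ normalizer (N : Set X))).trans
          inf_normalizer_le_normalizer_inf
      have hUo : Odd (Nat.card U) := hWo.of_dvd_nat (card_dvd_of_le inf_le_left)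
      obtain ⟨Q, hQV, hQ⟩ := hV.exists_sylow_ge_all hUV hUo (hL.fix_eq_bot hV hUo) p
      have hin : ∀ {y σ}, New y σ → σ * a = a * σ →
          D ⊔ zpowers σ ≤ (Q : Subgroup U).map U.subtype := by
        intro y σ hσ hσa
        refine hQ _ (sup_le (fun d hd => ⟨(hW d).2 ⟨(hAc a ha d hd).symm,
          hDodd.of_dvd_nat (Subgroup.orderOf_dvd_natCard D hd)⟩, le_normalizer hd⟩) ?_)
          (hNewU hσ).1.1 (hNewU hσ).1.2
        obtain ⟨-, -, -, ⟨k, hk⟩, hσN, -⟩ := hσ
        exact zpowers_le.2 ⟨(hW σ).2 ⟨hσa, odd_orderOf_pow hp hk⟩, hσN⟩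
      obtain ⟨R₀, hle0, hR₀⟩ := exists_max (V := V) (p := p)
        (P := (Q : Subgroup U).map U.subtype) ⟨Q.2.map _, hQV⟩
      rw [hIH hR hR₀ (hNewU hτ).2 hle ((hin hτ hτa).trans hle0),
        hIH hR' hR₀ (hNewU hτ').2 hle' ((hin hτ' hτ'a).trans hle0)]
    -- each of `R₁`, `R₂` has new elements
    have hex : ∀ {R}, Maximal (PInv V p) R → D < R → ∃ x τ, New x τ ∧ τ ∈ R := by
      intro R hR hDR
      by_contra hno
      push Not at hno
      have hRo := odd_card_pgroup hp hR.1.1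
      haveI : Group.IsNilpotent R := hR.1.1.isNilpotent
      have hlt : D.subgroupOf R < ⊤ := by
        rw [lt_top_iff_ne_top]
        exact fun h => hDR.not_ge (subgroupOf_eq_top.1 h)
      obtain ⟨g, hg, hgD⟩ := SetLike.exists_of_lt
        (Group.normalizerCondition_of_isNilpotent (G := R) _ hlt)
      have hgN : (g : X) ∈ N := by
        refine mem_normalizer_of_conj fun d hd => ?_
        exact (mem_normalizer_iff.1 hg ⟨d, hDR.le hd⟩).1 hd
      have hle : R ⊓ N ≤ D := by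
        refine hV.le_of_axes ((le_inf hR.1.2 (hDV.trans le_normalizer :
          V ≤ normalizer (N : Set X))).trans inf_normalizer_le_normalizer_inf)
          (hRo.of_dvd_nat (card_dvd_of_le inf_le_left)) fun x hx hx1 b hb => ?_
        by_contra hbD
        exact hno x b ⟨hx, hx1, mem_centralizer_singleton_iff.1 hb.2,
          exists_orderOf_eq_pow hR.1.1 hb.1.1, hb.1.2, hbD⟩ hb.1.1
      exact hgD (hle ⟨g.2, hgN⟩)
    have hD1 : D < R₁ := lt_of_le_of_ne inf_le_left fun e => hneq (le_antisymm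
      (e ▸ inf_le_right) (h₁.2 h₂.1 (e ▸ inf_le_right)))
    have hD2 : D < R₂ := lt_of_le_of_ne inf_le_right fun e => hneq (le_antisymm
      (h₂.2 h₁.1 (e ▸ inf_le_left)) (e ▸ inf_le_left))
    obtain ⟨x₁, τ₁, hτ₁, hτ₁R⟩ := hex h₁ hD1
    obtain ⟨x₂, τ₂, hτ₂, hτ₂R⟩ := hex h₂ hD2
    have hle₁ : D ⊔ zpowers τ₁ ≤ R₁ := sup_le hD1.le (zpowers_le.2 hτ₁R)
    have hle₂ : D ⊔ zpowers τ₂ ≤ R₂ := sup_le hD2.le (zpowers_le.2 hτ₂R)
    obtain ⟨hx₁, hx₁1, hτ₁x, ⟨k₁, hk₁⟩, hτ₁N, hτ₁D⟩ := id hτ₁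
    obtain ⟨hx₂, hx₂1, hτ₂x, ⟨k₂, hk₂⟩, hτ₂N, hτ₂D⟩ := id hτ₂
    have hx12 : x₁ ≠ x₂ := by
      intro e
      subst e
      exact hneq (hsame hτ₁ hτ₂ h₁ h₂ hle₁ hle₂)
    -- an element of `A` on another axis centralised by a new element
    have hK2 : ∀ {x τ}, New x τ → (A ≤ centralizer {x}) ∨
        ∃ y a, y ∈ V ∧ y ≠ 1 ∧ y ≠ x ∧ a ∈ A ∧ a ≠ 1 ∧ a * y = y * a ∧ τ * a = a * τ := by
      intro x τ hτ
      by_cases hnle : A ≤ centralizer {x}
      · exact Or.inl hnle
      refine Or.inr ?_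
      obtain ⟨hx, hx1, hτx, ⟨k, hk⟩, hτN, hτD⟩ := id hτ
      have hτodd := odd_orderOf_pow hp hk
      set Q := D ⊔ zpowers τ with hQ
      have hQp : IsPGroup p Q := (hNewU hτ).1.1
      have hAQ : A ≤ Q := hAD.trans le_sup_left
      have hAτ : ∀ a ∈ A, τ * a * τ⁻¹ ∈ A := by
        intro a ha
        refine ⟨⟨τ * a * τ⁻¹, conj_mem_of_mem_normalizer hτN (hAD ha)⟩,
          mem_center_iff.2 fun d => ?_, rfl⟩
        have hd : τ⁻¹ * d * τ ∈ D := by
          simpa using conj_mem_of_mem_normalizer (inv_mem hτN) d.2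
        have h1 := congrArg (fun g => τ * g * τ⁻¹) (hAc a ha _ hd)
        refine Subtype.ext (?_ : (d : X) * (τ * a * τ⁻¹) = τ * a * τ⁻¹ * d)
        group at h1 ⊢
        exact h1.symm
      have hQnorm : ∀ g ∈ Q, ∀ a ∈ A, g * a * g⁻¹ ∈ A := by
        have : Q ≤ normalizer (A : Set X) := sup_le
          (le_normalizer_iff.2 fun d hd a ha => by
            rw [← hAc a ha d hd, mul_inv_cancel_right]; exact ha)
          (zpowers_le.2 (mem_normalizer_of_conj hAτ))
        exact fun g hg a ha => le_normalizer_iff.1 this g hg a ha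
      set Ax := A ⊓ centralizer {x} with hAx
      have hAxτ : ∀ a ∈ Ax, τ * a = a * τ := fun a ha =>
        hL.odd_commute (hV.orderOf_eq hx hx1) hτx (mem_centralizer_singleton_iff.1 ha.2) hτodd
          (hAodd a ha.1)
      have hQcx : Q ≤ centralizer (Ax : Set X) := sup_le
        (fun d hd => mem_centralizer_iff.2 fun a ha => hAc a ha.1 d hd)
        (zpowers_le.2 (mem_centralizer_iff.2 fun a ha => (hAxτ a ha).symm))
      haveI : (A.subgroupOf Q).Normal := ⟨fun a ha g => hQnorm g g.2 a ha⟩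
      haveI : (Ax.subgroupOf Q).Normal := ⟨fun a ha g => by
        rw [mem_subgroupOf] at ha ⊢
        push_cast
        rw [(mem_centralizer_iff.1 (hQcx g.2) _ ha).symm, mul_inv_cancel_right]
        exact ha⟩
      have hlt : Ax.subgroupOf Q < A.subgroupOf Q := by
        refine lt_of_le_of_ne (fun q hq => (mem_subgroupOf.1 hq).1) fun e => ?_
        obtain ⟨a, ha, hax⟩ := SetLike.not_le_iff_exists.1 hnle
        have : (⟨a, hAQ ha⟩ : Q) ∈ Ax.subgroupOf Q := e ▸ (ha : (⟨a, hAQ ha⟩ : Q) ∈ A.subgroupOf Q)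
        exact hax this.2
      obtain ⟨b, hb, hbx, hbc⟩ := Invol.exists_central_mod hQp _ _ hlt
      have hτb : τ * b * τ⁻¹ * (b : X)⁻¹ ∈ Ax := hbc ⟨τ, mem_sup_right (mem_zpowers τ)⟩
      have hbA : (b : X) ∈ A := hb
      have hxx := hV.inv_eq hx
      have hxb : x * b * x⁻¹ ∈ A := le_normalizer_iff.1 hAV x hx b hbA
      set c : X := (b : X)⁻¹ * (x * b * x⁻¹) with hc
      have hcA : c ∈ A := mul_mem (inv_mem hbA) hxb
      have hAcomm : ∀ a ∈ A, ∀ a' ∈ A, a * a' = a' * a := fun a ha a' ha' => hAc a ha a' (hAD ha')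
      have hc1 : c ≠ 1 := by
        intro e
        rw [hc, inv_mul_eq_one] at e
        refine hbx ⟨hbA, mem_centralizer_singleton_iff.2 ?_⟩
        exact (mul_inv_eq_iff_eq_mul.1 e.symm).symm
      have hxc : x * c * x⁻¹ = c⁻¹ := by
        rw [hc]
        have h2 : x * (x * b * x⁻¹) * x⁻¹ = b := by
          rw [show x * (x * b * x⁻¹) * x⁻¹ = (x * x) * b * (x * x)⁻¹ by group, hV.sq x hx]; simp
        calc x * ((b : X)⁻¹ * (x * b * x⁻¹)) * x⁻¹
            = (x * b * x⁻¹)⁻¹ * (x * (x * b * x⁻¹) * x⁻¹) := by group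
          _ = (x * b * x⁻¹)⁻¹ * b := by rw [h2]
          _ = _ := by group
      -- `τ` fixes `c`
      set d : X := τ * b * τ⁻¹ * (b : X)⁻¹ with hd
      have hdx : d * x = x * d := mem_centralizer_singleton_iff.1 hτb.2
      have hτc : τ * c * τ⁻¹ = c := by
        have hτb' : τ * b * τ⁻¹ = d * b := by rw [hd]; group
        have hτx' : τ * x * τ⁻¹ = x := by rw [hτx, mul_inv_cancel_right]
        calc τ * c * τ⁻¹ = (τ * b * τ⁻¹)⁻¹ *
              ((τ * x * τ⁻¹) * (τ * b * τ⁻¹) * (τ * x * τ⁻¹)⁻¹) := by rw [hc]; group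
          _ = (d * b)⁻¹ * (x * (d * b) * x⁻¹) := by rw [hτb', hτx']
          _ = (d * b)⁻¹ * ((x * d) * (b * x⁻¹)) := by group
          _ = (d * b)⁻¹ * ((d * x) * (b * x⁻¹)) := by rw [hdx]
          _ = c := by rw [hc]; group
      -- pass to an axis
      set B : Subgroup X :=
        { carrier := {a | a ∈ A ∧ τ * a = a * τ ∧ x * a * x⁻¹ = a⁻¹}
          one_mem' := ⟨one_mem A, by simp, by simp⟩
          mul_mem' := by
            rintro a a' ⟨ha, hat, hax⟩ ⟨ha', hat', hax'⟩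
            refine ⟨mul_mem ha ha', (Commute.mul_right hat hat' : Commute τ (a * a')).eq, ?_⟩
            rw [show x * (a * a') * x⁻¹ = (x * a * x⁻¹) * (x * a' * x⁻¹) by group, hax, hax',
              hAcomm a ha a' ha', mul_inv_rev]
          inv_mem' := by
            rintro a ⟨ha, hat, hax⟩
            refine ⟨inv_mem ha, (Commute.inv_right hat : Commute τ a⁻¹).eq, ?_⟩
            rw [← conj_inv, hax] } with hB
      have hBV : V ≤ normalizer (B : Set X) := by
        refine le_normalizer_iff.2 fun v hv a ⟨ha, hat, hax⟩ =>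
          ⟨le_normalizer_iff.1 hAV v hv a ha, ?_, ?_⟩
        · have h1 : v * τ * v⁻¹ * (v * a * v⁻¹) = v * a * v⁻¹ * (v * τ * v⁻¹) := by
            calc v * τ * v⁻¹ * (v * a * v⁻¹) = v * (τ * a) * v⁻¹ := by group
              _ = v * (a * τ) * v⁻¹ := by rw [hat]
              _ = _ := by group
          rcases hL.conj_axis_eq hV hx hx1 hτodd hτx hv with e | e <;> rw [e] at h1
          · exact h1
          · exact (Commute.inv_left_iff.1 h1).eq
        · have hxv := hV.comm hx hv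
          calc x * (v * a * v⁻¹) * x⁻¹ = (x * v) * a * (x * v)⁻¹ := by group
            _ = (v * x) * a * (v * x)⁻¹ := by rw [hxv]
            _ = v * (x * a * x⁻¹) * v⁻¹ := by group
            _ = _ := by rw [hax]; group
      have hcB : c ∈ B := ⟨hcA, mul_inv_eq_iff_eq_mul.1 hτc, hxc⟩
      obtain ⟨y, hy, hy1, a, haB, hay, ha1⟩ : ∃ y ∈ V, y ≠ 1 ∧ ∃ a ∈ B, a * y = y * a ∧ a ≠ 1 := by
        by_contra hno'
        push Not at hno'
        have hle : B ≤ ⊥ := hV.le_of_axes hBV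
          (hDodd.of_dvd_nat (card_dvd_of_le (fun a ha => hAD ha.1)))
          fun y hy hy1 a ha => Subgroup.mem_bot.2
            (hno' y hy hy1 a ha.1 (mem_centralizer_singleton_iff.1 ha.2))
        exact hc1 (Subgroup.mem_bot.1 (hle hcB))
      refine ⟨y, a, hy, hy1, ?_, haB.1, ha1, hay, haB.2.1⟩
      rintro rfl
      refine ha1 (eq_one_of_odd_of_sq (hAodd a haB.1) ?_)
      have h3 := haB.2.2
      rw [← hay, mul_inv_cancel_right, eq_inv_iff_mul_eq_one] at h3
      exact h3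
    -- `A` lies on neither axis
    rcases hK2 hτ₂ with hA2 | ⟨y', a', hy', hy'1, hy'x, ha'A, ha'1, ha'y, hτa'⟩
    · rcases hK2 hτ₁ with hA1' | ⟨y, a, hy, hy1, hyx, haA, ha1, hay, hτa⟩
      · obtain ⟨a, ha, ha1⟩ := (bot_or_exists_ne_one A).resolve_left hA1
        exact ha1 (hL.eq_one_of_commute_four hV hx₁ hx₂ hx₁1 hx₂1 hx12 (hAodd a ha)
          (mem_centralizer_singleton_iff.1 (hA1' ha)) (mem_centralizer_singleton_iff.1 (hA2 ha)))
      · refine hneq (hjoin haA ha1 hy hy1 hay hτ₁ hτ₂ hτa ?_ h₁ h₂ hle₁ hle₂)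
        exact hL.odd_commute (hV.orderOf_eq hx₂ hx₂1) hτ₂x
          (mem_centralizer_singleton_iff.1 (hA2 haA)) (odd_orderOf_pow hp hk₂) (hAodd a haA)
    rcases hK2 hτ₁ with hA1' | ⟨y, a, hy, hy1, hyx, haA, ha1, hay, hτa⟩
    · refine hneq (hjoin ha'A ha'1 hy' hy'1 ha'y hτ₁ hτ₂ ?_ hτa' h₁ h₂ hle₁ hle₂)
      exact hL.odd_commute (hV.orderOf_eq hx₁ hx₁1) hτ₁x
        (mem_centralizer_singleton_iff.1 (hA1' ha'A)) (odd_orderOf_pow hp hk₁) (hAodd a' ha'A)
    set z := x₁ * x₂ with hz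
    have hzV : z ∈ V := V.mul_mem hx₁ hx₂
    have hyz : y = z := by
      rcases hV.cases hx₁ hx₂ hx₁1 hx₂1 hx12 hy with e | e | e | e
      · exact absurd e hy1
      · exact absurd e hyx
      · exact absurd (hjoin haA ha1 hy hy1 hay hτ₁ hτ₂ hτa (hL.odd_commute (hV.orderOf_eq hx₂ hx₂1)
          hτ₂x (e ▸ hay) (odd_orderOf_pow hp hk₂) (hAodd a haA)) h₁ h₂ hle₁ hle₂) hneq
      · exact e
    have hy'z : y' = z := by
      rcases hV.cases hx₁ hx₂ hx₁1 hx₂1 hx12 hy' with e | e | e | e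
      · exact absurd e hy'1
      · exact absurd (hjoin ha'A ha'1 hy' hy'1 ha'y hτ₁ hτ₂ (hL.odd_commute
          (hV.orderOf_eq hx₁ hx₁1) hτ₁x (e ▸ ha'y) (odd_orderOf_pow hp hk₁) (hAodd a' ha'A)) hτa'
          h₁ h₂ hle₁ hle₂) hneq
      · exact absurd e hy'x
      · exact e
    subst hyz
    -- no new element on the third axis
    have hzold : ∀ τ, ¬ New z τ := by
      intro τ hτ
      obtain ⟨-, -, hτz, ⟨k, hk⟩, -, -⟩ := id hτ
      obtain ⟨R, hle, hR⟩ := exists_max (hNewU hτ).1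
      have hodd := odd_orderOf_pow hp hk
      have e1 := hjoin haA ha1 hzV hy1 hay hτ₁ hτ hτa
        (hL.odd_commute (hV.orderOf_eq hzV hy1) hτz hay hodd (hAodd a haA)) h₁ hR hle₁ hle
      have e2 := hjoin ha'A ha'1 hzV hy1 (hy'z ▸ ha'y) hτ₂ hτ hτa'
        (hL.odd_commute (hV.orderOf_eq hzV hy1) hτz (hy'z ▸ ha'y) hodd (hAodd a' ha'A))
        h₂ hR hle₂ hle
      exact hneq (e1.trans e2.symm)
    by_cases hg : ∃ g ∈ N, g ∈ normalizer (V : Set X) ∧ g ∉ V
    · obtain ⟨g, hgN, hgV, hgnV⟩ := hg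
      have hconjV : ∀ v ∈ V, g * v * g⁻¹ ∈ V := fun v hv => conj_mem_of_mem_normalizer hgV hv
      have hne1 : ∀ v : X, v ≠ 1 → g * v * g⁻¹ ≠ 1 := fun v hv e => hv (conj_eq_one_iff.1 e)
      have hgz : g * z * g⁻¹ = z := by
        have hback : ∀ {x τ}, New x τ → g * z * g⁻¹ = x → False := by
          intro x τ ⟨hx, hx1, hτx, ⟨k, hk⟩, hτN, hτD⟩ e
          refine hzold (g⁻¹ * τ * g) ⟨hzV, hy1, ?_, ⟨k, ?_⟩, mul_mem (mul_mem (inv_mem hgN) hτN) hgN,
            fun h => hτD ?_⟩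
          · calc g⁻¹ * τ * g * z = g⁻¹ * (τ * (g * z * g⁻¹)) * g := by group
              _ = g⁻¹ * ((g * z * g⁻¹) * τ) * g := by rw [e, hτx]
              _ = _ := by group
          · have := orderOf_conj g⁻¹ τ
            rw [inv_inv] at this
            rw [this, hk]
          · have := conj_mem_of_mem_normalizer hgN h
            group at this
            simpa using this
        rcases hV.cases hx₁ hx₂ hx₁1 hx₂1 hx12 (hconjV z hzV) with e | e | e | e
        · exact absurd e (hne1 z hy1)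
        · exact (hback hτ₁ e).elim
        · exact (hback hτ₂ e).elim
        · exact e
      have hgx : g * x₁ * g⁻¹ = x₂ := by
        rcases hV.cases hx₁ hx₂ hx₁1 hx₂1 hx12 (hconjV x₁ hx₁) with e | e | e | e
        · exact absurd e (hne1 x₁ hx₁1)
        · refine absurd (hL.centralizer_four hV (hV.centralizer_pair hx₁ hzV hx₁1 hy1 ?_
            (mul_inv_eq_iff_eq_mul.1 e) (mul_inv_eq_iff_eq_mul.1 hgz))) hgnV
          exact fun e' => hyx e'.symm
        · exact e
        · exact absurd ((MulAut.conj g).injective (e.trans hgz.symm) : x₁ = z) (Ne.symm hyx)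
      obtain ⟨K, hK⟩ := hL.ctl z (hV.orderOf_eq hzV hy1)
      obtain ⟨k, hkK, hkN, hkx⟩ : ∃ k ∈ K, k ∈ N ∧ k * x₁ * k⁻¹ = x₂ := by
        have hgC : g ∈ centralizer ({z} : Set X) :=
          mem_centralizer_singleton_iff.2 (mul_inv_eq_iff_eq_mul.1 hgz)
        by_cases hgK : g ∈ K
        · exact ⟨g, hgK, hgN, hgx⟩
        · refine ⟨g * x₁, hK.mul_mem g hgC x₁ (hV.le_centralizer hzV hx₁) hgK
            (hK.not_mem_of_inv (hV.orderOf_eq hx₁ hx₁1) (Ne.symm hyx)), mul_mem hgN (hDV hx₁), ?_⟩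
          rw [show g * x₁ * x₁ * (g * x₁)⁻¹ = g * (x₁ * x₁ * x₁⁻¹) * g⁻¹ by group,
            mul_inv_cancel_right]
          exact hgx
      have hka : k * a * k⁻¹ = a := by
        rw [hK.comm k hkK a (hK.mem_of_odd hay (hAodd a haA)), mul_inv_cancel_right]
      set τ := k * τ₁ * k⁻¹ with hτ
      have hnew : New x₂ τ := by
        refine ⟨hx₂, hx₂1, ?_, ⟨k₁, by rw [hτ, orderOf_conj, hk₁]⟩,
          mul_mem (mul_mem hkN hτ₁N) (inv_mem hkN), fun h => hτ₁D ?_⟩
        · rw [← hkx, hτ]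
          calc k * τ₁ * k⁻¹ * (k * x₁ * k⁻¹) = k * (τ₁ * x₁) * k⁻¹ := by group
            _ = k * (x₁ * τ₁) * k⁻¹ := by rw [hτ₁x]
            _ = _ := by group
        · have := conj_mem_of_mem_normalizer (inv_mem hkN) h
          rw [hτ] at this
          group at this
          simpa using this
      obtain ⟨R, hle, hR⟩ := exists_max (hNewU hnew).1
      have hτa' : τ * a = a * τ := by
        calc τ * a = k * τ₁ * k⁻¹ * (k * a * k⁻¹) := by rw [hka]
          _ = k * (τ₁ * a) * k⁻¹ := by group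
          _ = k * (a * τ₁) * k⁻¹ := by rw [hτa]
          _ = (k * a * k⁻¹) * τ := by rw [hτ]; group
          _ = a * τ := by rw [hka]
      exact hneq ((hjoin haA ha1 hzV hy1 hay hτ₁ hnew hτa hτa' h₁ hR hle₁ hle).trans
        (hsame hnew hτ₂ hR h₂ hle hle₂))
    · push Not at hg
      haveI : Fact (Nat.Prime 2) := ⟨Nat.prime_two⟩
      have hV2 : IsPGroup 2 (V.subgroupOf N) := IsPGroup.of_card (n := 2)
        (by rw [Nat.card_congr (subgroupOfEquivOfLe hDV).toEquiv, hV.card]; norm_num)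
      obtain ⟨T, hT⟩ := hV2.exists_le_sylow
      have hTV : (T : Subgroup N) = V.subgroupOf N := by
        by_contra hne'
        haveI : Group.IsNilpotent (T : Subgroup N) := T.2.isNilpotent
        have hlt : (V.subgroupOf N).subgroupOf T < ⊤ := by
          rw [lt_top_iff_ne_top]
          exact fun h => hne' (le_antisymm (subgroupOf_eq_top.1 h) hT)
        obtain ⟨g, hg', hgV⟩ := SetLike.exists_of_lt
          (Group.normalizerCondition_of_isNilpotent (G := (T : Subgroup N)) _ hlt)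
        refine hgV (hg _ (g : N).2 (mem_normalizer_of_conj fun v hv => ?_))
        have hv' : (⟨v, hDV hv⟩ : N) ∈ (T : Subgroup N) := hT hv
        exact (mem_normalizer_iff.1 hg' ⟨_, hv'⟩).1 hv
      have hbur : normalizer (((T : Subgroup N)) : Set N) ≤ centralizer ((T : Subgroup N) : Set N) := by
        intro g hg'
        rw [hTV] at hg' ⊢
        have hgV : (g : X) ∈ V := hg _ g.2 (mem_normalizer_of_conj fun v hv =>
          (mem_normalizer_iff.1 hg' ⟨v, hDV hv⟩).1 hv)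
        exact mem_centralizer_iff.2 fun v hv => Subtype.ext (hV.comm hv hgV)
      obtain ⟨R, N₀, hN₀, hc⟩ := Transfer.hasNormalPComplement_of_normalizer_le_centralizer T hbur
      have hN₀o : Odd (Nat.card N₀) := by
        rw [← Nat.not_even_iff_odd, even_iff_two_dvd]
        intro h2
        exact R.not_dvd_index (by rw [hc.index_eq_card]; exact h2)
      set U := N₀.map N.subtype with hU
      have hUo : Odd (Nat.card U) := by rwa [hU, card_map_of_injective N.subtype_injective]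
      have hUV : V ≤ normalizer (U : Set X) := by
        refine le_normalizer_iff.2 fun v hv b hb => ?_
        obtain ⟨b', hb', rfl⟩ := hb
        exact ⟨⟨v, hDV hv⟩ * b' * ⟨v, hDV hv⟩⁻¹, hN₀.conj_mem b' hb' _, rfl⟩
      have hmemU : ∀ b ∈ N, Odd (orderOf b) → b ∈ U := by
        intro b hb hbo
        refine ⟨⟨b, hb⟩, ?_, rfl⟩
        show (⟨b, hb⟩ : N) ∈ N₀
        rw [← QuotientGroup.eq_one_iff, ← orderOf_eq_one_iff]
        obtain ⟨i, hi⟩ := IsPGroup.iff_card.1 R.2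
        have h1 : orderOf ((⟨b, hb⟩ : N) : N ⧸ N₀) ∣ 2 ^ i := by
          rw [← hi, ← hc.symm.index_eq_card]; exact orderOf_dvd_natCard _
        refine Nat.eq_one_of_dvd_coprimes ((Nat.coprime_two_left.2 hbo).pow_left i) h1 ?_
        have h2 := orderOf_map_dvd (QuotientGroup.mk' N₀) (⟨b, hb⟩ : N)
        rwa [Subgroup.orderOf_mk] at h2
      obtain ⟨Q, hQV, hQ⟩ := hV.exists_sylow_ge_all hUV hUo (hL.fix_eq_bot hV hUo) p
      have hin : ∀ {x σ}, New x σ → D ⊔ zpowers σ ≤ (Q : Subgroup U).map U.subtype := by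
        intro x σ hσ
        refine hQ _ (sup_le (fun d hd => hmemU d (le_normalizer hd)
          (hDodd.of_dvd_nat (Subgroup.orderOf_dvd_natCard D hd))) ?_) (hNewU hσ).1.1 (hNewU hσ).1.2
        obtain ⟨-, -, -, ⟨k, hk⟩, hσN, -⟩ := hσ
        exact zpowers_le.2 (hmemU σ hσN (odd_orderOf_pow hp hk))
      obtain ⟨R₀, hle0, hR₀⟩ := exists_max (V := V) (p := p)
        (P := (Q : Subgroup U).map U.subtype) ⟨Q.2.map _, hQV⟩
      exact hneq ((hIH h₁ hR₀ (hNewU hτ₁).2 hle₁ ((hin hτ₁).trans hle0)).trans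
        (hIH h₂ hR₀ (hNewU hτ₂).2 hle₂ ((hin hτ₂).trans hle0)).symm)

/-- A `V`-invariant `p`-subgroup meeting a maximal one lies in it. -/
theorem le_max (hp : p ≠ 2) {R P : Subgroup X} (hR : Maximal (PInv V p) R) (hP : PInv V p P)
    {a : X} (haR : a ∈ R) (haP : a ∈ P) (ha1 : a ≠ 1) : P ≤ R := by
  obtain ⟨R', hle, hR'⟩ := exists_max hP
  refine hL.max_eq_of_inf_ne_bot hV hp hR hR' (fun e => ha1 ?_) ▸ hle
  exact Subgroup.mem_bot.1 (e ▸ ⟨haR, hle haP⟩)

end Loc

/-- Some `V`-invariant `p`-subgroup meets two different axes. -/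
def Big (V : Subgroup X) (p : ℕ) : Prop :=
  ∃ P : Subgroup X, PInv V p P ∧ ∃ x ∈ V, ∃ y ∈ V, x ≠ 1 ∧ y ≠ 1 ∧ x ≠ y ∧
    (∃ a ∈ P, a ≠ 1 ∧ a * x = x * a) ∧ ∃ b ∈ P, b ≠ 1 ∧ b * y = y * b

namespace Loc

variable [Finite X] (hL : Loc X) {V : Subgroup X} (hV : Four V) {p : ℕ} [Fact p.Prime]
include hL hV

/-- In the big case the member containing the three axes is normalised by `N(V)`. -/
theorem exists_big_member (hp : p ≠ 2) (h : Big V p) :
    ∃ R, Maximal (PInv V p) R ∧ R ≠ ⊥ ∧ (∀ z ∈ V, z ≠ 1 → pAxis p z ≤ R) ∧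
      normalizer (V : Set X) ≤ normalizer (R : Set X) := by
  obtain ⟨P, hP, x, hx, y, hy, hx1, hy1, hxy, ⟨a, ha, ha1, hax⟩, b, hb, hb1, hby⟩ := h
  obtain ⟨R, hPR, hR⟩ := exists_max hP
  have hsub : ∀ {z c}, z ∈ V → z ≠ 1 → c ∈ R → c ≠ 1 → c * z = z * c → pAxis p z ≤ R := by
    intro z c hz hz1 hc hc1 hcz
    exact hL.le_max hV hp hR (hL.pinv_pAxis hV hp hz hz1) hc
      (subset_closure ⟨hcz, exists_orderOf_eq_pow hR.1.1 hc⟩) hc1
  have hnorm : normalizer (V : Set X) ≤ normalizer (R : Set X) := by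
    intro g hg
    refine mem_normalizer_of_conj ?_
    have hP' : PInv V p (R.map (MulAut.conj g).toMonoidHom) := by
      refine ⟨hR.1.1.map _, le_normalizer_iff.2 fun v hv c hc => ?_⟩
      rw [TwoFusion.mem_map_conj_iff] at hc ⊢
      have hv' : g⁻¹ * v * g ∈ V := by
        simpa using conj_mem_of_mem_normalizer (inv_mem hg) hv
      convert le_normalizer_iff.1 hR.1.2 _ hv' _ hc using 1
      group
    suffices h : R.map (MulAut.conj g).toMonoidHom ≤ R from fun c hc => h ⟨c, hc, rfl⟩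
    -- one of the two images is `x` or `y`
    have key : ∀ {z c}, z ∈ V → z ≠ 1 → c ∈ R → c ≠ 1 → c * z = z * c →
        (g * z * g⁻¹ = x ∨ g * z * g⁻¹ = y) → R.map (MulAut.conj g).toMonoidHom ≤ R := by
      intro z c hz hz1 hc hc1 hcz hor
      have hc' : g * c * g⁻¹ * (g * z * g⁻¹) = g * z * g⁻¹ * (g * c * g⁻¹) := by
        calc g * c * g⁻¹ * (g * z * g⁻¹) = g * (c * z) * g⁻¹ := by group
          _ = g * (z * c) * g⁻¹ := by rw [hcz]
          _ = _ := by group
      have hk : ∃ k, orderOf (g * c * g⁻¹) = p ^ k := by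
        rw [orderOf_conj]; exact exists_orderOf_eq_pow hR.1.1 hc
      refine hL.le_max hV hp hR hP' (a := g * c * g⁻¹) ?_ ⟨c, hc, rfl⟩
        fun e => hc1 (conj_eq_one_iff.1 e)
      rcases hor with e | e
      · exact hsub hx hx1 (hPR ha) ha1 hax (subset_closure ⟨e ▸ hc', hk⟩)
      · exact hsub hy hy1 (hPR hb) hb1 hby (subset_closure ⟨e ▸ hc', hk⟩)
    rcases hV.cases hx hy hx1 hy1 hxy (conj_mem_of_mem_normalizer hg hx) with e | e | e | e
    · exact absurd (conj_eq_one_iff.1 e) hx1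
    · exact key hx hx1 (hPR ha) ha1 hax (Or.inl e)
    · exact key hx hx1 (hPR ha) ha1 hax (Or.inr e)
    · refine key hy hy1 (hPR hb) hb1 hby ?_
      rcases hV.cases hx hy hx1 hy1 hxy (conj_mem_of_mem_normalizer hg hy) with e' | e' | e' | e'
      · exact absurd (conj_eq_one_iff.1 e') hy1
      · exact Or.inl e'
      · exact Or.inr e'
      · exact absurd ((MulAut.conj g).injective (e.trans e'.symm)) hxy
  refine ⟨R, hR, fun e => ha1 (Subgroup.mem_bot.1 (e ▸ hPR ha)), fun z hz hz1 c hc => ?_, hnorm⟩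
  obtain ⟨hcz, hck⟩ := (hL.mem_pAxis hp (hV.orderOf_eq hz hz1)).1 hc
  rcases eq_or_ne x z with rfl | hxz
  · exact hsub hx hx1 (hPR ha) ha1 hax hc
  obtain ⟨g, hg, hgz⟩ := hL.exists_omega hV hx hz hx1 hz1 hxz
  have hc' : g⁻¹ * c * g ∈ R := by
    refine hsub hx hx1 (hPR ha) ha1 hax (subset_closure ⟨?_, ?_⟩)
    · calc g⁻¹ * c * g * x = g⁻¹ * (c * (g * x * g⁻¹)) * g := by group
        _ = g⁻¹ * ((g * x * g⁻¹) * c) * g := by rw [hgz, hcz]
        _ = _ := by group
    · have := orderOf_conj g⁻¹ c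
      rw [inv_inv] at this
      rw [this]; exact hck
  have := conj_mem_of_mem_normalizer (hnorm hg) hc'
  group at this
  simpa using this

end Loc

end Cfsg.Agent.GenDih
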