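import Cfsg.Agent.GenDih.Fpf
import Cfsg.Agent.GenDih.Trans
import Cfsg.Agent.OddLocal.MinSimple
import Cfsg.Agent.S0205

/-!
# The centralizer of an odd element of `C(t)` lies in `C(t)`

For a simple group with dihedral Sylow 2-subgroups and generalised dihedral involution centralizers:
`centralizer_le`: if `a ≠ 1` is an element of odd order in `C(t)`, then `C(a) ≤ C(t)`.
-/

set_option autoImplicit false
set_option linter.style.haveILetI false
set_option linter.unusedSectionVars false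

namespace Cfsg.Agent.GenDih

open Subgroup
open scoped commutatorElement

universe u

variable {X : Type u} [Group X] [Finite X]

theorem le_normalizer_map_of_characteristic (H : Subgroup X) (C : Subgroup H) [C.Characteristic] :
    normalizer (H : Set X) ≤ normalizer ((C.map H.subtype : Subgroup X) : Set X) := by
  intro g hg
  refine mem_normalizer_of_conj ?_
  rintro _ ⟨c, hc, rfl⟩
  set φ : H ≃* H := H.normalizerMonoidHom ⟨g, hg⟩
  have h1 : φ c ∈ C := by
    have := characteristic_iff_map_eq.1 (inferInstance : C.Characteristic) φ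
    exact this ▸ ⟨c, hc, rfl⟩
  exact ⟨φ c, h1, rfl⟩

theorem le_normalizer_iSup {ι : Sort*} (N : Subgroup X) (P : ι → Subgroup X)
    (h : ∀ i, N ≤ normalizer (P i : Set X)) :
    N ≤ normalizer ((⨆ i, P i : Subgroup X) : Set X) := by
  intro g hg
  refine mem_normalizer_of_conj fun c hc => ?_
  have hle : (⨆ i, P i).map (MulAut.conj g).toMonoidHom ≤ ⨆ i, P i := by
    rw [Subgroup.map_iSup]
    refine iSup_mono fun i => ?_
    rintro _ ⟨d, hd, rfl⟩
    exact conj_mem_of_mem_normalizer (h i hg) hd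
  exact hle ⟨c, hc, rfl⟩

/-- The standing hypotheses. -/
structure Setting (X : Type u) [Group X] [Finite X] (S : Sylow 2 X) (t : X) (K : Subgroup X) :
    Prop where
  simple : IsSimpleGroup X
  loc : Loc X
  gdc : GDC t K
  mem : t ∈ (S : Subgroup X)
  le : (S : Subgroup X) ≤ centralizer {t}
  dih : ∃ n, 2 ≤ n ∧ Nonempty ((S : Subgroup X) ≃* DihedralGroup n)

namespace Setting

variable {S : Sylow 2 X} {t : X} {K : Subgroup X}

theorem conj_K (h : Setting X S t K) {c a : X} (hc : c ∈ centralizer ({t} : Set X)) (ha : a ∈ K) :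
    c * a * c⁻¹ = a ∨ c * a * c⁻¹ = a⁻¹ := by
  by_cases hcK : c ∈ K
  · exact Or.inl (by rw [h.gdc.comm c hcK a ha, mul_inv_cancel_right])
  · exact Or.inr ((h.gdc.out c hc hcK).2 a ha)

theorem conj_mem_K (h : Setting X S t K) {c a : X} (hc : c ∈ centralizer ({t} : Set X))
    (ha : a ∈ K) : c * a * c⁻¹ ∈ K := by
  rcases h.conj_K hc ha with e | e <;> rw [e]
  · exact ha
  · exact inv_mem ha

/-- A reflection in `S`. -/
theorem exists_refl (h : Setting X S t K) :
    ∃ r ∈ (S : Subgroup X), r ∉ K ∧ orderOf r = 2 ∧ r ≠ t ∧ r * t = t * r := by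
  haveI : Fact (Nat.Prime 2) := ⟨Nat.prime_two⟩
  obtain ⟨c, hc, hcK⟩ := h.gdc.proper
  have hco := h.gdc.orderOf_out hc hcK
  obtain ⟨g, hg, hgS⟩ := TwoFusion.exists_conj_le_sylow_of_le S h.le
    (IsPGroup.of_card (p := 2) (n := 1) (by rw [Nat.card_zpowers, hco, pow_one]) :
      IsPGroup 2 (zpowers c)) (zpowers_le.2 hc)
  have hgc := hgS c (mem_zpowers c)
  refine ⟨_, hgc, fun hK => hcK ?_, by rw [orderOf_conj, hco], ?_,
    mem_centralizer_singleton_iff.1 (h.le hgc)⟩
  · have := h.conj_mem_K ((centralizer ({t} : Set X)).inv_mem hg) hK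
    group at this
    simpa using this
  · intro e
    refine hcK ?_
    have := h.conj_mem_K ((centralizer ({t} : Set X)).inv_mem hg) (e ▸ h.gdc.mem :
      g * c * g⁻¹ ∈ K)
    group at this
    simpa using this

theorem exists_four_in (h : Setting X S t K) :
    ∃ V : Subgroup X, Four V ∧ t ∈ V ∧ V ≤ (S : Subgroup X) := by
  obtain ⟨r, hr, -, hro, hrt, hc⟩ := h.exists_refl
  obtain ⟨V, hV, htV, -, hcases⟩ := exists_four h.gdc.inv hro hrt.symm hc
  refine ⟨V, hV, htV, fun v hv => ?_⟩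
  rcases hcases v hv with rfl | rfl | rfl | rfl
  · exact one_mem _
  · exact h.mem
  · exact hr
  · exact mul_mem h.mem hr

/-- A subgroup containing `S` and the odd elements of `C(t)` contains `C(t)`. -/
theorem centralizer_le_of (h : Setting X S t K) {M : Subgroup X} (hS : (S : Subgroup X) ≤ M)
    (hodd : ∀ a, a * t = t * a → Odd (orderOf a) → a ∈ M) : centralizer {t} ≤ M := by
  haveI : Fact (Nat.Prime 2) := ⟨Nat.prime_two⟩
  have hK : ∀ k ∈ K, (∃ p i : ℕ, p.Prime ∧ orderOf k = p ^ i) → k ∈ M := by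
    rintro k hk ⟨p, i, hp, hki⟩
    have hkC := h.gdc.le hk
    rcases hp.eq_two_or_odd' with rfl | hodd'
    · obtain ⟨c, hc, hcS⟩ := TwoFusion.exists_conj_le_sylow_of_le S h.le
        (IsPGroup.of_card (p := 2) (n := i) (by rw [Nat.card_zpowers, hki]) :
          IsPGroup 2 (zpowers k)) (zpowers_le.2 hkC)
      have h1 := hcS k (mem_zpowers k)
      rcases h.conj_K hc hk with e | e <;> rw [e] at h1
      · exact hS h1
      · exact hS (inv_inv k ▸ inv_mem h1)
    · exact hodd k (mem_centralizer_singleton_iff.1 hkC) (hki ▸ hodd'.pow)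
  have hKM : K ≤ M := by
    have htop := Element.closure_primePow_orderOf (G := K)
    intro k hk
    have hle : (⊤ : Subgroup K) ≤ M.comap K.subtype := by
      rw [← htop, closure_le]
      rintro w ⟨p, i, hp, hw⟩
      exact hK _ w.2 ⟨p, i, hp, (Subgroup.orderOf_coe w).trans hw⟩
    exact hle (mem_top ⟨k, hk⟩)
  obtain ⟨r, hr, hrK, hro, -, -⟩ := h.exists_refl
  intro c hc
  by_cases hcK : c ∈ K
  · exact hKM hcK
  · have h1 := h.gdc.mul_mem c hc r (h.le hr) hcK hrK
    have h2 : c = c * r * r := by rw [mul_assoc, sq_of_orderOf_two hro, mul_one]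
    rw [h2]
    exact mul_mem (hKM h1) (hS hr)

/-- No nontrivial proper subgroup is normalised by `C(t)` and all `N(V)`, `t ∈ V ≤ S`. -/
theorem no_normalized (h : Setting X S t K) {o : X} (ho : o * t = t * o) (hoo : Odd (orderOf o))
    (ho1 : o ≠ 1) {L : Subgroup X} (hL0 : L ≠ ⊥) (hLt : L ≠ ⊤)
    (hC : centralizer {t} ≤ normalizer (L : Set X))
    (hV : ∀ V : Subgroup X, Four V → t ∈ V → V ≤ (S : Subgroup X) →
      normalizer (V : Set X) ≤ normalizer (L : Set X)) : False := by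
  haveI := h.simple
  haveI : Fact (Nat.Prime 2) := ⟨Nat.prime_two⟩
  set M := normalizer (L : Set X) with hM
  have hMt : M ≠ ⊤ := by
    intro e
    haveI : L.Normal := normalizer_eq_top_iff.1 e
    exact (IsSimpleGroup.eq_bot_or_eq_top_of_normal L inferInstance).elim hL0 hLt
  obtain ⟨n, hn, hS⟩ := h.dih
  have hSM : (S : Subgroup X) ≤ M := h.le.trans hC
  refine index_lemma S n hn hS h.gdc.inv h.mem h.le ?_ h.loc.one M hMt hC ?_
  · obtain ⟨V, hV4, -, hVS⟩ := h.exists_four_in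
    have h1 : 4 ∣ Nat.card (centralizer ({t} : Set X)) :=
      hV4.card ▸ card_dvd_of_le (hVS.trans h.le)
    have h2 : orderOf o ∣ Nat.card (centralizer ({t} : Set X)) :=
      Subgroup.orderOf_dvd_natCard _ (mem_centralizer_singleton_iff.2 ho)
    have h3 : 4 * orderOf o ∣ Nat.card (centralizer ({t} : Set X)) :=
      Nat.Coprime.mul_dvd_of_dvd_of_dvd (by
        rw [show (4 : ℕ) = 2 ^ 2 by norm_num]
        exact (Nat.coprime_two_left.2 hoo).pow_left 2) h1 h2
    have h4 : 3 ≤ orderOf o := by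
      have h5 : orderOf o ≠ 1 := fun e => ho1 (orderOf_eq_one_iff.1 e)
      obtain ⟨j, hj⟩ := hoo
      omega
    have := Nat.le_of_dvd Nat.card_pos h3
    omega
  · -- one class of involutions
    have key : ∀ a : M, orderOf a = 2 → IsConj (⟨t, hSM h.mem⟩ : M) a := by
      intro a ha
      have hao : orderOf (a : X) = 2 := by rw [Subgroup.orderOf_coe, ha]
      obtain ⟨m, hm, hmS⟩ := TwoFusion.exists_conj_le_sylow_of_le S hSM
        (IsPGroup.of_card (p := 2) (n := 1) (by rw [Nat.card_zpowers, hao, pow_one]) :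
          IsPGroup 2 (zpowers (a : X))) (zpowers_le.2 a.2)
      have hb := hmS a (mem_zpowers _)
      have hbo : orderOf (m * a * m⁻¹) = 2 := by rw [orderOf_conj, hao]
      obtain ⟨g, hg, hgt⟩ : ∃ g ∈ M, g * t * g⁻¹ = m * a * m⁻¹ := by
        rcases eq_or_ne t (m * a * m⁻¹) with e | e
        · exact ⟨1, one_mem M, by simpa using e⟩
        obtain ⟨V, hV4, htV, hbV, hcases⟩ := exists_four h.gdc.inv hbo e
          (mem_centralizer_singleton_iff.1 (h.le hb))
        have hVS : V ≤ (S : Subgroup X) := by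
          intro v hv
          rcases hcases v hv with rfl | rfl | rfl | rfl
          · exact one_mem _
          · exact h.mem
          · exact hb
          · exact mul_mem h.mem hb
        obtain ⟨g, hg, hgt⟩ := h.loc.exists_omega hV4 htV hbV (ne_one_of_orderOf_two h.gdc.inv)
          (ne_one_of_orderOf_two hbo) e
        exact ⟨g, hV V hV4 htV hVS hg, hgt⟩
      refine isConj_iff.2 ⟨⟨m⁻¹ * g, M.mul_mem (M.inv_mem hm) hg⟩, Subtype.ext ?_⟩
      show m⁻¹ * g * t * (m⁻¹ * g)⁻¹ = a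
      rw [show m⁻¹ * g * t * (m⁻¹ * g)⁻¹ = m⁻¹ * (g * t * g⁻¹) * m by group, hgt]
      group
    exact fun a b ha hb => (key a ha).symm.trans (key b hb)

/-- The odd part of the centralizer of an odd element of `C(t)` is normalised by `C(t)`. -/
theorem le_normalizer_W (h : Setting X S t K) {a : X} (hat : a * t = t * a) (hao : Odd (orderOf a))
    {W : Subgroup X} (hW : ∀ b, b ∈ W ↔ b * a = a * b ∧ Odd (orderOf b)) :
    centralizer {t} ≤ normalizer (W : Set X) := by
  intro c hc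
  refine mem_normalizer_of_conj fun b hb => ?_
  obtain ⟨hb1, hb2⟩ := (hW b).1 hb
  refine (hW _).2 ⟨?_, by rw [orderOf_conj]; exact hb2⟩
  have h1 : c * b * c⁻¹ * (c * a * c⁻¹) = c * a * c⁻¹ * (c * b * c⁻¹) := by
    calc c * b * c⁻¹ * (c * a * c⁻¹) = c * (b * a) * c⁻¹ := by group
      _ = c * (a * b) * c⁻¹ := by rw [hb1]
      _ = _ := by group
  rcases h.conj_K hc (h.gdc.mem_of_odd hat hao) with e | e <;> rw [e] at h1
  · exact h1
  · exact (Commute.inv_right_iff.1 h1).eq

variable {p : ℕ} [Fact p.Prime]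

/-- In the big case there is an element of `Z(R)` in `C(t)`; `R` is a Sylow subgroup of the odd part
of its centralizer and is normalised by `S`. -/
theorem big_sylow (h : Setting X S t K) (hp : p ≠ 2) {V : Subgroup X} (hV : Four V) (htV : t ∈ V)
    (hVS : V ≤ (S : Subgroup X)) {R : Subgroup X} (hR : Maximal (PInv V p) R) (hR0 : R ≠ ⊥)
    (hnorm : normalizer (V : Set X) ≤ normalizer (R : Set X)) :
    (S : Subgroup X) ≤ normalizer (R : Set X) ∧
    ∃ a, a ∈ R ∧ a ≠ 1 ∧ a * t = t * a ∧ ∃ W : Subgroup X, Odd (Nat.card W) ∧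
      centralizer {t} ≤ normalizer (W : Set X) ∧
      (∀ b, b * t = t * b → Odd (orderOf b) → b ∈ W) ∧
      ∃ R₀ : Sylow p W, (R₀ : Subgroup W).map W.subtype = R := by
  classical
  haveI : Fact (Nat.Prime 2) := ⟨Nat.prime_two⟩
  set Z := (center R).map R.subtype with hZ
  have hZR : Z ≤ R := map_subtype_le _
  have hZc : ∀ z ∈ Z, ∀ d ∈ R, z * d = d * z := by
    rintro _ ⟨z, hz, rfl⟩ d hd
    exact congrArg Subtype.val (mem_center_iff.1 hz ⟨d, hd⟩).symm
  have hZn : normalizer (R : Set X) ≤ normalizer (Z : Set X) :=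
    le_normalizer_map_of_characteristic R (center R)
  have hRo := odd_card_pgroup hp hR.1.1
  have hZ0 : Z ≠ ⊥ := by
    haveI : Nontrivial R := (nontrivial_iff_ne_bot R).2 hR0
    haveI := hR.1.1.center_nontrivial
    rw [hZ, Ne, map_eq_bot_iff_of_injective _ R.subtype_injective]
    exact (nontrivial_iff_ne_bot _).1 inferInstance
  -- an element of `Z(R)` on the axis of `t`
  obtain ⟨a, haZ, ha1, hat⟩ : ∃ a ∈ Z, a ≠ 1 ∧ a * t = t * a := by
    by_contra hno
    push Not at hno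
    refine hZ0 (le_bot_iff.1 (hV.le_of_axes (hR.1.2.trans hZn)
      (hRo.of_dvd_nat (card_dvd_of_le hZR)) fun z hz hz1 c hc => ?_))
    rw [Subgroup.mem_bot]
    by_contra hc1
    have hcz := mem_centralizer_singleton_iff.1 hc.2
    rcases eq_or_ne z t with rfl | hzt
    · exact hno c hc.1 hc1 hcz
    obtain ⟨g, hg, hgz⟩ := h.loc.exists_omega hV hz htV hz1 (ne_one_of_orderOf_two h.gdc.inv) hzt
    refine hno (g * c * g⁻¹) (conj_mem_of_mem_normalizer (hZn (hnorm hg)) hc.1)
      (fun e => hc1 (conj_eq_one_iff.1 e)) ?_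
    rw [← hgz]
    calc g * c * g⁻¹ * (g * z * g⁻¹) = g * (c * z) * g⁻¹ := by group
      _ = g * (z * c) * g⁻¹ := by rw [hcz]
      _ = _ := by group
  have hao : Odd (orderOf a) := hRo.of_dvd_nat (Subgroup.orderOf_dvd_natCard R (hZR haZ))
  obtain ⟨W, hWo, hW, -⟩ := h.loc.exists_coreC h.gdc.inv hat hao ha1
  have hCW := h.le_normalizer_W hat hao hW
  have hRW : R ≤ W := fun d hd => (hW d).2
    ⟨(hZc a haZ d hd).symm, hRo.of_dvd_nat (Subgroup.orderOf_dvd_natCard R hd)⟩
  have hVW : V ≤ normalizer (W : Set X) := (hVS.trans h.le).trans hCW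
  obtain ⟨R₀, hR₀V, hR₀⟩ := hV.exists_sylow_ge_all hVW hWo (h.loc.fix_eq_bot hV hWo) p
  have heq : (R₀ : Subgroup W).map W.subtype = R :=
    le_antisymm (hR.2 ⟨R₀.2.map _, hR₀V⟩ (hR₀ R hRW hR.1.1 hR.1.2)) (hR₀ R hRW hR.1.1 hR.1.2)
  refine ⟨?_, a, hZR haZ, ha1, hat, W, hWo, hCW, fun b hb hbo => (hW b).2
    ⟨h.loc.odd_commute h.gdc.inv hb hat hbo hao, hbo⟩, R₀, heq⟩
  have hSW : (S : Subgroup X) ≤ normalizer (W : Set X) := h.le.trans hCW
  have hcop : (Nat.card (S : Subgroup X)).Coprime (Nat.card W) := by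
    obtain ⟨i, hi⟩ := IsPGroup.iff_card.1 S.isPGroup'
    rw [hi]; exact (Nat.coprime_two_left.2 hWo).pow_left i
  haveI : Group.IsNilpotent (S : Subgroup X) := S.isPGroup'.isNilpotent
  obtain ⟨Q, hQ⟩ := Coprime.exists_invariant_sylow p hSW hcop
    (Or.inl (inferInstance : Group.IsSolvable (S : Subgroup X)))
  have hQR : (Q : Subgroup W).map W.subtype = R := by
    refine eq_of_le_of_card_ge ?_ ?_
    · exact heq ▸ hR₀ _ (map_subtype_le _) (Q.2.map _) (hVS.trans hQ)
    · rw [← heq, Coprime.card_sylow_map, Coprime.card_sylow_map]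
  exact hQR ▸ hQ

/-- In the big case `R` is abelian, normalised by `S` and by `N(V')` for the four-groups
`t ∈ V' ≤ S`. -/
theorem big_abelian (h : Setting X S t K) (hp : p ≠ 2) {V : Subgroup X} (hV : Four V) (htV : t ∈ V)
    (hVS : V ≤ (S : Subgroup X)) (hbig : Big V p) :
    ∃ R, Maximal (PInv V p) R ∧ R ≠ ⊥ ∧ (∀ z ∈ V, z ≠ 1 → pAxis p z ≤ R) ∧
      (S : Subgroup X) ≤ normalizer (R : Set X) ∧
      (∀ V' : Subgroup X, Four V' → t ∈ V' → V' ≤ (S : Subgroup X) →
        normalizer (V' : Set X) ≤ normalizer (R : Set X)) ∧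
      ∀ a ∈ R, ∀ b ∈ R, a * b = b * a := by
  classical
  haveI : Fact (Nat.Prime 2) := ⟨Nat.prime_two⟩
  obtain ⟨R, hR, hR0, hax, hnorm⟩ := h.loc.exists_big_member hV hp hbig
  obtain ⟨hSR, a, haR, ha1, hat, W, hWo, hCW, hOW, R₀, heq⟩ :=
    h.big_sylow hp hV htV hVS hR hR0 hnorm
  have ht1 := ne_one_of_orderOf_two h.gdc.inv
  have hRo := odd_card_pgroup hp hR.1.1
  have hall : ∀ V' : Subgroup X, Four V' → t ∈ V' → V' ≤ (S : Subgroup X) →
      normalizer (V' : Set X) ≤ normalizer (R : Set X) := by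
    intro V' hV' htV' hV'S
    have hRinv : PInv V' p R := ⟨hR.1.1, hV'S.trans hSR⟩
    have hbig' : Big V' p := by
      by_contra hno
      have hle : R ≤ centralizer {t} := by
        refine hV'.le_of_axes hRinv.2 hRo fun y hy hy1 b hb => ?_
        rcases eq_or_ne y t with rfl | hyt
        · exact hb.2
        rcases eq_or_ne b 1 with rfl | hb1
        · exact one_mem _
        exact absurd ⟨R, hRinv, t, htV', y, hy, ht1, hy1, hyt.symm, ⟨a, haR, ha1, hat⟩, b, hb.1,
          hb1, mem_centralizer_singleton_iff.1 hb.2⟩ hno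
      obtain ⟨r, hr, hr1, hrt⟩ := hV.exists_other htV ht1
      obtain ⟨g, hg, hgt⟩ := h.loc.exists_omega hV htV hr ht1 hr1 hrt
      have hmem := conj_mem_of_mem_normalizer (hnorm hg) haR
      refine ha1 (conj_eq_one_iff.1 (h.loc.eq_one_of_commute_four hV htV hr ht1 hr1 hrt
        (a := g * a * g⁻¹) ?_ (mem_centralizer_singleton_iff.1 (hle hmem)) ?_))
      · exact hRo.of_dvd_nat (Subgroup.orderOf_dvd_natCard R hmem)
      · rw [← hgt]
        calc g * a * g⁻¹ * (g * t * g⁻¹) = g * (a * t) * g⁻¹ := by group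
          _ = g * (t * a) * g⁻¹ := by rw [hat]
          _ = _ := by group
    obtain ⟨R', hR', hR'0, hax', hnorm'⟩ := h.loc.exists_big_member hV' hp hbig'
    obtain ⟨hSR', -⟩ := h.big_sylow hp hV' htV' hV'S hR' hR'0 hnorm'
    have ha' : a ∈ R' := hax' t htV' ht1 (subset_closure ⟨hat, exists_orderOf_eq_pow hR.1.1 haR⟩)
    have h1 : R ≤ R' := h.loc.le_max hV' hp hR' hRinv ha' haR ha1
    have h2 : R' ≤ R := hR.2 ⟨hR'.1.1, hVS.trans hSR'⟩ h1
    rwa [le_antisymm h1 h2]
  refine ⟨R, hR, hR0, hax, hSR, hall, ?_⟩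
  -- `R` is abelian
  by_contra hnab
  have hL0 : ⁅R, R⁆ ≠ ⊥ := by
    intro e
    refine hnab fun b hb c hc => ?_
    have h1 : ⁅b, c⁆ ∈ ⁅R, R⁆ := commutator_mem_commutator hb hc
    rw [e, Subgroup.mem_bot] at h1
    exact commutatorElement_eq_one_iff_mul_comm.1 h1
  have hLR : ⁅R, R⁆ ≤ R := commutator_le.2 fun b hb c hc => by
    rw [commutatorElement_def]; exact mul_mem (mul_mem (mul_mem hb hc) (inv_mem hb)) (inv_mem hc)
  have hLt : ⁅R, R⁆ ≠ ⊤ := by
    intro e
    have h1 : t ∈ R := hLR (e ▸ mem_top t)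
    have h2 := Subgroup.orderOf_dvd_natCard R h1
    rw [h.gdc.inv] at h2
    exact hRo.not_two_dvd_nat h2
  have hnormL : normalizer (R : Set X) ≤ normalizer ((⁅R, R⁆ : Subgroup X) : Set X) :=
    (le_inf le_rfl le_rfl).trans (Coprime.normalizer_inf_le_normalizer_commutator R R)
  refine h.no_normalized hat (hRo.of_dvd_nat (Subgroup.orderOf_dvd_natCard R haR)) ha1 hL0 hLt
    (h.centralizer_le_of (hSR.trans hnormL) fun b hb hbo => ?_)
    fun V' hV' htV' hV'S => (hall V' hV' htV' hV'S).trans hnormL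
  -- the odd part of the centralizer normalises `R'`
  have hbW := hOW b hb hbo
  set F := Cfsg.fittingSubgroup W with hF
  have hW'F : commutator W ≤ F := commutator_le_fitting hV ((hVS.trans h.le).trans hCW) hWo
    (h.loc.fix_eq_bot hV hWo)
  set N := (R₀ : Subgroup W) ⊔ F with hN
  haveI : N.Normal := Subgroup.Normal.of_commutator_le _ (hW'F.trans le_sup_right)
  set L₀ := ⁅(R₀ : Subgroup W), (R₀ : Subgroup W)⁆ with hL₀
  set Zn := normalizer (L₀ : Set W) with hZn
  have hRZ : normalizer ((R₀ : Subgroup W) : Set W) ≤ Zn :=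
    (le_inf le_rfl le_rfl).trans (Coprime.normalizer_inf_le_normalizer_commutator _ _)
  have hFZ : F ≤ Zn := by
    rw [hF, Cores.fittingSubgroup_eq_iSup_pCore]
    refine iSup_le fun q => ?_
    rcases eq_or_ne (q : ℕ) p with hqp | hqp
    · rw [hqp]; exact ((PSolv.pCore_le_sylow R₀).trans le_normalizer).trans hRZ
    intro f hf
    refine mem_normalizer_of_conj fun c hc => ?_
    haveI : Fact (q : ℕ).Prime := ⟨q.2⟩
    have hfF : f ∈ F := Cores.pCore_le_fittingSubgroup hf
    have hcF : c ∈ F := hW'F (commutator_mono le_top le_top hc)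
    have hcR : c ∈ (R₀ : Subgroup W) := commutator_le.2 (fun u hu w hw => by
      rw [commutatorElement_def]
      exact mul_mem (mul_mem (mul_mem hu hw) (inv_mem hu)) (inv_mem hw)) hc
    obtain ⟨i, hi⟩ := exists_orderOf_eq_pow (PSolv.isPGroup_pCore (q : ℕ) W) hf
    obtain ⟨j, hj⟩ := exists_orderOf_eq_pow R₀.2 hcR
    have hcomm := SolvStruct.nil_commute_of_coprime Cores.fittingSubgroup_isNilpotent hfF hcF
      (by rw [hi, hj]; exact ((Nat.coprime_primes q.2 Fact.out).2 hqp).pow i j)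
    rw [hcomm, mul_inv_cancel_right]
    exact hc
  have hZtop : Zn = ⊤ := by
    rw [eq_top_iff, ← Sylow.normalizer_sup_eq_top' R₀ (le_sup_left : (R₀ : Subgroup W) ≤ N)]
    exact sup_le hRZ (sup_le (le_normalizer.trans hRZ) hFZ)
  refine mem_normalizer_of_conj fun c hc => ?_
  rw [← heq, ← map_commutator] at hc ⊢
  obtain ⟨c₀, hc₀, rfl⟩ := hc
  exact ⟨⟨b, hbW⟩ * c₀ * ⟨b, hbW⟩⁻¹,
    conj_mem_of_mem_normalizer (hZtop ▸ mem_top _ : (⟨b, hbW⟩ : W) ∈ Zn) hc₀, rfl⟩

/-- **The key step**: `C(a) ∩ (odd elements) ≤ C(t)` for `a ≠ 1` odd in `C(t)`. -/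
theorem odd_centralizer_le (h : Setting X S t K) {a : X} (hat : a * t = t * a)
    (hao : Odd (orderOf a)) (ha1 : a ≠ 1) {b : X} (hba : b * a = a * b) (hbo : Odd (orderOf b)) :
    b * t = t * b := by
  classical
  haveI : Fact (Nat.Prime 2) := ⟨Nat.prime_two⟩
  obtain ⟨W, hWo, hW, -⟩ := h.loc.exists_coreC h.gdc.inv hat hao ha1
  obtain ⟨H, hWH, hH⟩ := Finite.exists_le_maximal (a := W)
    (p := fun H : Subgroup X => Odd (Nat.card H) ∧ centralizer {t} ≤ normalizer (H : Set X))
    ⟨hWo, h.le_normalizer_W hat hao hW⟩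
  obtain ⟨hHo, hCH⟩ := hH.1
  suffices hHt : H ≤ centralizer {t} from
    mem_centralizer_singleton_iff.1 (hHt (hWH ((hW b).2 ⟨hba, hbo⟩)))
  by_contra hHt
  obtain ⟨V, hV, htV, hVS⟩ := h.exists_four_in
  have ht1 := ne_one_of_orderOf_two h.gdc.inv
  have hVH : V ≤ normalizer (H : Set X) := (hVS.trans h.le).trans hCH
  have hfix := h.loc.fix_eq_bot hV hHo
  have hW'F : commutator H ≤ Cfsg.fittingSubgroup H := commutator_le_fitting hV hVH hHo hfix
  have haH : a ∈ H := hWH ((hW a).2 ⟨rfl, hao⟩)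
  have hOH : ∀ c, c * t = t * c → Odd (orderOf c) → c ∈ H := fun c hc hco =>
    hWH ((hW c).2 ⟨h.loc.odd_commute h.gdc.inv hc hat hco hao, hco⟩)
  haveI : Group.IsSolvable H := Cfsg.Agent.S0205.result hHo
  haveI : Nontrivial H := ⟨⟨⟨a, haH⟩, 1, fun e => ha1 (congrArg Subtype.val e)⟩⟩
  -- the primes of the Fitting subgroup
  set Fp : ℕ → Subgroup X := fun q => (Cfsg.pCore q H).map H.subtype with hFp
  have hFpH : ∀ q, Fp q ≤ H := fun q => map_subtype_le _
  have hFpn : ∀ q, normalizer (H : Set X) ≤ normalizer (Fp q : Set X) := fun q => by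
    haveI := PSolv.pCore_characteristic q H
    exact le_normalizer_map_of_characteristic H _
  have hne2 : ∀ q, q.Prime → Fp q ≠ ⊥ → q ≠ 2 := by
    intro q hq hne e
    subst e
    obtain ⟨f, hf, hf1⟩ := (bot_or_exists_ne_one (Fp 2)).resolve_left hne
    obtain ⟨i, hi⟩ := exists_orderOf_eq_pow ((PSolv.isPGroup_pCore 2 H).map _) hf
    have h1 := hHo.of_dvd_nat (Subgroup.orderOf_dvd_natCard H (hFpH 2 hf))
    rw [hi] at h1
    rcases i with - | i
    · rw [pow_zero, orderOf_eq_one_iff] at hi; exact hf1 hi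
    · exact absurd h1 (Nat.not_odd_iff_even.2 ((even_iff_two_dvd).2 (dvd_pow_self 2 i.succ_ne_zero)))
  by_cases hgood : ∃ q, q.Prime ∧ Fp q ≠ ⊥ ∧ ¬ Big V q
  · -- a prime whose invariant subgroups lie on one axis
    obtain ⟨q, hq, hne, hnb⟩ := hgood
    haveI := Fact.mk hq
    have hq2 := hne2 q hq hne
    have hFV : V ≤ normalizer (Fp q : Set X) := hVH.trans (hFpn q)
    have hFp' : IsPGroup q (Fp q) := (PSolv.isPGroup_pCore q H).map _
    have hFo := odd_card_pgroup hq2 hFp'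
    obtain ⟨x, hx, hx1, f, hf, hf1, hfx⟩ : ∃ x ∈ V, x ≠ 1 ∧ ∃ f ∈ Fp q, f ≠ 1 ∧ f * x = x * f := by
      by_contra hno
      push Not at hno
      refine hne (le_bot_iff.1 (hV.le_of_axes hFV hFo fun x hx hx1 f hf => ?_))
      rw [Subgroup.mem_bot]
      by_contra hf1
      exact hno x hx hx1 f hf.1 hf1 (mem_centralizer_singleton_iff.1 hf.2)
    have hFx : Fp q ≤ centralizer {x} := by
      refine hV.le_of_axes hFV hFo fun y hy hy1 g hg => ?_
      rcases eq_or_ne y x with rfl | hyx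
      · exact hg.2
      rcases eq_or_ne g 1 with rfl | hg1
      · exact one_mem _
      exact absurd ⟨Fp q, ⟨hFp', hFV⟩, x, hx, y, hy, hx1, hy1, hyx.symm, ⟨f, hf, hf1, hfx⟩, g,
        hg.1, hg1, mem_centralizer_singleton_iff.1 hg.2⟩ hnb
    have hHx : H ≤ centralizer {x} := by
      refine hV.le_of_axes hVH hHo fun w hw hw1 c hc => ?_
      rcases eq_or_ne w x with rfl | hwx
      · exact hc.2
      rcases eq_or_ne c 1 with rfl | hc1
      · exact one_mem _
      exfalso
      have hcw := mem_centralizer_singleton_iff.1 hc.2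
      have hco : Odd (orderOf c) := hHo.of_dvd_nat (Subgroup.orderOf_dvd_natCard H hc.1)
      -- `c` centralises `f`
      have hinv := h.loc.inverts_four hV hw hx hw1 hx1 hwx hco hcw
      have hmem : c * f * c⁻¹ ∈ Fp q := conj_mem_of_mem_normalizer (hFpn q (le_normalizer hc.1)) hf
      have h1 := mem_centralizer_singleton_iff.1 (hFx hmem)
      have hcf : c * f = f * c := by
        refine commute_of_commute_sq hco ?_
        have h2 : c⁻¹ * f * c = c * f * c⁻¹ := by
          calc c⁻¹ * f * c = (x * c * x⁻¹) * (x * f * x⁻¹) * (x * c * x⁻¹)⁻¹ := by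
                rw [hinv, ← hfx, mul_inv_cancel_right, inv_inv]
            _ = x * (c * f * c⁻¹) * x⁻¹ := by group
            _ = _ := by rw [← h1, mul_inv_cancel_right]
        calc c * c * f = c * (c * f * c⁻¹) * c := by group
          _ = c * (c⁻¹ * f * c) * c := by rw [h2]
          _ = _ := by group
      obtain ⟨Wc, hWco, hWc, -⟩ := h.loc.exists_coreC (hV.orderOf_eq hw hw1) hcw hco hc1
      have hVWc := h.loc.le_normalizer_coreC hV hw hw1 hco hcw hWc
      obtain ⟨Q, hQV, hQ⟩ := hV.exists_sylow_ge_all hVWc hWco (h.loc.fix_eq_bot hV hWco) q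
      have hfo : Odd (orderOf f) := hFo.of_dvd_nat (Subgroup.orderOf_dvd_natCard _ hf)
      obtain ⟨i, hi⟩ := exists_orderOf_eq_pow hFp' hf
      have hfQ : f ∈ (Q : Subgroup Wc).map Wc.subtype := by
        refine hQ (zpowers f) (zpowers_le.2 ((hWc f).2 ⟨hcf.symm, hfo⟩))
          (IsPGroup.of_card (n := i) (by rw [Nat.card_zpowers, hi]))
          (h.loc.le_normalizer_zpowers_axis hV hx hx1 hfo hfx) (mem_zpowers f)
      have hAQ : pAxis q w ≤ (Q : Subgroup Wc).map Wc.subtype := by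
        obtain ⟨hA1, hA2⟩ := h.loc.pinv_pAxis hV hq2 hw hw1
        refine hQ _ (fun d hd => ?_) hA1 hA2
        obtain ⟨hdw, j, hj⟩ := (h.loc.mem_pAxis hq2 (hV.orderOf_eq hw hw1)).1 hd
        exact (hWc d).2 ⟨h.loc.odd_commute (hV.orderOf_eq hw hw1) hdw hcw
          (odd_orderOf_pow hq2 hj) hco, odd_orderOf_pow hq2 hj⟩
      obtain ⟨g, hg⟩ := isConj_iff.1 (h.loc.one x w (hV.orderOf_eq hx hx1) (hV.orderOf_eq hw hw1))
      have hgf : g * f * g⁻¹ * w = w * (g * f * g⁻¹) := by
        rw [← hg]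
        calc g * f * g⁻¹ * (g * x * g⁻¹) = g * (f * x) * g⁻¹ := by group
          _ = g * (x * f) * g⁻¹ := by rw [hfx]
          _ = _ := by group
      exact hnb ⟨_, ⟨Q.2.map _, hQV⟩, x, hx, w, hw, hx1, hw1, hwx.symm, ⟨f, hfQ, hf1, hfx⟩,
        g * f * g⁻¹, hAQ (subset_closure ⟨hgf, i, by rw [orderOf_conj, hi]⟩),
        fun e => hf1 (conj_eq_one_iff.1 e), hgf⟩
    rcases eq_or_ne x t with rfl | hxt
    · exact hHt hHx
    · exact ha1 (h.loc.eq_one_of_commute_four hV hx htV hx1 ht1 hxt hao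
        (mem_centralizer_singleton_iff.1 (hHx haH)) hat)
  -- all primes are big
  push Not at hgood
  let ι := {q : ℕ // q.Prime ∧ Fp q ≠ ⊥}
  have hchoose : ∀ q : ι, ∃ R, Maximal (PInv V (q : ℕ)) R ∧
      (∀ z ∈ V, z ≠ 1 → pAxis (q : ℕ) z ≤ R) ∧ (S : Subgroup X) ≤ normalizer (R : Set X) ∧
      (∀ V' : Subgroup X, Four V' → t ∈ V' → V' ≤ (S : Subgroup X) →
        normalizer (V' : Set X) ≤ normalizer (R : Set X)) ∧
      ∀ a ∈ R, ∀ b ∈ R, a * b = b * a := by
    rintro ⟨q, hq, hne⟩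
    haveI := Fact.mk hq
    obtain ⟨R, h1, -, h2⟩ := h.big_abelian (hne2 q hq hne) hV htV hVS (hgood q hq hne)
    exact ⟨R, h1, h2⟩
  choose R hRmax hRax hRS hRV hRc using hchoose
  -- each member lies in `H` and contains the core
  have hRH : ∀ q : ι, Fp q ≤ R q ∧ R q ≤ H := by
    intro qi
    obtain ⟨q, hq, hne⟩ := id qi
    haveI : Fact ((qi : ℕ)).Prime := ⟨qi.2.1⟩
    have hq2 := hne2 _ qi.2.1 qi.2.2
    set q' : ℕ := (qi : ℕ)
    have hFV : V ≤ normalizer (Fp q' : Set X) := hVH.trans (hFpn q')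
    have hFp' : IsPGroup q' (Fp q') := (PSolv.isPGroup_pCore q' H).map _
    have hFo := odd_card_pgroup hq2 hFp'
    obtain ⟨x, hx, hx1, f, hf, hf1, hfx⟩ : ∃ x ∈ V, x ≠ 1 ∧ ∃ f ∈ Fp q', f ≠ 1 ∧ f * x = x * f := by
      by_contra hno
      push Not at hno
      refine qi.2.2 (le_bot_iff.1 (hV.le_of_axes hFV hFo fun x hx hx1 f hf => ?_))
      rw [Subgroup.mem_bot]
      by_contra hf1
      exact hno x hx hx1 f hf.1 hf1 (mem_centralizer_singleton_iff.1 hf.2)
    have hfR : f ∈ R qi := hRax qi x hx hx1 (subset_closure ⟨hfx, exists_orderOf_eq_pow hFp' hf⟩)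
    have hFR : Fp q' ≤ R qi := h.loc.le_max hV hq2 (hRmax qi) ⟨hFp', hFV⟩ hfR hf hf1
    refine ⟨hFR, ?_⟩
    have hfo : Odd (orderOf f) := hFo.of_dvd_nat (Subgroup.orderOf_dvd_natCard _ hf)
    obtain ⟨Wf, hWfo, hWf, -⟩ := h.loc.exists_coreC (hV.orderOf_eq hx hx1) hfx hfo hf1
    set D := closure {d : X | d ∈ centralizer (Fp q' : Set X) ∧ Odd (orderOf d)} with hD
    have hDW : D ≤ Wf := by
      rw [hD, closure_le]
      rintro d ⟨hd, hdo⟩
      exact (hWf d).2 ⟨(mem_centralizer_iff.1 hd f hf).symm, hdo⟩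
    have hDn : normalizer (Fp q' : Set X) ≤ normalizer (D : Set X) := by
      intro g hg
      refine mem_normalizer_of_conj fun d hd => ?_
      have hle : D ≤ D.comap (MulAut.conj g).toMonoidHom := by
        rw [hD, closure_le]
        rintro e ⟨he, heo⟩
        refine subset_closure ⟨mem_centralizer_iff.2 fun u hu => ?_,
          (orderOf_conj g e).symm ▸ heo⟩
        have hu' : g⁻¹ * u * g ∈ Fp q' := by
          simpa using conj_mem_of_mem_normalizer (inv_mem hg) hu
        have h1 := congrArg (fun w => g * w * g⁻¹) (mem_centralizer_iff.1 he _ hu')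
        show u * (g * e * g⁻¹) = g * e * g⁻¹ * u
        group at h1 ⊢
        exact h1
      exact hle hd
    have hDo : Odd (Nat.card D) := hWfo.of_dvd_nat (card_dvd_of_le hDW)
    have hHD : H ≤ normalizer (D : Set X) :=
      ((le_normalizer : H ≤ normalizer (H : Set X)).trans (hFpn q')).trans hDn
    have hDH : D ≤ H := by
      refine le_sup_right.trans (hH.2 (y := H ⊔ D) ⟨?_, ?_⟩ le_sup_left)
      · exact (hHo.mul hDo).of_dvd_nat (OddLocal.card_sup_dvd_mul_of_normalizes hHD)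
      · exact (le_inf hCH ((hCH.trans (hFpn q')).trans hDn)).trans
          (normalizer_inf_normalizer_le_normalizer_sup _ _)
    intro d hd
    refine hDH (subset_closure ⟨mem_centralizer_iff.2 fun u hu => hRc qi u (hFR hu) d hd, ?_⟩)
    obtain ⟨i, hi⟩ := exists_orderOf_eq_pow (hRmax qi).1.1 hd
    exact odd_orderOf_pow hq2 hi
  set L := ⨆ q : ι, R q with hLdef
  have hLH : L ≤ H := iSup_le fun q => (hRH q).2
  have hFL : (Cfsg.fittingSubgroup H).map H.subtype ≤ L := by
    rw [Cores.fittingSubgroup_eq_iSup_pCore, Subgroup.map_iSup]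
    refine iSup_le fun q => ?_
    rcases eq_or_ne (Fp q) ⊥ with e | e
    · exact (le_of_eq e).trans bot_le
    · exact (hRH ⟨q, q.2, e⟩).1.trans (le_iSup R ⟨(q : ℕ), q.2, e⟩)
  have hHL : H ≤ normalizer (L : Set X) := by
    intro g hg
    refine mem_normalizer_of_conj fun l hl => ?_
    have h1 : ⁅g, l⁆ ∈ L := hFL ⟨⁅(⟨g, hg⟩ : H), ⟨l, hLH hl⟩⁆,
      hW'F (commutator_mem_commutator (mem_top _) (mem_top _)), rfl⟩
    have h2 : g * l * g⁻¹ = ⁅g, l⁆ * l := by rw [commutatorElement_def]; group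
    rw [h2]
    exact mul_mem h1 hl
  refine h.no_normalized hat hao ha1 (L := L) ?_ ?_ (h.centralizer_le_of
    (le_normalizer_iSup _ R fun q => hRS q) fun c hc hco => hHL (hOH c hc hco))
    fun V' hV' htV' hV'S => le_normalizer_iSup _ R fun q => hRV q V' hV' htV' hV'S
  · intro e
    obtain ⟨f, hf, hf1⟩ := (bot_or_exists_ne_one (Cfsg.fittingSubgroup H)).resolve_left
      Cores.fittingSubgroup_ne_bot
    have := hFL ⟨f, hf, rfl⟩
    rw [e, Subgroup.mem_bot] at this
    exact hf1 (Subtype.ext this)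
  · intro e
    have h1 : t ∈ H := hLH (e ▸ mem_top t)
    have h2 := Subgroup.orderOf_dvd_natCard H h1
    rw [h.gdc.inv] at h2
    exact hHo.not_two_dvd_nat h2

/-- **`C(a) ≤ C(t)`.** -/
theorem centralizer_le (h : Setting X S t K) {a : X} (hat : a * t = t * a)
    (hao : Odd (orderOf a)) (ha1 : a ≠ 1) : centralizer {a} ≤ centralizer {t} := by
  intro c hc
  have hca := mem_centralizer_singleton_iff.1 hc
  obtain ⟨W, hWo, hW, hWc⟩ := h.loc.exists_coreC h.gdc.inv hat hao ha1
  set w := c * t * c⁻¹ * t⁻¹ with hw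
  obtain ⟨hwa, hwo⟩ := (hW w).1 (hWc c hca)
  have hwt := h.odd_centralizer_le hat hao ha1 hwa hwo
  have h1 : (w * t) * (w * t) = 1 := by
    rw [show w * t = c * t * c⁻¹ by rw [hw]; group,
      show c * t * c⁻¹ * (c * t * c⁻¹) = c * (t * t) * c⁻¹ by group, h.gdc.sq]
    group
  have h2 : w * w = 1 := by
    rw [show w * t * (w * t) = w * (t * w) * t by group, ← hwt,
      show w * (w * t) * t = w * w * (t * t) by group, h.gdc.sq, mul_one] at h1
    exact h1
  have h3 := eq_one_of_odd_of_sq hwo h2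
  rw [hw, mul_inv_eq_one] at h3
  exact mem_centralizer_singleton_iff.2 (mul_inv_eq_iff_eq_mul.1 h3)

end Setting

end Cfsg.Agent.GenDih
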