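import Cfsg.Agent.Signalizer.Generation
import Cfsg.Agent.CharTwo.Locals
import Cfsg.Agent.Coprime.Action
import Cfsg.Prelude.Def_Transfer

/-!
# A four-group acting without fixed points on a subgroup of odd order

If a four-group `V` normalises a subgroup `W` of odd order and `C_W(V) = 1`, then every `C_W(x)`,
`x ∈ V#`, is abelian and inverted by the other involutions, `W` is generated by them, and for every
prime `p` there is a unique maximal `V`-invariant `p`-subgroup of `W`.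
-/

set_option autoImplicit false
set_option linter.style.haveILetI false
set_option linter.unusedSectionVars false

namespace Cfsg.Agent.GenDih

open Subgroup

variable {G : Type*} [Group G]

/-- `V` is an elementary abelian group of order four. -/
structure Four (V : Subgroup G) : Prop where
  card : Nat.card V = 4
  sq : ∀ v ∈ V, v * v = 1

namespace Four

variable {V : Subgroup G}

theorem inv_eq (hV : Four V) {v : G} (hv : v ∈ V) : v⁻¹ = v :=
  inv_eq_of_mul_eq_one_right (hV.sq v hv)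

theorem comm (hV : Four V) {a b : G} (ha : a ∈ V) (hb : b ∈ V) : a * b = b * a := by
  have h := hV.sq _ (mul_mem ha hb)
  calc a * b = a⁻¹ * b⁻¹ := by rw [hV.inv_eq ha, hV.inv_eq hb]
    _ = (b * a)⁻¹ := by group
    _ = b * a := hV.inv_eq (mul_mem hb ha)

theorem elemAb (hV : Four V) : Cfsg.IsElementaryAbelian 2 V :=
  ⟨⟨⟨fun a b => Subtype.ext (hV.comm a.2 b.2)⟩⟩, fun a ha => by rw [pow_two]; exact hV.sq a ha⟩

theorem orderOf_eq (hV : Four V) {v : G} (hv : v ∈ V) (h1 : v ≠ 1) : orderOf v = 2 :=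
  orderOf_eq_prime (by rw [pow_two]; exact hV.sq v hv) h1

theorem le_centralizer (hV : Four V) {v : G} (hv : v ∈ V) : V ≤ centralizer {v} := fun _ hw =>
  mem_centralizer_singleton_iff.2 (hV.comm hw hv)

theorem finite (hV : Four V) : Finite V := Nat.finite_of_card_ne_zero (by rw [hV.card]; norm_num)

/-- `V = {1, x, y, x y}`. -/
theorem cases (hV : Four V) {x y : G} (hx : x ∈ V) (hy : y ∈ V) (hx1 : x ≠ 1) (hy1 : y ≠ 1)
    (hxy : x ≠ y) {v : G} (hv : v ∈ V) : v = 1 ∨ v = x ∨ v = y ∨ v = x * y := by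
  classical
  haveI := hV.finite
  haveI := Fintype.ofFinite V
  by_contra h
  push Not at h
  obtain ⟨h1, h2, h3, h4⟩ := h
  have hne : x * y ≠ 1 := fun e => hxy (by
    rw [eq_inv_of_mul_eq_one_left e, hV.inv_eq hy])
  have hcard : ({1, ⟨x, hx⟩, ⟨y, hy⟩, ⟨x * y, mul_mem hx hy⟩, ⟨v, hv⟩} : Finset V).card = 5 := by
    rw [Finset.card_insert_of_notMem, Finset.card_insert_of_notMem, Finset.card_insert_of_notMem,
      Finset.card_insert_of_notMem, Finset.card_singleton]
    · simp [Subtype.ext_iff, Ne.symm h4]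
    · simp [Subtype.ext_iff, Ne.symm h3, hx1]
    · simp [Subtype.ext_iff, hxy, Ne.symm h2, hy1]
    · simp [Subtype.ext_iff, Ne.symm hx1, Ne.symm hy1, Ne.symm hne, Ne.symm h1]
  have := Finset.card_le_univ ({1, ⟨x, hx⟩, ⟨y, hy⟩, ⟨x * y, mul_mem hx hy⟩, ⟨v, hv⟩} : Finset V)
  rw [hcard, ← Nat.card_eq_fintype_card, hV.card] at this
  omega

theorem centralizer_pair (hV : Four V) {x y g : G} (hx : x ∈ V) (hy : y ∈ V) (hx1 : x ≠ 1)
    (hy1 : y ≠ 1) (hxy : x ≠ y) (hgx : g * x = x * g) (hgy : g * y = y * g) :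
    g ∈ centralizer (V : Set G) := by
  refine mem_centralizer_iff.2 fun v hv => ?_
  rcases hV.cases hx hy hx1 hy1 hxy hv with rfl | rfl | rfl | rfl
  · simp
  · exact hgx.symm
  · exact hgy.symm
  · rw [← mul_assoc, hgx, mul_assoc x g, hgy]; group

variable [Finite G] {W : Subgroup G}

theorem coprime_card (hV : Four V) (hW : Odd (Nat.card W)) :
    (Nat.card V).Coprime (Nat.card W) := by
  rw [hV.card, show (4 : ℕ) = 2 ^ 2 by norm_num]
  exact (Nat.coprime_two_left.2 hW).pow_left 2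

theorem le_normalizer_axis (hV : Four V) (hVW : V ≤ normalizer (W : Set G)) {x : G} (hx : x ∈ V) :
    V ≤ normalizer ((W ⊓ centralizer {x} : Subgroup G) : Set G) :=
  Signalizer.elemAb_inf_normalizer hV.elemAb hx hVW

/-- The other involutions invert `C_W(x)`. -/
theorem inverts (hV : Four V) (hVW : V ≤ normalizer (W : Set G))
    (hfix : W ⊓ centralizer (V : Set G) = ⊥) {x y : G} (hx : x ∈ V) (hy : y ∈ V) (hx1 : x ≠ 1)
    (hy1 : y ≠ 1) (hxy : x ≠ y) {a : G} (ha : a ∈ W) (hax : a * x = x * a) :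
    y * a * y⁻¹ = a⁻¹ := by
  refine CharTwo.conj_eq_inv_of_fpf (X := W ⊓ centralizer {x}) (hV.sq y hy)
    (hV.le_normalizer_axis hVW hx hy) (fun b hb hc => ?_) a
    ⟨ha, mem_centralizer_singleton_iff.2 hax⟩
  have : b ∈ W ⊓ centralizer (V : Set G) :=
    ⟨hb.1, hV.centralizer_pair hx hy hx1 hy1 hxy (mem_centralizer_singleton_iff.1 hb.2) hc.eq.symm⟩
  rwa [hfix, Subgroup.mem_bot] at this

theorem exists_other (hV : Four V) {x : G} (hx : x ∈ V) (hx1 : x ≠ 1) :
    ∃ y ∈ V, y ≠ 1 ∧ x ≠ y := by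
  haveI := hV.finite
  obtain ⟨y, hy, hyn⟩ := Signalizer.exists_not_mem_zpowers (p := 2) hV.elemAb
    (by rw [hV.card]; norm_num) hx hx1
  exact ⟨y, hy, fun e => hyn (e ▸ one_mem _), fun e => hyn (e ▸ mem_zpowers x)⟩

/-- `C_W(x)` is abelian. -/
theorem axis_comm (hV : Four V) (hVW : V ≤ normalizer (W : Set G))
    (hfix : W ⊓ centralizer (V : Set G) = ⊥) {x : G} (hx : x ∈ V) (hx1 : x ≠ 1) {a b : G}
    (ha : a ∈ W) (hax : a * x = x * a) (hb : b ∈ W) (hbx : b * x = x * b) : a * b = b * a := by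
  obtain ⟨y, hy, hy1, hxy⟩ := hV.exists_other hx hx1
  refine (CharTwo.commute_of_inverts (a := y) (X := W ⊓ centralizer {x}) (fun c hc =>
    hV.inverts hVW hfix hx hy hx1 hy1 hxy hc.1 (mem_centralizer_singleton_iff.1 hc.2))
    ⟨ha, mem_centralizer_singleton_iff.2 hax⟩ ⟨hb, mem_centralizer_singleton_iff.2 hbx⟩).eq

/-- `W` is generated by the `C_W(x)`. -/
theorem le_of_axes (hV : Four V) (hVW : V ≤ normalizer (W : Set G)) (hW : Odd (Nat.card W))
    {H : Subgroup G} (h : ∀ x ∈ V, x ≠ 1 → W ⊓ centralizer {x} ≤ H) : W ≤ H :=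
  Signalizer.le_of_forall_centralizer (p := 2) hV.elemAb (by rw [hV.card]; norm_num) hVW
    hW.not_two_dvd_nat h

/-- An element of `W` normalised by `V` up to inversion generates a `V`-invariant group. -/
theorem le_normalizer_zpowers (hV : Four V) (hVW : V ≤ normalizer (W : Set G))
    (hfix : W ⊓ centralizer (V : Set G) = ⊥) {x : G} (hx : x ∈ V) (hx1 : x ≠ 1) {a : G}
    (ha : a ∈ W) (hax : a * x = x * a) : V ≤ normalizer ((zpowers a : Subgroup G) : Set G) := by
  refine le_normalizer_iff.2 fun v hv b hb => ?_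
  obtain ⟨k, rfl⟩ := mem_zpowers_iff.1 hb
  rw [← conj_zpow]
  refine zpow_mem ?_ k
  rcases eq_or_ne v 1 with rfl | hv1
  · simp
  rcases eq_or_ne x v with rfl | hxv
  · rw [show x * a * x⁻¹ = a by rw [← hax, mul_inv_cancel_right]]; exact mem_zpowers a
  · rw [hV.inverts hVW hfix hx hv hx1 hv1 hxv ha hax]; exact inv_mem (mem_zpowers a)

/-- All `V`-invariant `p`-subgroups of `W` lie in one `V`-invariant Sylow `p`-subgroup. -/
theorem exists_sylow_ge_all (hV : Four V) (hVW : V ≤ normalizer (W : Set G))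
    (hW : Odd (Nat.card W)) (hfix : W ⊓ centralizer (V : Set G) = ⊥) (p : ℕ) [Fact p.Prime] :
    ∃ R : Sylow p W, V ≤ normalizer (((R : Subgroup W).map W.subtype : Subgroup G) : Set G) ∧
      ∀ U : Subgroup G, U ≤ W → IsPGroup p U → V ≤ normalizer (U : Set G) →
        U ≤ (R : Subgroup W).map W.subtype := by
  have hcop := hV.coprime_card hW
  have hs : Group.IsSolvable V ∨ Group.IsSolvable W :=
    Or.inl (Group.isSolvable_of_comm fun a b => Subtype.ext (hV.comm a.2 b.2))
  obtain ⟨R, hR⟩ := Coprime.exists_invariant_sylow p hVW hcop hs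
  refine ⟨R, hR, fun U hUW hU hUV => ?_⟩
  obtain ⟨Q, hUQ, hQ⟩ := Coprime.exists_invariant_sylow_ge hVW hcop hs hUW hUV hU
  obtain ⟨c, hc, hcQ⟩ := Coprime.exists_centralizer_conj_sylow hVW hcop hs Q R hQ hR
  rw [hfix, Subgroup.mem_bot] at hc
  subst hc
  rw [map_one, one_smul] at hcQ
  exact hcQ ▸ hUQ

end Four

end Cfsg.Agent.GenDih
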