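import Cfsg.Agent.GenDih.Four
import Cfsg.Agent.Lib.WardMain
import Cfsg.Agent.Lib.Element
import Cfsg.Agent.SolvStruct.NilHall
import Cfsg.Agent.S0205

/-!
# The derived group of an odd group with a fixed-point-free four-group is nilpotent

`commutator_le_fitting`: if a four-group `V` acts without fixed points on a subgroup `W` of odd
order, then `W' ≤ F(W)`.
-/

set_option autoImplicit false
set_option linter.style.haveILetI false
set_option linter.unusedSectionVars false

namespace Cfsg.Agent.GenDih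

open Subgroup
open scoped commutatorElement Pointwise

universe u

variable {Γ : Type u} [Group Γ] [Finite Γ]

/-- A `q`-group `Q` with a fixed-point-free four-group acting on an abelian group `M`: `Q'`
centralises `M`. -/
theorem commutator_centralizes {V Q M : Subgroup Γ} (hV : Four V) {q : ℕ} [Fact q.Prime]
    (hQ : IsPGroup q Q) (hQo : Odd (Nat.card Q)) (hMo : Odd (Nat.card M))
    (hcop : (Nat.card Q).Coprime (Nat.card M))
    (hMc : ∀ a ∈ M, ∀ b ∈ M, a * b = b * a)
    (hVQ : V ≤ normalizer (Q : Set Γ)) (hVM : V ≤ normalizer (M : Set Γ))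
    (hQM : Q ≤ normalizer (M : Set Γ))
    (hfix : (Q ⊔ M) ⊓ centralizer (V : Set Γ) = ⊥) :
    ⁅Q, Q⁆ ≤ centralizer (M : Set Γ) := by
  classical
  induction hm : Nat.card M using Nat.strong_induction_on generalizing M with
  | _ m ih =>
    subst hm
    have hQMV : V ≤ normalizer ((Q ⊔ M : Subgroup Γ) : Set Γ) :=
      (le_inf hVQ hVM).trans (normalizer_inf_normalizer_le_normalizer_sup _ _)
    -- the kernel of the action and the elements acting centrally
    set K : Subgroup Q := (centralizer (M : Set Γ)).subgroupOf Q with hK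
    haveI hKn : K.Normal := ⟨fun x hx g => by
      rw [hK, mem_subgroupOf, mem_centralizer_iff] at hx ⊢
      intro y hy
      push_cast
      have h1 : (g : Γ)⁻¹ * y * g ∈ M := by
        simpa using le_normalizer_iff.1 hQM _ (inv_mem g.2) y hy
      have h2 := hx _ h1
      calc y * ((g : Γ) * x * (g : Γ)⁻¹) = g * (((g : Γ)⁻¹ * y * g) * x) * (g : Γ)⁻¹ := by group
        _ = g * ((x : Γ) * ((g : Γ)⁻¹ * y * g)) * (g : Γ)⁻¹ := by rw [h2]
        _ = (g : Γ) * x * (g : Γ)⁻¹ * y := by group⟩
    rcases eq_or_ne K ⊤ with hKtop | hKtop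
    · intro x hx
      have hxQ : x ∈ Q := (commutator_le.2 fun a ha b hb => by
        rw [commutatorElement_def]
        exact mul_mem (mul_mem (mul_mem ha hb) (inv_mem ha)) (inv_mem hb) : ⁅Q, Q⁆ ≤ Q) hx
      exact (mem_subgroupOf.1 (hKtop ▸ mem_top (⟨x, hxQ⟩ : Q)) :)
    set Zb : Subgroup Q := (center (Q ⧸ K)).comap (QuotientGroup.mk' K) with hZb
    set Z := Zb.map Q.subtype with hZ
    have hZQ : Z ≤ Q := map_subtype_le _
    have hmem : ∀ {z : Γ}, z ∈ Z ↔ z ∈ Q ∧ ∀ b ∈ Q, ∀ y ∈ M, z * b * z⁻¹ * b⁻¹ * y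
        = y * (z * b * z⁻¹ * b⁻¹) := by
      intro z
      constructor
      · rintro ⟨a, ha, rfl⟩
        refine ⟨a.2, fun b hb y hy => ?_⟩
        have h1 := mem_center_iff.1 ha (⟨b, hb⟩ : Q)
        have h2 : a * (⟨b, hb⟩ : Q) * a⁻¹ * (⟨b, hb⟩ : Q)⁻¹ ∈ K := by
          rw [← QuotientGroup.eq_one_iff]
          simp only [QuotientGroup.mk'_apply] at h1
          rw [QuotientGroup.mk_mul, QuotientGroup.mk_mul, QuotientGroup.mk_mul, QuotientGroup.mk_inv,
            QuotientGroup.mk_inv, ← h1]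
          group
        exact ((mem_centralizer_iff.1 h2) y hy).symm
      · rintro ⟨hz, hzc⟩
        refine ⟨⟨z, hz⟩, mem_center_iff.2 fun b' => ?_, rfl⟩
        obtain ⟨b, rfl⟩ := QuotientGroup.mk'_surjective K b'
        have h2 : (⟨z, hz⟩ : Q) * b * (⟨z, hz⟩ : Q)⁻¹ * b⁻¹ ∈ K :=
          mem_centralizer_iff.2 fun y hy => (hzc b b.2 y hy).symm
        rw [← QuotientGroup.eq_one_iff, QuotientGroup.mk_mul, QuotientGroup.mk_mul,
          QuotientGroup.mk_mul, QuotientGroup.mk_inv, QuotientGroup.mk_inv, mul_inv_eq_one,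
          mul_inv_eq_iff_eq_mul] at h2
        exact h2.symm
    -- `Z` is `V`-invariant and not inside the kernel
    have hVZ : V ≤ normalizer (Z : Set Γ) := by
      refine le_normalizer_iff.2 fun v hv z hz => ?_
      obtain ⟨hzQ, hzc⟩ := hmem.1 hz
      refine hmem.2 ⟨le_normalizer_iff.1 hVQ v hv z hzQ, fun b hb y hy => ?_⟩
      have hb' : v⁻¹ * b * v ∈ Q := by simpa using le_normalizer_iff.1 hVQ _ (inv_mem hv) b hb
      have hy' : v⁻¹ * y * v ∈ M := by simpa using le_normalizer_iff.1 hVM _ (inv_mem hv) y hy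
      have h1 := congrArg (fun g => v * g * v⁻¹) (hzc _ hb' _ hy')
      group at h1 ⊢
      exact h1
    obtain ⟨x, hx, hx1, z, hz, hzx, hzK⟩ : ∃ x ∈ V, x ≠ 1 ∧ ∃ z ∈ Z, z * x = x * z ∧
        z ∉ centralizer (M : Set Γ) := by
      by_contra hno
      push Not at hno
      have hZo : Odd (Nat.card Z) := hQo.of_dvd_nat (card_dvd_of_le hZQ)
      have hle : Z ≤ centralizer (M : Set Γ) := hV.le_of_axes hVZ hZo fun x hx hx1 w hw =>
        hno x hx hx1 w hw.1 (mem_centralizer_singleton_iff.1 hw.2)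
      haveI : Nontrivial (Q ⧸ K) := QuotientGroup.nontrivial_iff.mpr hKtop
      haveI := (hQ.to_quotient K).center_nontrivial
      obtain ⟨⟨c, hc⟩, hc1⟩ := exists_ne (1 : center (Q ⧸ K))
      obtain ⟨a, rfl⟩ := QuotientGroup.mk'_surjective K c
      exact hc1 (Subtype.ext ((QuotientGroup.eq_one_iff a).2 (hle ⟨a, hc, rfl⟩)))
    obtain ⟨hzQ, hzc⟩ := hmem.1 hz
    set A := zpowers z with hA
    have hAQ : A ≤ Q := zpowers_le.2 hzQ
    have hAM : A ≤ normalizer (M : Set Γ) := hAQ.trans hQM
    -- conjugation by `b ∈ Q` commutes with conjugation by `z` on `M`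
    have hcomm : ∀ b ∈ Q, ∀ y ∈ M, z * (b * y * b⁻¹) * z⁻¹ = b * (z * y * z⁻¹) * b⁻¹ := by
      intro b hb y hy
      have hy' : b * (z * y * z⁻¹) * b⁻¹ ∈ M :=
        le_normalizer_iff.1 hQM b hb _ (le_normalizer_iff.1 hQM z hzQ y hy)
      calc z * (b * y * b⁻¹) * z⁻¹
          = (z * b * z⁻¹ * b⁻¹) * (b * (z * y * z⁻¹) * b⁻¹) * (z * b * z⁻¹ * b⁻¹)⁻¹ := by group
        _ = (b * (z * y * z⁻¹) * b⁻¹) * (z * b * z⁻¹ * b⁻¹) * (z * b * z⁻¹ * b⁻¹)⁻¹ := by
            rw [hzc b hb _ hy']
        _ = _ := by group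
    set C := M ⊓ centralizer (A : Set Γ) with hC
    set N := ⁅M, A⁆ with hN
    haveI : IsMulCommutative M := ⟨⟨fun a b => Subtype.ext (hMc a a.2 b b.2)⟩⟩
    have hcopA : (Nat.card A).Coprime (Nat.card M) := hcop.coprime_dvd_left (card_dvd_of_le hAQ)
    have hsup : C ⊔ N = M := Coprime.centralizer_sup_commutator_eq hAM hcopA
    have hbot : C ⊓ N = ⊥ := Coprime.centralizer_inf_commutator_eq_bot hAM hcopA
    have hNM : N ≤ M := by
      refine commutator_le.2 fun y hy a ha => ?_
      rw [commutatorElement_def, mul_assoc y a, mul_assoc y]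
      exact mul_mem hy (le_normalizer_iff.1 hAM a ha _ (inv_mem hy))
    have hVA : V ≤ normalizer (A : Set Γ) :=
      hV.le_normalizer_zpowers hQMV hfix hx hx1 (mem_sup_left hzQ) hzx
    have hVC : V ≤ normalizer (C : Set Γ) := by
      refine le_normalizer_iff.2 fun v hv c hc => ⟨le_normalizer_iff.1 hVM v hv c hc.1,
        mem_centralizer_iff.2 fun a ha => ?_⟩
      have ha' : v⁻¹ * a * v ∈ A := by simpa using le_normalizer_iff.1 hVA _ (inv_mem hv) a ha
      have h1 := congrArg (fun g => v * g * v⁻¹) (mem_centralizer_iff.1 hc.2 _ ha')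
      group at h1 ⊢
      exact h1
    have hQC : Q ≤ normalizer (C : Set Γ) := by
      refine le_normalizer_iff.2 fun b hb c hc => ⟨le_normalizer_iff.1 hQM b hb c hc.1, ?_⟩
      have hzc' : z * c = c * z := mem_centralizer_iff.1 hc.2 z (mem_zpowers z)
      have h1 := hcomm b hb c hc.1
      rw [hzc', mul_inv_cancel_right] at h1
      refine mem_centralizer_iff.2 fun a ha => ?_
      obtain ⟨k, rfl⟩ := mem_zpowers_iff.1 ha
      exact (Commute.zpow_left (mul_inv_eq_iff_eq_mul.1 h1 : z * (b * c * b⁻¹) = b * c * b⁻¹ * z) k).eq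
    have hQN : Q ≤ normalizer (N : Set Γ) := by
      refine le_normalizer_iff.2 fun b hb n hn => ?_
      suffices N ≤ N.comap (MulAut.conj b).toMonoidHom from this hn
      refine commutator_le.2 fun y hy a ha => ?_
      show b * ⁅y, a⁆ * b⁻¹ ∈ N
      have hkey : ∀ k : ℤ, ∀ y ∈ M, z ^ k * (b * y * b⁻¹) * (z ^ k)⁻¹
          = b * (z ^ k * y * (z ^ k)⁻¹) * b⁻¹ := by
        intro k
        induction k using Int.induction_on with
        | zero => intro y _; simp
        | succ k ihk =>
          intro y hy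
          rw [zpow_add_one, mul_inv_rev]
          calc z ^ (k : ℤ) * z * (b * y * b⁻¹) * (z⁻¹ * (z ^ (k : ℤ))⁻¹)
              = z ^ (k : ℤ) * (z * (b * y * b⁻¹) * z⁻¹) * (z ^ (k : ℤ))⁻¹ := by group
            _ = z ^ (k : ℤ) * (b * (z * y * z⁻¹) * b⁻¹) * (z ^ (k : ℤ))⁻¹ := by rw [hcomm b hb y hy]
            _ = _ := by rw [ihk _ (le_normalizer_iff.1 hQM z hzQ y hy)]; group
        | pred k ihk =>
          intro y hy
          have hy' : z⁻¹ * y * z ∈ M := by
            simpa using le_normalizer_iff.1 hQM _ (inv_mem hzQ) y hy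
          have h0 := hcomm b hb _ hy'
          rw [zpow_sub_one, mul_inv_rev, inv_inv]
          calc z ^ (-(k : ℤ)) * z⁻¹ * (b * y * b⁻¹) * (z * (z ^ (-(k : ℤ)))⁻¹)
              = z ^ (-(k : ℤ)) * (z⁻¹ * (b * (z * (z⁻¹ * y * z) * z⁻¹) * b⁻¹) * z)
                  * (z ^ (-(k : ℤ)))⁻¹ := by group
            _ = z ^ (-(k : ℤ)) * (b * (z⁻¹ * y * z) * b⁻¹) * (z ^ (-(k : ℤ)))⁻¹ := by
                rw [← h0]; group
            _ = _ := by rw [ihk _ hy']; group
      obtain ⟨k, rfl⟩ := mem_zpowers_iff.1 ha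
      have h2 : b * ⁅y, z ^ k⁆ * b⁻¹ = ⁅b * y * b⁻¹, z ^ k⁆ := by
        have h3 := hkey k y⁻¹ (inv_mem hy)
        calc b * ⁅y, z ^ k⁆ * b⁻¹ = (b * y * b⁻¹) * (b * (z ^ k * y⁻¹ * (z ^ k)⁻¹) * b⁻¹) := by
              rw [commutatorElement_def]; group
          _ = (b * y * b⁻¹) * (z ^ k * (b * y⁻¹ * b⁻¹) * (z ^ k)⁻¹) := by rw [h3]
          _ = _ := by rw [commutatorElement_def]; group
      rw [h2]
      exact commutator_mem_commutator (le_normalizer_iff.1 hQM b hb y hy) ha
    have hVN : V ≤ normalizer (N : Set Γ) :=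
      (le_inf hVM hVA).trans (Coprime.normalizer_inf_le_normalizer_commutator M A)
    -- `x` inverts `N`
    have hNx : ∀ n ∈ N, x * n * x⁻¹ = n⁻¹ := by
      refine CharTwo.conj_eq_inv_of_fpf (hV.sq x hx) (hVN hx) fun n hn hxn => ?_
      have hnC : n ∈ C := ⟨hNM hn, mem_centralizer_iff.2 fun a ha => by
        obtain ⟨k, rfl⟩ := mem_zpowers_iff.1 ha
        have h0 := hV.axis_comm hQMV hfix hx hx1 (mem_sup_left hzQ) hzx
          (mem_sup_right (hNM hn)) hxn.eq.symm
        exact (Commute.zpow_left (h0 : z * n = n * z) k).eq⟩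
      have : n ∈ C ⊓ N := ⟨hnC, hn⟩
      rwa [hbot, Subgroup.mem_bot] at this
    -- elements of the other axes centralise `N`
    have hoth : ∀ y ∈ V, y ≠ 1 → y ≠ x → ∀ b ∈ Q, b * y = y * b → b ∈ centralizer (N : Set Γ) := by
      intro y hy hy1 hyx b hb hby
      have hbinv : x * b * x⁻¹ = b⁻¹ :=
        hV.inverts hQMV hfix hy hx hy1 hx1 hyx (mem_sup_left hb) hby
      refine mem_centralizer_iff.2 fun n hn => ?_
      have hn' : b * n * b⁻¹ ∈ N := le_normalizer_iff.1 hQN b hb n hn
      have h1 := hNx _ hn'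
      have h2 : x * (b * n * b⁻¹) * x⁻¹ = b⁻¹ * n⁻¹ * b := by
        calc x * (b * n * b⁻¹) * x⁻¹ = (x * b * x⁻¹) * (x * n * x⁻¹) * (x * b * x⁻¹)⁻¹ := by group
          _ = _ := by rw [hbinv, hNx n hn]; group
      rw [h1] at h2
      have h3 : b ^ 2 * n = n * b ^ 2 := by
        have h4 := congrArg (fun g => (b * g⁻¹ * b⁻¹) * b ^ 2) h2
        rw [pow_two] at *
        group at h4 ⊢
        exact h4
      obtain ⟨j, hj⟩ : ∃ j, b = (b ^ 2) ^ j := by
        obtain ⟨j, hj⟩ := hQo.of_dvd_nat (Subgroup.orderOf_dvd_natCard Q hb)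
        refine ⟨j + 1, ?_⟩
        rw [← pow_mul, show 2 * (j + 1) = orderOf b + 1 by omega, pow_succ, pow_orderOf_eq_one,
          one_mul]
      rw [hj]
      exact (Commute.pow_left (h3 : b ^ 2 * n = n * b ^ 2) j).eq.symm
    have hNnorm : Q ≤ normalizer ((Q ⊓ centralizer (N : Set Γ) : Subgroup Γ) : Set Γ) := by
      refine le_normalizer_iff.2 fun b hb c hc => ⟨Q.mul_mem (Q.mul_mem hb hc.1) (Q.inv_mem hb),
        mem_centralizer_iff.2 fun n hn => ?_⟩
      have hn' : b⁻¹ * n * b ∈ N := by simpa using le_normalizer_iff.1 hQN _ (inv_mem hb) n hn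
      have h1 := congrArg (fun g => b * g * b⁻¹) (mem_centralizer_iff.1 hc.2 _ hn')
      group at h1 ⊢
      exact h1
    have hAx : Q ⊓ centralizer {x} ≤ normalizer ((Q ⊓ centralizer (N : Set Γ) : Subgroup Γ) : Set Γ) :=
      inf_le_left.trans hNnorm
    have hQle : Q ≤ (Q ⊓ centralizer {x}) ⊔ (Q ⊓ centralizer (N : Set Γ)) := by
      refine hV.le_of_axes hVQ hQo fun y hy hy1 b hb => ?_
      rcases eq_or_ne y x with rfl | hyx
      · exact mem_sup_left hb
      · exact mem_sup_right ⟨hb.1, hoth y hy hy1 hyx b hb.1 (mem_centralizer_singleton_iff.1 hb.2)⟩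
    have hQ'N : ⁅Q, Q⁆ ≤ centralizer (N : Set Γ) := by
      refine commutator_le.2 fun g hg g' hg' => ?_
      have hconj : ∀ g ∈ Q, ∃ a ∈ Q, a * x = x * a ∧ ∀ n ∈ N, g * n * g⁻¹ = a * n * a⁻¹ := by
        intro g hg
        obtain ⟨a, ha, c, hc, rfl⟩ := Coprime.exists_mul_of_mem_sup hAx (hQle hg)
        refine ⟨a, ha.1, mem_centralizer_singleton_iff.1 ha.2, fun n hn => ?_⟩
        rw [show a * c * n * (a * c)⁻¹ = a * (c * n * c⁻¹) * a⁻¹ by group,
          ← mem_centralizer_iff.1 hc.2 n hn, mul_inv_cancel_right]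
      obtain ⟨a, ha, hax, hga⟩ := hconj g hg
      obtain ⟨a', ha', hax', hga'⟩ := hconj g' hg'
      refine mem_centralizer_iff.2 fun n hn => ?_
      have haa : a * a' = a' * a := hV.axis_comm hQMV hfix hx hx1 (mem_sup_left ha) hax
        (mem_sup_left ha') hax'
      have key : ∀ n ∈ N, g * g' * n * (g * g')⁻¹ = g' * g * n * (g' * g)⁻¹ := by
        intro n hn
        have e1 := le_normalizer_iff.1 hQN g' hg' n hn
        have e2 := le_normalizer_iff.1 hQN g hg n hn
        calc g * g' * n * (g * g')⁻¹ = g * (g' * n * g'⁻¹) * g⁻¹ := by group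
          _ = a * (g' * n * g'⁻¹) * a⁻¹ := hga _ e1
          _ = a * (a' * n * a'⁻¹) * a⁻¹ := by rw [hga' n hn]
          _ = (a * a') * n * (a * a')⁻¹ := by group
          _ = (a' * a) * n * (a' * a)⁻¹ := by rw [haa]
          _ = a' * (a * n * a⁻¹) * a'⁻¹ := by group
          _ = g' * (a * n * a⁻¹) * g'⁻¹ := by rw [← hga' _ (hga n hn ▸ e2)]
          _ = g' * (g * n * g⁻¹) * g'⁻¹ := by rw [hga n hn]
          _ = _ := by group
      have hn' : (g' * g)⁻¹ * n * (g' * g) ∈ N := by
        simpa [mul_assoc] using le_normalizer_iff.1 hQN _ (inv_mem (mul_mem hg' hg)) n hn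
      have h5 := key _ hn'
      rw [commutatorElement_def]
      calc n * (g * g' * g⁻¹ * g'⁻¹)
          = (g' * g * ((g' * g)⁻¹ * n * (g' * g)) * (g' * g)⁻¹) * (g * g' * g⁻¹ * g'⁻¹) := by group
        _ = (g * g' * ((g' * g)⁻¹ * n * (g' * g)) * (g * g')⁻¹) * (g * g' * g⁻¹ * g'⁻¹) := by
            rw [h5]
        _ = _ := by group
    -- induction on `C`
    have hClt : C < M := lt_of_le_of_ne inf_le_left fun e => hzK (mem_centralizer_iff.2 fun y hy =>
      (mem_centralizer_iff.1 ((e.symm ▸ hy : y ∈ C)).2 z (mem_zpowers z)).symm)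
    have hCcard : Nat.card C < Nat.card M := by
      refine lt_of_le_of_ne (card_le_of_le hClt.le) fun e => hClt.ne ?_
      exact eq_of_le_of_card_ge hClt.le e.ge
    have hQ'C : ⁅Q, Q⁆ ≤ centralizer (C : Set Γ) :=
      ih _ hCcard (hMo.of_dvd_nat (card_dvd_of_le hClt.le))
        (hcop.coprime_dvd_right (card_dvd_of_le hClt.le))
        (fun a ha b hb => hMc a ha.1 b hb.1) hVC hQC
        (eq_bot_iff.2 (hfix ▸ inf_le_inf_right _ (sup_le_sup_left hClt.le Q))) rfl
    intro g hg
    have hle : C ⊔ N ≤ centralizer {g} := sup_le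
      (fun c hc => mem_centralizer_singleton_iff.2 (mem_centralizer_iff.1 (hQ'C hg) c hc))
      (fun n hn => mem_centralizer_singleton_iff.2 (mem_centralizer_iff.1 (hQ'N hg) n hn))
    rw [hsup] at hle
    exact mem_centralizer_iff.2 fun y hy => mem_centralizer_singleton_iff.1 (hle hy)

/-- **The derived group lies in the Fitting subgroup.** -/
theorem commutator_le_fitting_normal {V W : Subgroup Γ} [W.Normal] (hV : Four V)
    (hW : Odd (Nat.card W)) (hfix : W ⊓ centralizer (V : Set Γ) = ⊥) :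
    commutator W ≤ Cfsg.fittingSubgroup W := by
  classical
  haveI : Group.IsSolvable W := Cfsg.Agent.S0205.result hW
  haveI : Fact (Nat.Prime 2) := ⟨Nat.prime_two⟩
  set F := Cfsg.fittingSubgroup W with hF
  have hpair : Ward.IsPairAction 2 W V :=
    ⟨hV.elemAb.1, by rw [hV.card]; norm_num, fun a ha => hV.elemAb.2 a ha, inferInstance,
      Nat.coprime_two_right.2 hW, hfix⟩
  obtain ⟨k, hk⟩ := Ward.exists_lowerCentralSeries_le_fitting hpair
  haveI hnil : Group.IsNilpotent (W ⧸ F) := by
    rw [Subgroup.nilpotent_iff_lowerCentralSeries]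
    refine ⟨k, ?_⟩
    rw [eq_bot_iff]
    have h := Subgroup.map_lowerCentralSeries (f := QuotientGroup.mk' F) (n := k) (S := ⊤)
    rw [map_top_of_surjective _ (QuotientGroup.mk'_surjective F)] at h
    rw [← h, map_le_iff_le_comap]
    intro y hy
    simpa [mem_comap, QuotientGroup.eq_one_iff] using hk hy
  have hVW : V ≤ normalizer (W : Set Γ) := le_normalizer_of_normal
  -- the derived group of a `V`-invariant Sylow subgroup lies in `F`
  have hsyl : ∀ q : ℕ, q.Prime → ∀ Q : Sylow q W,
      V ≤ normalizer (((Q : Subgroup W).map W.subtype : Subgroup Γ) : Set Γ) →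
      ∀ a ∈ (Q : Subgroup W), ∀ b ∈ (Q : Subgroup W), ⁅a, b⁆ ∈ F := by
    intro q hq Q hVQ a ha b hb
    haveI := Fact.mk hq
    set Qm := (Q : Subgroup W).map W.subtype with hQm
    have hQmW : Qm ≤ W := map_subtype_le _
    set c := ⁅a, b⁆ with hc
    have hcQ : c ∈ (Q : Subgroup W) := by
      rw [hc, commutatorElement_def]
      exact mul_mem (mul_mem (mul_mem ha hb) (inv_mem ha)) (inv_mem hb)
    -- `c` centralises every `O_p`, `p ≠ q`
    have hcent : ∀ p : ℕ, p.Prime → p ≠ q → ∀ y ∈ Cfsg.pCore p W, c * y = y * c := by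
      intro p hp hpq
      haveI := Fact.mk hp
      set P := (Cfsg.pCore p W).map W.subtype with hP
      haveI : P.Normal := PSolv.map_subtype_normal (PSolv.pCore_characteristic p W)
      have hPp : IsPGroup p P := (PSolv.isPGroup_pCore p W).map _
      set Φ := (frattini P).map P.subtype with hΦ
      haveI : Φ.Normal := PSolv.map_subtype_normal inferInstance
      have hΦP : Φ ≤ P := map_subtype_le _
      have hPW : P ≤ W := map_subtype_le _
      set π := QuotientGroup.mk' Φ with hπ
      have hcopV : (Nat.card V).Coprime (Nat.card Φ) :=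
        (hV.coprime_card hW).coprime_dvd_right (card_dvd_of_le (hΦP.trans hPW))
      have hVinj : ∀ v ∈ V, v ∈ Φ → v = 1 := fun v hv hvΦ => orderOf_eq_one_iff.1
        (Nat.eq_one_of_dvd_coprimes hcopV (Subgroup.orderOf_dvd_natCard V hv)
          (Subgroup.orderOf_dvd_natCard Φ hvΦ))
      have hV' : Four (V.map π) := by
        refine ⟨?_, ?_⟩
        · rw [← hV.card]
          refine (Nat.card_congr (Equiv.ofBijective
            (fun v : V => (⟨π v, mem_map_of_mem π v.2⟩ : V.map π)) ⟨?_, ?_⟩)).symm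
          · intro v w hvw
            have h1 : (v : Γ)⁻¹ * w ∈ Φ := QuotientGroup.eq.1 (congrArg Subtype.val hvw)
            exact Subtype.ext (inv_mul_eq_one.1 (hVinj _ (mul_mem (inv_mem v.2) w.2) h1))
          · rintro ⟨_, v, hv, rfl⟩; exact ⟨⟨v, hv⟩, rfl⟩
        · rintro _ ⟨v, hv, rfl⟩
          rw [← map_mul, hV.sq v hv, map_one]
      have hQ'p : IsPGroup q (Qm.map π) := (Q.2.map _).map _
      have hP'p : IsPGroup p (P.map π) := hPp.map _
      have hodd : Odd (Nat.card (W.map π)) := hW.of_dvd_nat (card_map_dvd W π)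
      have hres := commutator_centralizes hV' hQ'p
        (hodd.of_dvd_nat (card_dvd_of_le (map_mono hQmW)))
        (hodd.of_dvd_nat (card_dvd_of_le (map_mono hPW)))
        (IsPGroup.coprime_card_of_ne q p hpq.symm _ _ hQ'p hP'p)
        (by
          rintro _ ⟨y, hy, rfl⟩ _ ⟨y', hy', rfl⟩
          rw [← map_mul, ← map_mul]
          refine QuotientGroup.eq.2 ⟨((⟨y', hy'⟩ : P)⁻¹ * (⟨y, hy⟩ : P)⁻¹ * ⟨y', hy'⟩ * ⟨y, hy⟩), ?_, ?_⟩
          · have := PGroup.commutatorElement_mem_frattini hPp (⟨y', hy'⟩ : P)⁻¹ (⟨y, hy⟩ : P)⁻¹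
            simpa [commutatorElement_def] using this
          · simp [mul_assoc])
        ((map_mono hVQ).trans (le_normalizer_map π))
        ((map_mono (le_normalizer_of_normal (H := P) (K := V))).trans (le_normalizer_map π))
        ((map_mono (le_normalizer_of_normal (H := P) (K := Qm))).trans (le_normalizer_map π))
        (by
          rw [eq_bot_iff]
          calc (Qm.map π ⊔ P.map π) ⊓ centralizer (V.map π : Set (Γ ⧸ Φ))
              ≤ W.map π ⊓ centralizer (V.map π : Set (Γ ⧸ Φ)) :=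
                inf_le_inf_right _ (sup_le (map_mono hQmW) (map_mono hPW))
            _ = (W ⊓ centralizer (V : Set Γ)).map π :=
                Coprime.inf_centralizer_map_mk' V W Φ (hΦP.trans hPW) hcopV
                  (Or.inl (Group.isSolvable_of_comm fun u w => Subtype.ext (hV.comm u.2 w.2)))
            _ = ⊥ := by rw [hfix, Subgroup.map_bot])
      have hcm : π (c : Γ) ∈ centralizer ((P.map π : Subgroup (Γ ⧸ Φ)) : Set (Γ ⧸ Φ)) := by
        refine hres ?_
        have : π (c : Γ) = ⁅π (a : Γ), π (b : Γ)⁆ := by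
          rw [← map_commutatorElement]; congr 1
        rw [this]
        exact commutator_mem_commutator (mem_map_of_mem π ⟨a, ha, rfl⟩)
          (mem_map_of_mem π ⟨b, hb, rfl⟩)
      have hfin := PGroup.commute_of_coprime_of_frattini hPp (a := (c : Γ))
        (by
          obtain ⟨i, hi⟩ := IsPGroup.iff_orderOf.1 Q.2 ⟨c, hcQ⟩
          rw [Subgroup.orderOf_mk] at hi
          rw [Subgroup.orderOf_coe, hi]
          exact ((Nat.coprime_primes hq hp).2 hpq.symm).pow_left i)
        (le_normalizer_of_normal (H := P) (K := ⊤) (mem_top (c : Γ)))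
        (fun y hy => by
          refine QuotientGroup.eq.1 ?_
          show π y = π ((c : Γ) * y * (c : Γ)⁻¹)
          rw [map_mul, map_mul, map_inv, ← mem_centralizer_iff.1 hcm (π y) (mem_map_of_mem π hy),
            mul_inv_cancel_right])
      exact fun y hy => Subtype.ext (hfin y ⟨y, hy, rfl⟩)
    -- so it lies in a normal nilpotent subgroup
    let S : Set W := {y | ∃ p, p.Prime ∧ p ≠ q ∧ y ∈ Cfsg.pCore p W}
    haveI hSn : (centralizer S).Normal := by
      refine ⟨fun g hg h => mem_centralizer_iff.2 fun y hy => ?_⟩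
      obtain ⟨p, hp, hpq, hyp⟩ := hy
      have h1 : h⁻¹ * y * h ∈ S := ⟨p, hp, hpq, by
        haveI := PSolv.pCore_characteristic p W
        simpa using (inferInstance : (Cfsg.pCore p W).Normal).conj_mem y hyp h⁻¹⟩
      have h2 := congrArg (fun w => h * w * h⁻¹) (mem_centralizer_iff.1 hg _ h1)
      group at h2 ⊢
      exact h2
    haveI hUn : ((Q : Subgroup W).map (QuotientGroup.mk' F)).Normal := by
      have h2 : ((Q.mapSurjective (QuotientGroup.mk'_surjective F) : Sylow q (W ⧸ F)) :
          Subgroup (W ⧸ F)).Normal := inferInstance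
      simpa using h2
    set U := ((Q : Subgroup W).map (QuotientGroup.mk' F)).comap (QuotientGroup.mk' F) with hU
    haveI : U.Normal := hUn.comap _
    set Kq := U ⊓ centralizer S with hKq
    have hKn : Group.IsNilpotent Kq := by
      have hcen : ∀ y : Kq, (orderOf y).Coprime q → y ∈ center Kq := by
        intro y hy
        suffices h : ∀ w : Kq, (∃ p i : ℕ, p.Prime ∧ p ≠ q ∧ orderOf w = p ^ i) → w ∈ center Kq by
          have htop := Element.closure_primePow_orderOf (G := zpowers y)
          have hy' : (⟨y, mem_zpowers y⟩ : zpowers y) ∈ (center Kq).comap (zpowers y).subtype := by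
            have hle : (⊤ : Subgroup (zpowers y)) ≤ (center Kq).comap (zpowers y).subtype := by
              rw [← htop, closure_le]
              rintro w ⟨p, i, hp, hwo⟩
              rw [← Subgroup.orderOf_coe] at hwo
              show (w : Kq) ∈ center Kq
              rcases eq_or_ne p q with rfl | hpq
              · have h1 : orderOf (w : Kq) ∣ orderOf y := orderOf_dvd_of_mem_zpowers w.2
                rw [hwo] at h1
                rcases Nat.eq_zero_or_pos i with rfl | hi
                · rw [pow_zero, orderOf_eq_one_iff] at hwo; rw [hwo]; exact one_mem _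
                · exact absurd (Nat.eq_one_of_dvd_coprimes hy ((dvd_pow_self p hi.ne').trans h1)
                    dvd_rfl) hp.ne_one
              · exact h w ⟨p, i, hp, hpq, hwo⟩
            exact hle (mem_top _)
          exact hy'
        rintro w ⟨p, i, hp, hpq, hwo⟩
        haveI := Fact.mk hp
        have hwo' : orderOf (w : W) = p ^ i := by rw [Subgroup.orderOf_coe]; exact hwo
        have hwF : (w : W) ∈ F := by
          rw [← QuotientGroup.eq_one_iff, ← orderOf_eq_one_iff]
          have h1 : orderOf ((w : W) : W ⧸ F) ∣ p ^ i :=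
            hwo' ▸ orderOf_map_dvd (QuotientGroup.mk' F) (w : W)
          obtain ⟨j, hj⟩ := IsPGroup.iff_orderOf.1 (Q.2.map (QuotientGroup.mk' F))
            ⟨_, w.2.1⟩
          rw [← Subgroup.orderOf_coe] at hj
          exact Nat.eq_one_of_dvd_coprimes ((Nat.coprime_primes hp hq).2 hpq |>.pow i j) h1 (hj ▸ dvd_rfl)
        have hwP : (w : W) ∈ Cfsg.pCore p W := by
          haveI : Group.IsNilpotent F := Cores.fittingSubgroup_isNilpotent
          obtain ⟨R, hR⟩ := (IsPGroup.of_card (p := p) (n := i)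
            (by rw [Nat.card_zpowers, Subgroup.orderOf_mk, hwo'] :
              Nat.card (zpowers (⟨w, hwF⟩ : F)) = p ^ i)).exists_le_sylow
          haveI : (R : Subgroup F).Normal := inferInstance
          haveI : (R : Subgroup F).Characteristic := R.characteristic_of_normal inferInstance
          exact PSolv.le_pCore (PSolv.map_subtype_normal inferInstance) (R.2.map _)
            ⟨⟨w, hwF⟩, hR (mem_zpowers _), rfl⟩
        refine mem_center_iff.2 fun g => Subtype.ext ?_
        exact (mem_centralizer_iff.1 g.2.2 (w : W) ⟨p, hp, hpq, hwP⟩).symm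
      have hq' : IsPGroup q (Kq ⧸ center Kq) := by
        intro g
        obtain ⟨g, rfl⟩ := QuotientGroup.mk'_surjective _ g
        refine ⟨(orderOf g).factorization q, ?_⟩
        rw [← map_pow, QuotientGroup.mk'_apply, QuotientGroup.eq_one_iff]
        refine hcen _ ?_
        rw [orderOf_pow' _ (pow_ne_zero _ hq.ne_zero), Nat.gcd_eq_right (Nat.ordProj_dvd _ _)]
        exact (Nat.coprime_ordCompl hq (orderOf_pos g).ne').symm
      haveI := hq'.isNilpotent
      exact Group.of_quotient_center_nilpotent hq'.isNilpotent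
    have hKF : Kq ≤ F := Cores.le_fittingSubgroup inferInstance hKn
    exact hKF ⟨⟨c, hcQ, rfl⟩, mem_centralizer_iff.2 fun y ⟨p, hp, hpq, hy⟩ =>
      (hcent p hp hpq y hy).symm⟩
  -- the quotient is abelian
  haveI hFn : F.Normal := inferInstance
  suffices h : ∀ g h : W ⧸ F, g * h = h * g by
    exact Subgroup.Normal.quotient_commutative_iff_commutator_le.1 ⟨⟨h⟩⟩
  suffices h : ∀ g h : W ⧸ F, (∃ p i : ℕ, p.Prime ∧ orderOf g = p ^ i) →
      (∃ p i : ℕ, p.Prime ∧ orderOf h = p ^ i) → g * h = h * g by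
    intro g g'
    have htop := Element.closure_primePow_orderOf (G := W ⧸ F)
    have h1 : ∀ g, (∃ p i : ℕ, p.Prime ∧ orderOf g = p ^ i) → ∀ h : W ⧸ F, g * h = h * g := by
      intro g hg h'
      have hle : (⊤ : Subgroup (W ⧸ F)) ≤ centralizer {g} := by
        rw [← htop, closure_le]
        exact fun w hw => mem_centralizer_singleton_iff.2 (h w g hw hg)
      exact (mem_centralizer_singleton_iff.1 (hle (mem_top h'))).symm
    have hle : (⊤ : Subgroup (W ⧸ F)) ≤ centralizer {g'} := by
      rw [← htop, closure_le]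
      exact fun w hw => mem_centralizer_singleton_iff.2 (h1 w hw g')
    exact mem_centralizer_singleton_iff.1 (hle (mem_top g))
  rintro g g' ⟨p, i, hp, hg⟩ ⟨p', i', hp', hg'⟩
  rcases eq_or_ne p p' with rfl | hne
  · haveI := Fact.mk hp
    obtain ⟨Q, hQ⟩ := Coprime.exists_invariant_sylow p hVW (hV.coprime_card hW)
      (Or.inl (Group.isSolvable_of_comm fun u w => Subtype.ext (hV.comm u.2 w.2)))
    have hmem : ∀ g : W ⧸ F, orderOf g ∣ p ^ (max i i') →
        g ∈ (Q : Subgroup W).map (QuotientGroup.mk' F) := by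
      intro g hg
      obtain ⟨j, -, hj⟩ := (Nat.dvd_prime_pow hp).1 hg
      have h := Q.mapSurjective (QuotientGroup.mk'_surjective F)
      obtain ⟨R, hR⟩ := (IsPGroup.of_card (p := p) (n := j) (by rw [Nat.card_zpowers, hj]) :
        IsPGroup p (zpowers g)).exists_le_sylow
      haveI : Subsingleton (Sylow p (W ⧸ F)) := @Unique.instSubsingleton _
        (Sylow.unique_of_normal (Q.mapSurjective (QuotientGroup.mk'_surjective F)) inferInstance)
      have h2 := hR (mem_zpowers g)
      rw [Subsingleton.elim R (Q.mapSurjective (QuotientGroup.mk'_surjective F))] at h2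
      simpa using h2
    obtain ⟨a, ha, rfl⟩ := hmem g (hg ▸ pow_dvd_pow p (le_max_left i i'))
    obtain ⟨b, hb, rfl⟩ := hmem g' (hg' ▸ pow_dvd_pow p (le_max_right i i'))
    have := hsyl p hp Q hQ a ha b hb
    rw [← QuotientGroup.eq_one_iff] at this
    rw [← commutatorElement_eq_one_iff_mul_comm, ← map_commutatorElement]
    exact this
  · exact (Char.nilpotent_commute_of_coprime
      (by rw [hg, hg']; exact ((Nat.coprime_primes hp hp').2 hne).pow i i')).eq

/-- Subgroup form of `commutator_le_fitting_normal`. -/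
theorem commutator_le_fitting {V W : Subgroup Γ} (hV : Four V) (hVW : V ≤ normalizer (W : Set Γ))
    (hW : Odd (Nat.card W)) (hfix : W ⊓ centralizer (V : Set Γ) = ⊥) :
    commutator W ≤ Cfsg.fittingSubgroup W := by
  set L := V ⊔ W with hL
  haveI : (W.subgroupOf L).Normal :=
    normal_subgroupOf_of_le_normalizer (sup_le hVW le_normalizer)
  have hV' : Four (V.subgroupOf L) := by
    refine ⟨by rw [Nat.card_congr (subgroupOfEquivOfLe le_sup_left).toEquiv, hV.card], ?_⟩
    intro v hv
    exact Subtype.ext (hV.sq _ hv)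
  have hWc : Nat.card (W.subgroupOf L) = Nat.card W :=
    Nat.card_congr (subgroupOfEquivOfLe le_sup_right).toEquiv
  have hfix' : W.subgroupOf L ⊓ centralizer ((V.subgroupOf L : Subgroup L) : Set L) = ⊥ := by
    rw [eq_bot_iff]
    rintro w ⟨hw, hwc⟩
    have : (w : Γ) ∈ W ⊓ centralizer (V : Set Γ) := ⟨hw, mem_centralizer_iff.2 fun v hv =>
      congrArg Subtype.val (mem_centralizer_iff.1 hwc ⟨v, mem_sup_left hv⟩ hv)⟩
    rw [hfix, Subgroup.mem_bot] at this
    exact Subgroup.mem_bot.2 (Subtype.ext this)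
  have h := commutator_le_fitting_normal hV' (hWc.symm ▸ hW) hfix'
  let e : W.subgroupOf L ≃* W := subgroupOfEquivOfLe le_sup_right
  have h2 := map_mono (f := (e : W.subgroupOf L →* W)) h
  rw [Cores.map_fittingSubgroup_equiv, map_commutator_eq,
    MonoidHom.range_eq_top.2 e.surjective] at h2
  exact h2

end Cfsg.Agent.GenDih
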