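import Cfsg.Agent.S4479
import Cfsg.Agent.S0948
import Cfsg.Agent.DihBlock.OneClass
import Cfsg.Agent.BlkChar.PModular
import Cfsg.Agent.CharTwo.Locals
import Cfsg.Agent.TwoGroups.Recognition

/-!
# The index lemma

In a simple group with dihedral Sylow 2-subgroups no proper subgroup with one class of involutions
contains the centralizer `C(t)` of an involution properly, when `|C(t)| ≥ 12`: the order formulas
make the index at most `5`.
-/

set_option autoImplicit false
set_option linter.style.haveILetI false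
set_option linter.unusedSectionVars false

open scoped ComplexConjugate

namespace Cfsg.Agent.GenDih

open Cfsg Subgroup

universe u

variable {G : Type u} [Group G] [Finite G]

/-- All involutions of `G` are conjugate. -/
def OneClass (G : Type*) [Group G] : Prop :=
  ∀ a b : G, orderOf a = 2 → orderOf b = 2 → IsConj a b

/-- The order of the joint centralizer of `σ ^ h` and `σ ^ i * τ`. -/
noncomputable def jointCard (σ τ : G) (h i : ℕ) : ℕ :=
  Nat.card (centralizer ({σ ^ h, σ ^ i * τ} : Set G))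

/-- The constant of the order formula, dihedral case. -/
noncomputable def cstDih (σ τ : G) (h : ℕ) : ℚ :=
  2 * (Nat.card (centralizer ({σ ^ h} : Set G)) : ℚ) ^ 3
    * (1 / (jointCard σ τ h 0 : ℚ) + 1 / (jointCard σ τ h 1 : ℚ)) ^ 2

theorem cstDih_pos (σ τ : G) (h : ℕ) : 0 < cstDih σ τ h := by
  have h1 : (0 : ℚ) < jointCard σ τ h 0 := Nat.cast_pos.2 Nat.card_pos
  have h2 : (0 : ℚ) < jointCard σ τ h 1 := Nat.cast_pos.2 Nat.card_pos
  have h3 : (0 : ℚ) < Nat.card (centralizer ({σ ^ h} : Set G)) := Nat.cast_pos.2 Nat.card_pos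
  unfold cstDih; positivity

theorem card_bounds_dih {P : Sylow 2 G} {σ τ : G} {h : ℕ} (D : DihBlock.Dih P σ τ h) (hh : 2 ≤ h)
    (hone : OneClass G) :
    21 / 32 * cstDih σ τ h ≤ (Nat.card G : ℚ) ∧ (Nat.card G : ℚ) ≤ 45 / 32 * cstDih σ τ h := by
  classical
  haveI := Fintype.ofFinite G
  haveI : Fact (Nat.Prime 2) := ⟨Nat.prime_two⟩
  obtain ⟨M, hM⟩ := BlkChar.exists_isPModular 2 Nat.prime_two
  haveI : NeZero (2 * h) := ⟨by omega⟩
  have hζ := Complex.isPrimitiveRoot_exp (2 * h) (NeZero.ne _)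
  obtain ⟨A, C₂, C₃, χ', α, e₂, e₃, hα, he₂, he₃, hinj, hAT, hC₂T, hC₃T, hAC₂, hAC₃, hC₂₃, hχ',
    hpb, hv, hreg⟩ := D.block_structure hh hM hζ
  have hJ : orderOf (σ ^ h) = 2 := D.orderOf_J
  have hτc : IsConj (σ ^ h) τ := hone _ _ hJ (by simpa using D.orderOf_refl 0)
  have hστc : IsConj (σ ^ h) (σ * τ) := hone _ _ hJ (by simpa using D.orderOf_refl 1)
  have hApb : A ∈ DihBlock.pb M G := (hpb A).2 (Or.inr (Or.inl rfl))
  have hAv : ∀ l : ℕ, 0 < l → l < 2 * h → (A : G → ℂ) (σ ^ l) = α := fun l h0 h1 => (hv l h0 h1).1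
  obtain ⟨hne, hE⟩ := D.one_class_equation hh hM hτc hστc hApb hAT hα hAv
  set x₁ := charDegree (A : G → ℂ) with hx₁
  have hdeg := (Char.irr_charDegree_spec A.2).2
  have hpos := (Char.irr_charDegree_spec A.2).1
  obtain ⟨n, hn⟩ := Brauer.exists_sum_subgroup_eq_card_mul (Char.isCharacter_of_irr A.2)
    (P : Subgroup G)
  have hval : ∀ x : (P : Subgroup G), (A : G → ℂ) x
      = (α : ℂ) + if x = 1 then ((x₁ : ℂ) - α) else 0 := by
    intro x
    split_ifs with hx
    · rw [hx]; simp [hdeg, hx₁]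
    · rw [add_zero]
      rcases D.cases x.2 with ⟨i, hi, e⟩ | ⟨i, hi, e⟩
      · rw [e]
        exact hAv i (Nat.pos_of_ne_zero fun e0 => hx (Subtype.ext (by rw [e, e0, pow_zero]; rfl)))
          hi
      · obtain ⟨c, hc⟩ := isConj_iff.1 (hone (σ ^ h) _ hJ (D.orderOf_refl i))
        rw [e, ← hc, Char.irr_isClassFunction A.2 (σ ^ h) c]
        exact hAv h (by omega) (by omega)
  rw [Finset.sum_congr rfl (fun x _ => hval x), Finset.sum_add_distrib, Finset.sum_const,
    Finset.sum_ite_eq' Finset.univ (1 : (P : Subgroup G)), if_pos (Finset.mem_univ _),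
    Finset.card_univ, ← Nat.card_eq_fintype_card, D.card, nsmul_eq_mul] at hn
  push_cast at hn
  have hn' : (4 * h : ℤ) * α + ((x₁ : ℤ) - α) = 4 * h * n := by
    have : (4 * h : ℂ) * α + ((x₁ : ℂ) - α) = 4 * h * n := by linear_combination hn
    exact_mod_cast this
  obtain ⟨a, ha⟩ := D.pow2
  obtain ⟨h', hh'⟩ : ∃ h', h = 2 * h' := by
    rcases a with - | a
    · subst ha; norm_num at hh
    · exact ⟨2 ^ a, by rw [ha]; ring⟩
  obtain ⟨K, hK⟩ : ∃ K : ℤ, (x₁ : ℤ) = 8 * K + α :=
    ⟨h' * (n - α), by rw [hh'] at hn'; push_cast at hn'; linear_combination hn'⟩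
  have hK1 : 1 ≤ K := by
    by_contra hK0
    push Not at hK0
    have h1 : (1 : ℤ) ≤ x₁ := by exact_mod_cast hpos
    rcases hα with rfl | rfl
    · have : K = 0 := by omega
      exact hne (by rw [hK, this]; ring)
    · omega
  have hKq : (1 : ℚ) ≤ K := by exact_mod_cast hK1
  have hxq : (x₁ : ℚ) = 8 * K + α := by exact_mod_cast hK
  have hE' : (Nat.card G : ℚ) * (8 * (K : ℚ)) ^ 2
      = (8 * K + α) * (8 * K + 2 * α) * cstDih σ τ h := by
    rw [hxq] at hE
    unfold cstDih jointCard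
    simp only [DihBlock.cJ] at hE
    linear_combination hE
  have hc := cstDih_pos σ τ h
  generalize cstDih σ τ h = c at hE' hc ⊢
  have h64 : (0 : ℚ) < (8 * (K : ℚ)) ^ 2 := by positivity
  constructor
  · refine le_of_mul_le_mul_right ?_ h64
    rw [hE']
    rcases hα with rfl | rfl <;> push_cast <;>
      nlinarith [mul_nonneg hc.le (mul_nonneg (sub_nonneg.2 hKq) (sub_nonneg.2 hKq)),
        mul_nonneg hc.le (sub_nonneg.2 hKq)]
  · refine le_of_mul_le_mul_right ?_ h64
    rw [hE']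
    rcases hα with rfl | rfl <;> push_cast <;>
      nlinarith [mul_nonneg hc.le (mul_nonneg (sub_nonneg.2 hKq) (sub_nonneg.2 hKq)),
        mul_nonneg hc.le (sub_nonneg.2 hKq)]

/-- The constant of the order formula, Klein case. -/
noncomputable def cstKlein (J : G) (P : Subgroup G) : ℚ :=
  8 * (Nat.card (centralizer ({J} : Set G)) : ℚ) ^ 3
    / (Nat.card (centralizer (P : Set G)) : ℚ) ^ 2

theorem klein_ratio {a b c ε : ℤ} (hε : ε = 1 ∨ ε = -1) (ha : 1 ≤ a) (hb : 1 ≤ b) (hc : 1 ≤ c)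
    (ha4 : 4 ∣ a - 1) (hb4 : 4 ∣ b - ε) (hc4 : 4 ∣ c + 1) (hrel : 1 + a + ε * b - c = 0) :
    0 < ((a : ℚ) + 1) * (b + ε) * (c - 1) ∧
      3 / 8 * (((a : ℚ) + 1) * (b + ε) * (c - 1)) ≤ a * b * c ∧
      (a : ℚ) * b * c ≤ 15 / 8 * (((a : ℚ) + 1) * (b + ε) * (c - 1)) := by
  obtain ⟨i, hi⟩ := ha4
  obtain ⟨j, hj⟩ := hb4
  obtain ⟨k, hk⟩ := hc4
  have hc3 : 3 ≤ c := by omega
  rcases hε with rfl | rfl
  · have haQ : (1 : ℚ) ≤ a := by exact_mod_cast ha
    have hbQ : (1 : ℚ) ≤ b := by exact_mod_cast hb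
    have hcQ : (c : ℚ) = 1 + a + b := by
      have : c = 1 + a + b := by omega
      exact_mod_cast this
    rw [hcQ]; push_cast
    refine ⟨?_, ?_, ?_⟩ <;>
      nlinarith [mul_nonneg (sub_nonneg.2 haQ) (sub_nonneg.2 hbQ),
        mul_pos (show (0 : ℚ) < a by linarith) (show (0 : ℚ) < b by linarith)]
  · have hb3 : (3 : ℚ) ≤ b := by exact_mod_cast (show 3 ≤ b by omega)
    have hcQ : (3 : ℚ) ≤ c := by exact_mod_cast hc3
    have haQ : (a : ℚ) = b + c - 1 := by
      have : a = b + c - 1 := by omega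
      exact_mod_cast this
    rw [haQ]; push_cast
    refine ⟨?_, ?_, ?_⟩ <;>
      nlinarith [mul_nonneg (sub_nonneg.2 hb3) (sub_nonneg.2 hcQ),
        mul_pos (show (0 : ℚ) < b by linarith) (show (0 : ℚ) < c by linarith)]

theorem card_bounds_klein (P : Sylow 2 G) (hP : IsKleinFour (P : Subgroup G)) {J : G}
    (hJ : J ∈ (P : Subgroup G)) (hJ2 : orderOf J = 2) (hone : OneClass G) :
    3 / 8 * cstKlein J (P : Subgroup G) ≤ (Nat.card G : ℚ) ∧
      (Nat.card G : ℚ) ≤ 15 / 8 * cstKlein J (P : Subgroup G) := by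
  classical
  haveI := Fintype.ofFinite G
  haveI : Fact (Nat.Prime 2) := ⟨Nat.prime_two⟩
  haveI := hP
  have hcard : Nat.card (P : Subgroup G) = 4 := IsKleinFour.card_four
  obtain ⟨M, hM⟩ := BlkChar.exists_isPModular 2 Nat.prime_two
  obtain ⟨g₀, hg₀, hG⟩ : ∃ g₀, Odd g₀ ∧ Nat.card G = 4 * g₀ := by
    refine ⟨(P : Subgroup G).index, ?_, by rw [← Subgroup.card_mul_index (P : Subgroup G), hcard]⟩
    exact Nat.not_even_iff_odd.1 fun he => P.not_dvd_index (even_iff_two_dvd.1 he)
  have hnc : ¬ ∃ N : Subgroup G, N.Normal ∧ Nat.card N = g₀ := by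
    rintro ⟨N, hN, hNc⟩
    have hidx : N.index = 4 := by
      have h1 := Subgroup.card_mul_index N
      rw [hNc, hG, mul_comm 4] at h1
      exact Nat.eq_of_mul_eq_mul_left hg₀.pos h1
    obtain ⟨τ, hτ, hτJ⟩ : ∃ τ ∈ (P : Subgroup G), τ ∉ zpowers J := by
      by_contra hcon
      push Not at hcon
      have := Subgroup.card_le_of_le hcon
      rw [hcard, Nat.card_zpowers, hJ2] at this
      omega
    have hτ1 : τ ≠ 1 := fun e => hτJ (e ▸ one_mem _)
    have hsq : τ ^ 2 = 1 := by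
      have h4 : (⟨τ, hτ⟩ : (P : Subgroup G)) ^ 2 = 1 := by
        rw [pow_two]; exact IsKleinFour.mul_self _
      exact congrArg Subtype.val h4
    obtain ⟨g, hg⟩ := isConj_iff.1 (hone J τ hJ2 (orderOf_eq_prime hsq hτ1))
    haveI : Fact (Nat.Prime 2) := ⟨Nat.prime_two⟩
    have hcomm := IsPGroup.commutative_of_card_eq_prime_sq (p := 2) (G := G ⧸ N)
      (by rw [← Subgroup.index_eq_card]; exact hidx)
    have h2 : ((J⁻¹ * τ : G) : G ⧸ N) = 1 := by
      rw [← hg, QuotientGroup.mk_mul, QuotientGroup.mk_mul, QuotientGroup.mk_mul,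
        hcomm (g : G ⧸ N) (J : G ⧸ N), QuotientGroup.mk_inv, QuotientGroup.mk_inv]
      group
    rw [QuotientGroup.eq_one_iff] at h2
    have h3 : (J⁻¹ * τ) ∈ (P : Subgroup G) := mul_mem (inv_mem hJ) hτ
    have h4 : orderOf (J⁻¹ * τ) ∣ Nat.card (P : Subgroup G) := Subgroup.orderOf_dvd_natCard _ h3
    rw [hcard, show (4 : ℕ) = 2 ^ 2 by norm_num] at h4
    have h5 : orderOf (J⁻¹ * τ) = 1 := Nat.eq_one_of_dvd_coprimes
      ((Nat.coprime_two_left.2 hg₀).pow_left 2) h4 (hNc ▸ Subgroup.orderOf_dvd_natCard _ h2)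
    rw [orderOf_eq_one_iff, inv_mul_eq_one] at h5
    exact hτJ (h5 ▸ mem_zpowers J)
  obtain ⟨ζ₂, ζ₃, ζ₄, ε, hε, h2T, h3T, h23, h24, h34, hB, hz, hd2, hd3, hd4, hreg⟩ :=
    S0948.result M hM P hP hone
  have h4T : (ζ₄ : G → ℂ) ≠ fun _ => 1 := by
    intro e
    have h1 := (hz J hJ2).2.2
    rw [e] at h1
    norm_num at h1
  have heq := S4479.result M hM g₀ hg₀ hG hnc P J hJ hJ2 ζ₂ ζ₃ ζ₄ 1 ε (-1) hB
    ⟨h2T, h3T, h4T, h23, h24, h34⟩ ⟨Or.inl rfl, hε, Or.inr rfl⟩
    ⟨by rw [(hz J hJ2).1]; norm_num, (hz J hJ2).2.1, by rw [(hz J hJ2).2.2]; norm_num⟩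
  have hdeg := fun χ : IrrCharacter G => (Char.irr_charDegree_spec χ.2).2
  have hpos := fun χ : IrrCharacter G => (Char.irr_charDegree_spec χ.2).1
  have hrel := hreg 1 (by rw [orderOf_one]; norm_num)
  rw [hdeg, hdeg, hdeg] at hrel
  have hrel' : 1 + (charDegree (ζ₂ : G → ℂ) : ℤ) + ε * (charDegree (ζ₃ : G → ℂ) : ℤ)
      - (charDegree (ζ₄ : G → ℂ) : ℤ) = 0 := by exact_mod_cast hrel
  obtain ⟨hd, hlo, hhi⟩ := klein_ratio hε (by exact_mod_cast hpos ζ₂) (by exact_mod_cast hpos ζ₃)
    (by exact_mod_cast hpos ζ₄) hd2 hd3 hd4 hrel'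
  push_cast at hd hlo hhi heq
  rw [← sub_eq_add_neg] at heq
  set d := ((charDegree (ζ₂ : G → ℂ) : ℚ) + 1) * ((charDegree (ζ₃ : G → ℂ) : ℚ) + ε)
    * ((charDegree (ζ₄ : G → ℂ) : ℚ) - 1) with hdd
  set num := (charDegree (ζ₂ : G → ℂ) : ℚ) * charDegree (ζ₃ : G → ℂ) * charDegree (ζ₄ : G → ℂ)
  have hcst : (Nat.card G : ℚ) = num / d * cstKlein J (P : Subgroup G) := by
    rw [heq, cstKlein]; ring
  have hc0 : 0 ≤ cstKlein J (P : Subgroup G) := by unfold cstKlein; positivity
  constructor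
  · rw [hcst]
    exact mul_le_mul_of_nonneg_right ((le_div_iff₀ hd).2 hlo) hc0
  · rw [hcst]
    exact mul_le_mul_of_nonneg_right ((div_le_iff₀ hd).2 hhi) hc0

theorem card_centralizer_of_le (M : Subgroup G) (s : Set M)
    (h : centralizer (Subtype.val '' s : Set G) ≤ M) :
    Nat.card (centralizer s) = Nat.card (centralizer (Subtype.val '' s : Set G)) := by
  rw [← Nat.card_congr (subgroupOfEquivOfLe h).toEquiv]
  refine congrArg (fun H : Subgroup M => Nat.card H) ?_
  ext x
  simp only [mem_subgroupOf, mem_centralizer_iff]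
  constructor
  · rintro hx _ ⟨y, hy, rfl⟩
    exact congrArg Subtype.val (hx y hy)
  · intro hx y hy
    exact Subtype.ext (hx y ⟨y, hy, rfl⟩)

theorem cJ_eq_of_le (M : Subgroup G) (σ τ : M) (h i : ℕ)
    (hle : centralizer ({(σ : G) ^ h} : Set G) ≤ M) :
    jointCard σ τ h i = jointCard (σ : G) (τ : G) h i := by
  rw [jointCard, jointCard, card_centralizer_of_le M]
  · simp [Set.image_insert_eq]
  · refine le_trans (centralizer_le ?_) hle
    rintro x rfl
    exact ⟨σ ^ h, Or.inl rfl, by simp⟩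

theorem cstDih_eq_of_le (M : Subgroup G) (σ τ : M) (h : ℕ)
    (hle : centralizer ({(σ : G) ^ h} : Set G) ≤ M) :
    cstDih σ τ h = cstDih (σ : G) (τ : G) h := by
  have hc : Nat.card (centralizer ({σ ^ h} : Set M))
      = Nat.card (centralizer ({(σ : G) ^ h} : Set G)) := by
    rw [card_centralizer_of_le M]
    · simp
    · simpa using hle
  simp only [cstDih, cJ_eq_of_le M σ τ h _ hle, hc]

/-- **The index lemma.** -/
theorem index_lemma {X : Type u} [Group X] [Finite X] [IsSimpleGroup X] (S : Sylow 2 X) (n : ℕ)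
    (hn : 2 ≤ n) (hS : Nonempty ((S : Subgroup X) ≃* DihedralGroup n)) {t : X} (ht : orderOf t = 2)
    (htS : t ∈ (S : Subgroup X)) (hSt : (S : Subgroup X) ≤ centralizer {t})
    (h12 : 12 ≤ Nat.card (centralizer ({t} : Set X))) (hX : OneClass X)
    (M : Subgroup X) (hM : M ≠ ⊤) (hCM : centralizer {t} ≤ M) (hMone : OneClass M) : False := by
  classical
  haveI : Fact (Nat.Prime 2) := ⟨Nat.prime_two⟩
  obtain ⟨e⟩ := hS
  haveI : NeZero n := ⟨by omega⟩
  have hScard : Nat.card (S : Subgroup X) = 2 * n := by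
    rw [Nat.card_congr e.toEquiv, DihedralGroup.nat_card]
  obtain ⟨a, ha⟩ : ∃ a, n = 2 ^ a := by
    obtain ⟨k, hk⟩ := IsPGroup.iff_card.mp S.isPGroup'
    rw [hScard] at hk
    obtain ⟨a, -, ha⟩ := (Nat.dvd_prime_pow Nat.prime_two).1 (Dvd.intro_left 2 hk : n ∣ 2 ^ k)
    exact ⟨a, ha⟩
  set C := centralizer ({t} : Set X) with hC
  have hMS : (S : Subgroup X) ≤ M := hSt.trans hCM
  set SM := S.subtype hMS with hSM
  have hMS_card : Nat.card (SM : Subgroup M) = 2 * n := by
    rw [← hScard]; exact Nat.card_congr (subgroupOfEquivOfLe hMS).toEquiv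
  -- `C` is proper in `M`
  have hMC : 2 * Nat.card C ≤ Nat.card M := by
    have hne : C ≠ M := by
      intro hCeq
      -- then `t` would be the only involution
      obtain ⟨r, hr, hrt⟩ : ∃ r ∈ (S : Subgroup X), orderOf r = 2 ∧ r ≠ t := by
        refine ⟨if (e.symm (DihedralGroup.sr 0) : X) = t then e.symm (DihedralGroup.sr 1)
          else e.symm (DihedralGroup.sr 0), ?_⟩
        have ho : ∀ i : ZMod n, orderOf ((e.symm (DihedralGroup.sr i) : (S : Subgroup X)) : X) = 2 :=
          fun i => by rw [Subgroup.orderOf_coe, MulEquiv.orderOf_eq, DihedralGroup.orderOf_sr]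
        split_ifs with h0
        · refine ⟨SetLike.coe_mem _, ho 1, fun h1 => ?_⟩
          have h2 := e.symm.injective (Subtype.ext (h0.trans h1.symm))
          injection h2 with h2
          haveI : Fact (1 < n) := ⟨hn⟩
          exact zero_ne_one h2
        · exact ⟨SetLike.coe_mem _, ho 0, h0⟩
      obtain ⟨c, hc⟩ := isConj_iff.1 (hMone ⟨t, hMS htS⟩ ⟨r, hMS hr⟩
        (by rw [Subgroup.orderOf_mk]; exact ht) (by rw [Subgroup.orderOf_mk]; exact hrt.1))
      have hcC : (c : X) ∈ C := hCeq ▸ c.2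
      refine hrt.2 ?_
      have h3 : (c : X) * t * (c : X)⁻¹ = r := congrArg Subtype.val hc
      rw [mem_centralizer_singleton_iff.1 hcC, mul_inv_cancel_right] at h3
      exact h3.symm
    have hdvd := Subgroup.card_dvd_of_le hCM
    obtain ⟨k, hk⟩ := hdvd
    have hk2 : 2 ≤ k := by
      by_contra hk'
      push Not at hk'
      interval_cases k
      · rw [mul_zero] at hk; exact absurd hk (Nat.card_pos.ne')
      · rw [mul_one] at hk; exact absurd (eq_of_le_of_card_ge hCM hk.le) hne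
    rw [hk, mul_comm 2]; exact Nat.mul_le_mul_left _ hk2
  -- the index is at least three and `|X|` divides its factorial
  have hidx : Nat.card M * M.index = Nat.card X := Subgroup.card_mul_index M
  have h3 : 3 ≤ M.index := by
    by_contra h
    push Not at h
    rcases Nat.lt_or_ge M.index 2 with h1 | h1
    · exact hM (Subgroup.index_eq_one.1 (le_antisymm (Nat.lt_succ_iff.1 h1)
        (Nat.one_le_iff_ne_zero.2 Subgroup.index_ne_zero_of_finite)))
    · haveI := Subgroup.normal_of_index_eq_two (le_antisymm (Nat.lt_succ_iff.1 h) h1)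
      rcases IsSimpleGroup.eq_bot_or_eq_top_of_normal M inferInstance with h2 | h2
      · rw [h2, Subgroup.card_bot] at hMC; omega
      · exact hM h2
  have hfac : Nat.card X ∣ M.index.factorial := by
    have hker : M.normalCore = ⊥ := (IsSimpleGroup.eq_bot_or_eq_top_of_normal _
      (Subgroup.normalCore_normal M)).resolve_right fun h =>
        hM (top_le_iff.1 (h ▸ Subgroup.normalCore_le M))
    rw [Subgroup.normalCore_eq_ker] at hker
    have := Subgroup.card_dvd_of_injective _ ((MonoidHom.ker_eq_bot_iff _).1 hker)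
    rwa [Nat.card_perm, ← Subgroup.index_eq_card] at this
  rcases Nat.lt_or_ge a 2 with ha2 | ha2
  · -- Klein four Sylow subgroup
    have hn2 : n = 2 := by interval_cases a <;> simp_all
    subst hn2
    have hK : ∀ {Y : Type u} [Group Y] (P : Subgroup Y), Nat.card P = 4 →
        (∀ x ∈ P, x * x = 1) → IsKleinFour P := by
      intro Y _ P hP hsq
      haveI : Finite P := Nat.finite_of_card_ne_zero (by rw [hP]; norm_num)
      haveI : Nontrivial P := Finite.one_lt_card_iff_nontrivial.1 (by omega)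
      exact ⟨hP, (Monoid.exponent_eq_prime_iff Nat.prime_two).2 fun x hx =>
        orderOf_eq_prime (by rw [pow_two]; exact Subtype.ext (hsq x x.2)) hx⟩
    have hsq : ∀ x ∈ (S : Subgroup X), x * x = 1 := fun x hx =>
      congrArg Subtype.val (e.injective (a₁ := ⟨x, hx⟩ * ⟨x, hx⟩) (a₂ := 1)
        (by rw [map_mul, map_one]; generalize e ⟨x, hx⟩ = u; revert u; decide))
    obtain ⟨lo, -⟩ := card_bounds_klein (J := (⟨t, hMS htS⟩ : M)) SM
      (hK _ (by rw [hMS_card]) (fun x hx => Subtype.ext (hsq _ hx)))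
      htS (by rw [Subgroup.orderOf_mk]; exact ht) hMone
    obtain ⟨-, hi⟩ := card_bounds_klein S (hK _ (by rw [hScard]) hsq) htS ht hX
    have hcst : cstKlein (⟨t, hMS htS⟩ : M) (SM : Subgroup M) = cstKlein t (S : Subgroup X) := by
      have h1 : Nat.card (centralizer ({(⟨t, hMS htS⟩ : M)} : Set M)) = Nat.card C := by
        rw [card_centralizer_of_le M] <;> simp [← hC, hCM]
      have himg : (Subtype.val '' ((SM : Subgroup M) : Set M) : Set X) = (S : Subgroup X) := by
        ext x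
        exact ⟨fun ⟨y, hy, hyx⟩ => hyx ▸ hy, fun hx => ⟨⟨x, hMS hx⟩, hx, rfl⟩⟩
      have h2 : Nat.card (centralizer ((SM : Subgroup M) : Set M))
          = Nat.card (centralizer ((S : Subgroup X) : Set X)) := by
        rw [card_centralizer_of_le M, himg]
        rw [himg]
        exact (centralizer_le (Set.singleton_subset_iff.2 htS)).trans hCM
      simp only [cstKlein, h1, h2, hC]
    rw [hcst] at lo
    have h5 : M.index ≤ 5 := by
      have h1 : ((Nat.card M * M.index : ℕ) : ℚ) ≤ ((Nat.card M * 5 : ℕ) : ℚ) := by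
        rw [hidx]; push_cast; linarith
      exact Nat.le_of_mul_le_mul_left (by exact_mod_cast h1) Nat.card_pos
    have h8 : ¬ 8 ∣ Nat.card X := by
      intro h8
      refine S.not_dvd_index ?_
      rw [← Subgroup.card_mul_index (S : Subgroup X), hScard] at h8
      omega
    have hle := Nat.le_of_dvd (Nat.factorial_pos _) hfac
    generalize hk : M.index = k at *
    interval_cases k
    · norm_num [Nat.factorial] at hle; omega
    · norm_num [Nat.factorial] at hle; omega
    · norm_num [Nat.factorial] at hle hfac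
      have hM24 : Nat.card M = 24 := by omega
      rw [← hidx, hM24] at h8
      exact h8 (by norm_num)
  · -- Sylow 2-subgroup of order at least eight
    set h := 2 ^ (a - 1) with hh
    have hn2h : n = 2 * h := by rw [ha, hh, ← pow_succ']; congr 1; omega
    have hh2 : 2 ≤ h := by
      rw [hh]; exact le_self_pow₀ (by norm_num) (by omega)
    set σ : X := ((e.symm (DihedralGroup.r 1) : (S : Subgroup X)) : X) with hσ
    set τ : X := ((e.symm (DihedralGroup.sr 0) : (S : Subgroup X)) : X) with hτ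
    have hσo : orderOf σ = n := by
      rw [hσ, Subgroup.orderOf_coe, MulEquiv.orderOf_eq, DihedralGroup.orderOf_r_one]
    have hrel : τ * σ * τ⁻¹ = σ⁻¹ := by
      rw [hσ, hτ]
      simp only [← Subgroup.coe_inv, ← Subgroup.coe_mul, ← map_inv, ← map_mul]
      congr 2
      simp
    have hsq : τ * τ = 1 := by
      rw [hτ]
      simp only [← Subgroup.coe_mul, ← map_mul]
      simp
    have hnm : τ ∉ zpowers σ := by
      rintro ⟨k, hk⟩
      have h1 : (e.symm (DihedralGroup.r 1)) ^ k = e.symm (DihedralGroup.sr 0) :=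
        Subtype.ext (by rw [Subgroup.coe_zpow]; exact hk)
      rw [← map_zpow] at h1
      have h2 := e.symm.injective h1
      simp at h2
    have D : DihBlock.Dih S σ τ h := ⟨SetLike.coe_mem _, SetLike.coe_mem _, ⟨a - 1, rfl⟩,
      by rw [hσo, hn2h], hrel, hsq, hnm, by rw [hScard, hn2h]; ring⟩
    haveI := Fintype.ofFinite X
    have htJ : σ ^ h = t := by
      rcases D.involution_cases htS ht with e1 | ⟨i, -, e1⟩
      · exact e1.symm
      exfalso
      have hc : σ * t = t * σ := mem_centralizer_singleton_iff.1 (hSt D.mem_σ)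
      rw [e1, mul_assoc, show τ * σ = σ⁻¹ * τ by
        rw [← hrel, inv_mul_cancel_right], ← mul_assoc, ← mul_assoc] at hc
      have h1 : σ * σ ^ i = σ ^ i * σ⁻¹ := mul_right_cancel hc
      rw [((Commute.refl σ).pow_right i).eq] at h1
      have h2 := mul_left_cancel h1
      have h3 := orderOf_dvd_of_pow_eq_one
        (show σ ^ 2 = 1 by rw [pow_two]; nth_rewrite 2 [h2]; exact mul_inv_cancel σ)
      rw [hσo] at h3
      have := Nat.le_of_dvd two_pos h3
      omega
    have hσM : σ ∈ M := hMS D.mem_σ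
    have hτM : τ ∈ M := hMS D.mem_τ
    have D' : DihBlock.Dih SM (⟨σ, hσM⟩ : M) ⟨τ, hτM⟩ h := by
      refine ⟨D.mem_σ, D.mem_τ, D.pow2, by rw [Subgroup.orderOf_mk]; exact D.order,
        Subtype.ext hrel, Subtype.ext hsq, ?_, by rw [hMS_card, hn2h]; ring⟩
      rintro ⟨k, hk⟩
      exact hnm ⟨k, congrArg Subtype.val hk⟩
    obtain ⟨lo, -⟩ := card_bounds_dih D' hh2 hMone
    obtain ⟨-, hi⟩ := card_bounds_dih D hh2 hX
    rw [cstDih_eq_of_le M _ _ _ (by simpa [htJ] using hCM)] at lo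
    have hp := cstDih_pos σ τ h
    have h1 : ((Nat.card M * M.index : ℕ) : ℚ) < ((Nat.card M * 3 : ℕ) : ℚ) := by
      rw [hidx]; push_cast; linarith
    have h2 : M.index < 3 := Nat.lt_of_mul_lt_mul_left (by exact_mod_cast h1)
    omega

end Cfsg.Agent.GenDih
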