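import Cfsg.Agent.GenDih.Four
import Cfsg.Agent.GenDih.Index
import Cfsg.Agent.Invol.FourGroup
import Cfsg.Agent.Transfer.Frobenius
import Cfsg.Agent.TwoFusion.Basic
import Cfsg.Agent.Lib.Element
import Cfsg.Prelude.Def_CaseTheorems

/-!
# Involutions with a generalised dihedral centralizer

`GDC x K`: the centralizer of the involution `x` is `K ∪ (C(x) ∖ K)` with `K` abelian of index two,
with `x` as only involution, and every element outside `K` an involution inverting `K`.
`Loc X`: one class of involutions, all of this kind.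
-/

set_option autoImplicit false
set_option linter.style.haveILetI false
set_option linter.unusedSectionVars false

namespace Cfsg.Agent.GenDih

open Subgroup
open scoped Pointwise

variable {X : Type*} [Group X]

/-- Generalised dihedral centralizer. -/
structure GDC (x : X) (K : Subgroup X) : Prop where
  inv : orderOf x = 2
  le : K ≤ centralizer {x}
  mem : x ∈ K
  comm : ∀ a ∈ K, ∀ b ∈ K, a * b = b * a
  unique : ∀ a ∈ K, a * a = 1 → a = 1 ∨ a = x
  out : ∀ c ∈ centralizer ({x} : Set X), c ∉ K → c * c = 1 ∧ ∀ a ∈ K, c * a * c⁻¹ = a⁻¹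
  mul_mem : ∀ c ∈ centralizer ({x} : Set X), ∀ d ∈ centralizer ({x} : Set X), c ∉ K → d ∉ K →
    c * d ∈ K
  proper : ∃ c ∈ centralizer ({x} : Set X), c ∉ K

theorem sq_of_orderOf_two {x : X} (h : orderOf x = 2) : x * x = 1 := by
  rw [← pow_two, ← h, pow_orderOf_eq_one]

theorem ne_one_of_orderOf_two {x : X} (h : orderOf x = 2) : x ≠ 1 := fun e => by
  rw [e, orderOf_one] at h; omega

theorem inv_of_orderOf_two {x : X} (h : orderOf x = 2) : x⁻¹ = x :=
  inv_eq_of_mul_eq_one_right (sq_of_orderOf_two h)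

theorem eq_one_of_odd_of_sq {a : X} (ho : Odd (orderOf a)) (h : a * a = 1) : a = 1 := by
  rw [← orderOf_eq_one_iff]
  have h2 : orderOf a ∣ 2 := orderOf_dvd_of_pow_eq_one (by rw [pow_two]; exact h)
  rcases (Nat.dvd_prime Nat.prime_two).1 h2 with e | e
  · exact e
  · rw [e] at ho; exact absurd ho (by decide)

theorem commute_of_commute_sq {a b : X} (ho : Odd (orderOf a)) (h : a * a * b = b * (a * a)) :
    a * b = b * a := by
  obtain ⟨j, hj⟩ := ho
  have e : a = (a * a) ^ (j + 1) := by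
    rw [← pow_two, ← pow_mul, show 2 * (j + 1) = orderOf a + 1 by omega, pow_succ,
      pow_orderOf_eq_one, one_mul]
  rw [e]
  exact (Commute.pow_left h (j + 1)).eq

theorem orderOf_conj (g a : X) : orderOf (g * a * g⁻¹) = orderOf a :=
  orderOf_injective (MulAut.conj g).toMonoidHom (MulAut.conj g).injective a

namespace GDC

variable {x : X} {K : Subgroup X}

theorem self_mem (_h : GDC x K) : x ∈ centralizer ({x} : Set X) :=
  mem_centralizer_singleton_iff.2 rfl

theorem sq (h : GDC x K) : x * x = 1 := sq_of_orderOf_two h.inv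

/-- Odd elements of the centralizer lie in `K`. -/
theorem mem_of_odd (h : GDC x K) {a : X} (hax : a * x = x * a) (ho : Odd (orderOf a)) : a ∈ K := by
  by_contra ha
  have h1 := (h.out a (mem_centralizer_singleton_iff.2 hax) ha).1
  exact ha (eq_one_of_odd_of_sq ho h1 ▸ one_mem K)

theorem not_mem_of_inv (h : GDC x K) {r : X} (hr : orderOf r = 2) (hrx : r ≠ x) : r ∉ K := fun hK =>
  (h.unique r hK (sq_of_orderOf_two hr)).elim (ne_one_of_orderOf_two hr) hrx

/-- An element of `K` commuting with a reflection is `1` or `x`. -/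
theorem eq_of_commute_out (h : GDC x K) {r a : X} (hr : r ∈ centralizer ({x} : Set X)) (hrK : r ∉ K)
    (ha : a ∈ K) (har : a * r = r * a) : a = 1 ∨ a = x := by
  refine h.unique a ha ?_
  have h1 := (h.out r hr hrK).2 a ha
  rw [← har, mul_inv_cancel_right] at h1
  exact eq_inv_iff_mul_eq_one.1 h1

theorem orderOf_out (h : GDC x K) {r : X} (hr : r ∈ centralizer ({x} : Set X)) (hrK : r ∉ K) :
    orderOf r = 2 :=
  orderOf_eq_prime (by rw [pow_two]; exact (h.out r hr hrK).1) fun e => hrK (e ▸ one_mem K)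

/-- `C(x) ∩ C(r) = {1, x, r, x r}`. -/
theorem cases_of_commute (h : GDC x K) {r c : X} (hr : r ∈ centralizer ({x} : Set X)) (hrK : r ∉ K)
    (hc : c * x = x * c) (hcr : c * r = r * c) : c = 1 ∨ c = x ∨ c = r ∨ c = x * r := by
  by_cases hcK : c ∈ K
  · rcases h.eq_of_commute_out hr hrK hcK hcr with e | e
    · exact Or.inl e
    · exact Or.inr (Or.inl e)
  · have h1 := h.mul_mem c (mem_centralizer_singleton_iff.2 hc) r hr hcK hrK
    have hrr : r * r = 1 := (h.out r hr hrK).1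
    rcases h.eq_of_commute_out hr hrK h1 (by rw [mul_assoc, ← mul_assoc r c r, ← hcr, mul_assoc])
      with e | e
    · exact Or.inr (Or.inr (Or.inl (by
        calc c = c * (r * r) := by rw [hrr, mul_one]
          _ = r := by rw [← mul_assoc, e, one_mul])))
    · exact Or.inr (Or.inr (Or.inr (by
        calc c = c * (r * r) := by rw [hrr, mul_one]
          _ = x * r := by rw [← mul_assoc, e])))

theorem map_conj (h : GDC x K) (g : X) : GDC (g * x * g⁻¹) (K.map (MulAut.conj g).toMonoidHom) := by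
  have hc : ∀ c, c ∈ centralizer ({g * x * g⁻¹} : Set X) →
      g⁻¹ * c * g ∈ centralizer ({x} : Set X) := by
    intro c hc
    rw [mem_centralizer_singleton_iff] at hc ⊢
    calc g⁻¹ * c * g * x = g⁻¹ * (c * (g * x * g⁻¹)) * g := by group
      _ = g⁻¹ * ((g * x * g⁻¹) * c) * g := by rw [hc]
      _ = _ := by group
  have hm : ∀ c, c ∈ K.map (MulAut.conj g).toMonoidHom ↔ g⁻¹ * c * g ∈ K := by
    intro c; exact TwoFusion.mem_map_conj_iff
  refine ⟨?_, ?_, ⟨x, h.mem, rfl⟩, ?_, ?_, fun c hcc hcK => ?_, fun c hcc d hdd hcK hdK => ?_, ?_⟩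
  · rw [orderOf_conj, h.inv]
  · rintro _ ⟨a, ha, rfl⟩
    rw [mem_centralizer_singleton_iff]
    have := mem_centralizer_singleton_iff.1 (h.le ha)
    show g * a * g⁻¹ * (g * x * g⁻¹) = g * x * g⁻¹ * (g * a * g⁻¹)
    calc g * a * g⁻¹ * (g * x * g⁻¹) = g * (a * x) * g⁻¹ := by group
      _ = g * (x * a) * g⁻¹ := by rw [this]
      _ = _ := by group
  · rintro _ ⟨a, ha, rfl⟩ _ ⟨b, hb, rfl⟩
    rw [← map_mul, ← map_mul, h.comm a ha b hb]
  · rintro _ ⟨a, ha, rfl⟩ h1
    rw [← map_mul, ← map_one (MulAut.conj g).toMonoidHom] at h1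
    rcases h.unique a ha ((MulAut.conj g).injective h1) with rfl | rfl
    · exact Or.inl (map_one _)
    · exact Or.inr rfl
  · obtain ⟨h1, h2⟩ := h.out _ (hc c hcc) (fun e => hcK ((hm c).2 e))
    refine ⟨?_, ?_⟩
    · calc c * c = g * ((g⁻¹ * c * g) * (g⁻¹ * c * g)) * g⁻¹ := by group
        _ = 1 := by rw [h1]; group
    · rintro _ ⟨a, ha, rfl⟩
      show c * (g * a * g⁻¹) * c⁻¹ = (g * a * g⁻¹)⁻¹
      calc c * (g * a * g⁻¹) * c⁻¹ = g * ((g⁻¹ * c * g) * a * (g⁻¹ * c * g)⁻¹) * g⁻¹ := by group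
        _ = g * a⁻¹ * g⁻¹ := by rw [h2 a ha]
        _ = _ := by group
  · rw [hm]
    have := h.mul_mem _ (hc c hcc) _ (hc d hdd) (fun e => hcK ((hm c).2 e))
      (fun e => hdK ((hm d).2 e))
    convert this using 1; group
  · obtain ⟨c, hc1, hcK⟩ := h.proper
    refine ⟨g * c * g⁻¹, ?_, fun e => hcK ?_⟩
    · rw [mem_centralizer_singleton_iff] at hc1 ⊢
      calc g * c * g⁻¹ * (g * x * g⁻¹) = g * (c * x) * g⁻¹ := by group
        _ = g * (x * c) * g⁻¹ := by rw [hc1]
        _ = _ := by group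
    · have := (hm _).1 e
      convert this using 1; group

end GDC

/-- All involutions are conjugate and have generalised dihedral centralizers. -/
structure Loc (X : Type*) [Group X] : Prop where
  one : OneClass X
  ctl : ∀ x : X, orderOf x = 2 → ∃ K : Subgroup X, GDC x K

theorem Loc.of_gdc {t : X} {K : Subgroup X} (hX : OneClass X) (h : GDC t K) : Loc X :=
  ⟨hX, fun x hx => by
    obtain ⟨g, hg⟩ := isConj_iff.1 (hX t x h.inv hx)
    exact ⟨_, hg ▸ h.map_conj g⟩⟩

/-- The four-group generated by two commuting involutions. -/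
theorem exists_four {x r : X} (hx : orderOf x = 2) (hr : orderOf r = 2) (hxr : x ≠ r)
    (hc : r * x = x * r) : ∃ V : Subgroup X, Four V ∧ x ∈ V ∧ r ∈ V ∧
      ∀ v ∈ V, v = 1 ∨ v = x ∨ v = r ∨ v = x * r := by
  have hxx := sq_of_orderOf_two hx
  have hrr := sq_of_orderOf_two hr
  have hrr' : ∀ a : X, r * (r * a) = a := fun a => by rw [← mul_assoc, hrr, one_mul]
  have hxx' : ∀ a : X, x * (x * a) = a := fun a => by rw [← mul_assoc, hxx, one_mul]
  have hc' : ∀ a : X, r * (x * a) = x * (r * a) := fun a => by rw [← mul_assoc, hc, mul_assoc]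
  let V : Subgroup X :=
    { carrier := {1, x, r, x * r}
      one_mem' := Or.inl rfl
      mul_mem' := by
        intro a b ha hb
        simp only [Set.mem_insert_iff, Set.mem_singleton_iff] at ha hb ⊢
        rcases ha with rfl | rfl | rfl | rfl <;> rcases hb with rfl | rfl | rfl | rfl <;>
          simp only [one_mul, mul_one, mul_assoc, hxx, hrr, hc, hc', hxx', hrr'] <;> simp
      inv_mem' := by
        intro a ha
        simp only [Set.mem_insert_iff, Set.mem_singleton_iff] at ha ⊢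
        rcases ha with rfl | rfl | rfl | rfl <;>
          simp only [inv_one, mul_inv_rev, inv_of_orderOf_two hx, inv_of_orderOf_two hr, hc] <;>
          simp }
  have hmem : ∀ v, v ∈ V → v = 1 ∨ v = x ∨ v = r ∨ v = x * r := fun v hv => hv
  refine ⟨V, ⟨?_, ?_⟩, Or.inr (Or.inl rfl), Or.inr (Or.inr (Or.inl rfl)), hmem⟩
  · show Nat.card ({1, x, r, x * r} : Set X) = 4
    classical
    rw [Nat.card_coe_set_eq, Set.ncard_insert_of_notMem, Set.ncard_insert_of_notMem,
      Set.ncard_insert_of_notMem, Set.ncard_singleton]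
    · simp only [Set.mem_singleton_iff]
      intro e
      exact ne_one_of_orderOf_two hx (mul_eq_right.1 e.symm)
    · simp only [Set.mem_insert_iff, Set.mem_singleton_iff]
      rintro (e | e)
      · exact hxr e
      · exact ne_one_of_orderOf_two hr (mul_eq_left.1 e.symm)
    · simp only [Set.mem_insert_iff, Set.mem_singleton_iff]
      rintro (e | e | e)
      · exact ne_one_of_orderOf_two hx e.symm
      · exact ne_one_of_orderOf_two hr e.symm
      · exact hxr (by rw [eq_inv_of_mul_eq_one_left e.symm, inv_of_orderOf_two hr])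
  · intro v hv
    rcases hmem v hv with rfl | rfl | rfl | rfl
    · exact one_mul _
    · exact hxx
    · exact hrr
    · rw [mul_assoc, hc', hxx', hrr]

namespace Loc

variable [Finite X] (hL : Loc X)
include hL

/-- Every four-group is self-centralizing. -/
theorem centralizer_four {V : Subgroup X} (hV : Four V) {c : X}
    (hc : c ∈ centralizer (V : Set X)) : c ∈ V := by
  obtain ⟨x, hx, hx1⟩ := Signalizer.exists_ne_one_of_le_card (A := V) (by rw [hV.card]; norm_num)
  obtain ⟨r, hr, hr1, hxr⟩ := hV.exists_other hx hx1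
  obtain ⟨K, hK⟩ := hL.ctl x (hV.orderOf_eq hx hx1)
  rcases hK.cases_of_commute (hV.le_centralizer hx hr)
    (hK.not_mem_of_inv (hV.orderOf_eq hr hr1) hxr.symm)
    (mem_centralizer_iff.1 hc x hx).symm (mem_centralizer_iff.1 hc r hr).symm with rfl | rfl | rfl | rfl
  · exact one_mem V
  · exact hx
  · exact hr
  · exact V.mul_mem hx hr

/-- A four-group has no fixed points on subgroups of odd order. -/
theorem fix_eq_bot {V W : Subgroup X} (hV : Four V) (hW : Odd (Nat.card W)) :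
    W ⊓ centralizer (V : Set X) = ⊥ := by
  rw [eq_bot_iff]
  rintro a ⟨ha, hac⟩
  exact Subgroup.mem_bot.2 (eq_one_of_odd_of_sq (hW.of_dvd_nat (Subgroup.orderOf_dvd_natCard W ha))
    (hV.sq a (hL.centralizer_four hV hac)))

/-- No nontrivial odd element commutes with a four-group. -/
theorem eq_one_of_commute_four {V : Subgroup X} (hV : Four V) {x y a : X} (hx : x ∈ V) (hy : y ∈ V)
    (hx1 : x ≠ 1) (hy1 : y ≠ 1) (hxy : x ≠ y) (ho : Odd (orderOf a)) (hax : a * x = x * a)
    (hay : a * y = y * a) : a = 1 :=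
  eq_one_of_odd_of_sq ho
    (hV.sq a (hL.centralizer_four hV (hV.centralizer_pair hx hy hx1 hy1 hxy hax hay)))

/-- The other involutions of a four-group invert the odd elements of `C(x)`. -/
theorem inverts_four {V : Subgroup X} (hV : Four V) {x y a : X} (hx : x ∈ V) (hy : y ∈ V)
    (hx1 : x ≠ 1) (hy1 : y ≠ 1) (hxy : x ≠ y) (ho : Odd (orderOf a)) (hax : a * x = x * a) :
    y * a * y⁻¹ = a⁻¹ := by
  obtain ⟨K, hK⟩ := hL.ctl x (hV.orderOf_eq hx hx1)
  exact (hK.out y (hV.le_centralizer hx hy) (hK.not_mem_of_inv (hV.orderOf_eq hy hy1) hxy.symm)).2 a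
    (hK.mem_of_odd hax ho)

/-- Odd elements of the centralizer of an involution commute. -/
theorem odd_commute {x a b : X} (hx : orderOf x = 2) (hax : a * x = x * a) (hbx : b * x = x * b)
    (ha : Odd (orderOf a)) (hb : Odd (orderOf b)) : a * b = b * a := by
  obtain ⟨K, hK⟩ := hL.ctl x hx
  exact hK.comm a (hK.mem_of_odd hax ha) b (hK.mem_of_odd hbx hb)

/-- The three involutions of a four-group are cyclically permuted by its normalizer. -/
theorem exists_omega {V : Subgroup X} (hV : Four V) {x r : X} (hx : x ∈ V) (hr : r ∈ V)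
    (hx1 : x ≠ 1) (hr1 : r ≠ 1) (hxr : x ≠ r) :
    ∃ g : X, g ∈ normalizer (V : Set X) ∧ g * x * g⁻¹ = r := by
  classical
  have hxo := hV.orderOf_eq hx hx1
  have hro := hV.orderOf_eq hr hr1
  have hcxr : r * x = x * r := hV.comm hr hx
  have hnorm : ∀ {g : X}, (∀ v ∈ V, g * v * g⁻¹ ∈ V) → g ∈ normalizer (V : Set X) := by
    intro g hg
    exact (le_normalizer_iff (H := zpowers g)).2 (fun k hk v hv => by
      obtain ⟨i, rfl⟩ := mem_zpowers_iff.1 hk
      have hmap : V.map (MulAut.conj g).toMonoidHom = V :=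
        eq_of_le_of_card_ge (by rintro _ ⟨w, hw, rfl⟩; exact hg w hw)
          (by rw [card_map_of_injective (MulAut.conj g).injective])
      have hgN : g ∈ normalizer (V : Set X) :=
        (TwoFusion.map_conj_eq_self_iff_mem_normalizer V g).1 hmap
      exact (mem_normalizer_iff.1 (zpow_mem hgN i) v).1 hv) (mem_zpowers g)
  have hgen : ∀ {g : X}, g * x * g⁻¹ ∈ V → g * r * g⁻¹ ∈ V → g ∈ normalizer (V : Set X) := by
    intro g h1 h2
    refine hnorm fun v hv => ?_
    rcases hV.cases hx hr hx1 hr1 hxr hv with rfl | rfl | rfl | rfl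
    · simp
    · exact h1
    · exact h2
    · rw [show g * (x * r) * g⁻¹ = (g * x * g⁻¹) * (g * r * g⁻¹) by group]
      exact V.mul_mem h1 h2
  -- if involutions have square roots in their centralizers, combine two transpositions
  have caseA : (∀ y : X, orderOf y = 2 → ∀ K, GDC y K → ∃ ρ ∈ K, ρ * ρ = y) →
      ∃ g : X, g ∈ normalizer (V : Set X) ∧ g * x * g⁻¹ = r := by
    intro hs
    have hv : x * r ∈ V := V.mul_mem hx hr
    have hv1 : x * r ≠ 1 := fun e => hxr (by
      rw [eq_inv_of_mul_eq_one_left e, inv_of_orderOf_two hro])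
    have hvo := hV.orderOf_eq hv hv1
    obtain ⟨K, hK⟩ := hL.ctl _ hvo
    obtain ⟨ρ, hρK, hρ⟩ := hs _ hvo K hK
    have hxK : x ∉ K := hK.not_mem_of_inv hxo fun e => hr1 (mul_eq_left.1 e.symm)
    obtain ⟨-, h2⟩ := hK.out x (hV.le_centralizer hv hx) hxK
    have hρx : ρ * x * ρ⁻¹ = r := by
      have h3 : x * ρ⁻¹ = ρ * x := by
        have := h2 ρ⁻¹ (inv_mem hρK)
        rw [inv_inv, mul_inv_eq_iff_eq_mul] at this
        exact this
      calc ρ * x * ρ⁻¹ = ρ * (ρ * x) := by rw [mul_assoc, h3]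
        _ = x * r * x := by rw [← mul_assoc, hρ]
        _ = r := by rw [mul_assoc, hcxr, ← mul_assoc, sq_of_orderOf_two hxo, one_mul]
    have hρr : ρ * r * ρ⁻¹ ∈ V := by
      have h4 : ρ * (x * r) * ρ⁻¹ = x * r := by
        rw [hK.comm ρ hρK _ hK.mem, mul_inv_cancel_right]
      have h5 : ρ * r * ρ⁻¹ = (ρ * x * ρ⁻¹)⁻¹ * (ρ * (x * r) * ρ⁻¹) := by group
      rw [h5, hρx, h4]
      exact V.mul_mem (V.inv_mem hr) hv
    exact ⟨ρ, hgen (by rw [hρx]; exact hr) hρr, hρx⟩
  by_cases hs : ∀ y : X, orderOf y = 2 → ∀ K, GDC y K → ∃ ρ ∈ K, ρ * ρ = y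
  · exact caseA hs
  push Not at hs
  obtain ⟨y, hy, Ky, hKy, hno⟩ := hs
  have hnone : ∀ z : X, orderOf z = 2 → ∀ ρ : X, ρ * z = z * ρ → ρ * ρ ≠ z := by
    intro z hz ρ hρc hρ
    obtain ⟨g, hg⟩ := isConj_iff.1 (hL.one z y hz hy)
    have hc : g * ρ * g⁻¹ ∈ centralizer ({y} : Set X) := by
      rw [mem_centralizer_singleton_iff, ← hg]
      calc g * ρ * g⁻¹ * (g * z * g⁻¹) = g * (ρ * z) * g⁻¹ := by group
        _ = g * (z * ρ) * g⁻¹ := by rw [hρc]
        _ = _ := by group
    have hsq : (g * ρ * g⁻¹) * (g * ρ * g⁻¹) = y := by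
      rw [← hg, ← hρ]; group
    by_cases hm : g * ρ * g⁻¹ ∈ Ky
    · exact hno _ hm hsq
    · have h1 := (hKy.out _ hc hm).1
      rw [hsq] at h1
      exact ne_one_of_orderOf_two hy h1
  -- a conjugating element can be adjusted inside `C(r)`
  obtain ⟨h, hh⟩ := isConj_iff.1 (hL.one x r hxo hro)
  obtain ⟨K, hK⟩ := hL.ctl r hro
  have hxK : x ∉ K := hK.not_mem_of_inv hxo hxr
  have hxC : x ∈ centralizer ({r} : Set X) := hV.le_centralizer hr hx
  have hrh : h * r * h⁻¹ ∈ centralizer ({r} : Set X) := by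
    have h2 : h * r * h⁻¹ * (h * x * h⁻¹) = h * x * h⁻¹ * (h * r * h⁻¹) := by
      calc h * r * h⁻¹ * (h * x * h⁻¹) = h * (r * x) * h⁻¹ := by group
        _ = h * (x * r) * h⁻¹ := by rw [hcxr]
        _ = _ := by group
    rw [hh] at h2
    exact mem_centralizer_singleton_iff.2 h2
  have hrhK : h * r * h⁻¹ ∉ K := hK.not_mem_of_inv (by rw [orderOf_conj, hro]) fun e => hxr (by
    have e2 : h * x * h⁻¹ = h * r * h⁻¹ := hh.trans e.symm
    exact mul_left_cancel (mul_right_cancel e2))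
  set k' := h * r * h⁻¹ * x with hk'
  have hk'K : k' ∈ K := hK.mul_mem _ hrh x hxC hrhK hxK
  -- `k'` is a square in `K` up to `r`
  obtain ⟨ε, hε, k, hkK, hk⟩ : ∃ ε, (ε = 1 ∨ ε = r) ∧ ∃ k ∈ K, ε * (k * k) = k' := by
    have hsqroot : ∀ a ∈ K, Odd (orderOf a) → ∃ k ∈ K, k * k = a := by
      intro a ha ⟨j, hj⟩
      refine ⟨a ^ (j + 1), pow_mem ha _, ?_⟩
      rw [← pow_add, show j + 1 + (j + 1) = orderOf a + 1 by omega, pow_succ, pow_orderOf_eq_one,
        one_mul]
    rcases Nat.even_or_odd (orderOf k') with ⟨m, hm⟩ | ho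
    · have hpos := orderOf_pos k'
      have hm0 : k' ^ m ≠ 1 := fun e => by
        have := Nat.le_of_dvd (by omega) (orderOf_dvd_of_pow_eq_one e)
        omega
      have hmr : k' ^ m = r := (hK.unique _ (pow_mem hk'K m)
        (by rw [← pow_add, ← hm, pow_orderOf_eq_one])).resolve_left hm0
      have hmodd : Odd m := by
        by_contra he
        obtain ⟨i, rfl⟩ := Nat.not_odd_iff_even.1 he
        refine hnone r hro (k' ^ i) (hK.comm _ (pow_mem hk'K i) r hK.mem) ?_
        rw [← pow_add]; exact hmr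
      have hrk : (r * k') ^ m = 1 := by
        rw [(show Commute r k' from hK.comm r hK.mem k' hk'K).mul_pow, hmr]
        obtain ⟨i, rfl⟩ := hmodd
        rw [pow_succ, pow_mul, pow_two, sq_of_orderOf_two hro, one_pow, one_mul,
          sq_of_orderOf_two hro]
      obtain ⟨k, hk, hkk⟩ := hsqroot (r * k') (K.mul_mem hK.mem hk'K)
        (hmodd.of_dvd_nat (orderOf_dvd_of_pow_eq_one hrk))
      exact ⟨r, Or.inr rfl, k, hk, by rw [hkk, ← mul_assoc, sq_of_orderOf_two hro, one_mul]⟩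
    · obtain ⟨k, hk, hkk⟩ := hsqroot k' hk'K ho
      exact ⟨1, Or.inl rfl, k, hk, by rw [hkk, one_mul]⟩
  obtain ⟨-, hinv⟩ := hK.out x hxC hxK
  have hxk : x * k = k⁻¹ * x := mul_inv_eq_iff_eq_mul.1 (hinv k hkK)
  have hεK : ε ∈ K := by
    rcases hε with rfl | rfl
    · exact one_mem K
    · exact hK.mem
  have hg1 : k⁻¹ * h * x * (k⁻¹ * h)⁻¹ = r := by
    rw [show k⁻¹ * h * x * (k⁻¹ * h)⁻¹ = k⁻¹ * (h * x * h⁻¹) * k by group, hh,
      hK.comm k⁻¹ (inv_mem hkK) r hK.mem, inv_mul_cancel_right]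
  have hg2 : k⁻¹ * h * r * (k⁻¹ * h)⁻¹ = ε * x := by
    have e1 : h * r * h⁻¹ = ε * (k * k) * x := by
      rw [hk, hk', mul_assoc (h * r * h⁻¹) x x, sq_of_orderOf_two hxo, mul_one]
    calc k⁻¹ * h * r * (k⁻¹ * h)⁻¹ = k⁻¹ * (h * r * h⁻¹) * k := by group
      _ = (k⁻¹ * ε) * (k * k) * (x * k) := by rw [e1]; group
      _ = (ε * k⁻¹) * (k * k) * (k⁻¹ * x) := by rw [hxk, hK.comm k⁻¹ (inv_mem hkK) ε hεK]
      _ = ε * x := by group
  refine ⟨k⁻¹ * h, hgen (by rw [hg1]; exact hr) ?_, hg1⟩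
  rw [hg2]
  rcases hε with rfl | rfl
  · rw [one_mul]; exact hx
  · exact V.mul_mem hr hx

/-- The centralizer of a nontrivial odd element of `C(x)`: its elements of odd order form a normal
subgroup of odd order, modulo which it is abelian. -/
theorem exists_coreC {x a : X} (hx : orderOf x = 2) (hax : a * x = x * a) (ha : Odd (orderOf a))
    (ha1 : a ≠ 1) :
    ∃ W : Subgroup X, Odd (Nat.card W) ∧
      (∀ b, b ∈ W ↔ b * a = a * b ∧ Odd (orderOf b)) ∧
      (∀ c : X, c * a = a * c → c * x * c⁻¹ * x⁻¹ ∈ W) := by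
  classical
  haveI : Fact (Nat.Prime 2) := ⟨Nat.prime_two⟩
  obtain ⟨K, hK⟩ := hL.ctl x hx
  have haK : a ∈ K := hK.mem_of_odd hax ha
  set Ca := centralizer ({a} : Set X) with hCa
  have hxCa : x ∈ Ca := mem_centralizer_singleton_iff.2 hax.symm
  have hCK : ∀ c ∈ Ca, c * x = x * c → c ∈ K := by
    intro c hc hcx
    by_contra hcK
    have h1 := (hK.out c (mem_centralizer_singleton_iff.2 hcx) hcK).2 a haK
    rw [mem_centralizer_singleton_iff.1 hc, mul_inv_cancel_right, eq_inv_iff_mul_eq_one] at h1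
    exact ha1 (eq_one_of_odd_of_sq ha h1)
  obtain ⟨T, hT⟩ := (IsPGroup.of_card (p := 2) (n := 1)
    (by rw [Nat.card_zpowers, Subgroup.orderOf_mk, hx, pow_one] :
      Nat.card (zpowers (⟨x, hxCa⟩ : Ca)) = 2 ^ 1)).exists_le_sylow
  have hxT : (⟨x, hxCa⟩ : Ca) ∈ (T : Subgroup Ca) := hT (mem_zpowers _)
  -- `x` is central in `T`
  have hTK : ∀ c : Ca, c ∈ (T : Subgroup Ca) → (c : X) ∈ K := by
    haveI : Nontrivial (T : Subgroup Ca) := ⟨⟨1, ⟨_, hxT⟩, fun e =>
      ne_one_of_orderOf_two hx (congrArg (fun q : (T : Subgroup Ca) => ((q : Ca) : X)) e.symm)⟩⟩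
    haveI := T.2.center_nontrivial
    obtain ⟨z, hz⟩ := exists_prime_orderOf_dvd_card' (G := center (T : Subgroup Ca)) 2 (by
      obtain ⟨j, hj⟩ := (T.2.to_subgroup (center (T : Subgroup Ca))).exists_card_eq
      rcases j with - | j
      · exact absurd (pow_zero 2 ▸ hj) (Finite.one_lt_card (α := center (T : Subgroup Ca))).ne'
      · rw [hj]; exact dvd_pow_self 2 (Nat.succ_ne_zero j))
    have hzo : orderOf ((((z : (T : Subgroup Ca))) : Ca) : X) = 2 := by
      rw [Subgroup.orderOf_coe, Subgroup.orderOf_coe, Subgroup.orderOf_coe]; exact hz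
    have hzc := mem_center_iff.1 z.2
    have hzK := hCK _ (z : (T : Subgroup Ca)).1.2
      (congrArg (fun q : (T : Subgroup Ca) => ((q : Ca) : X)) (hzc ⟨_, hxT⟩)).symm
    have hzx := (hK.unique _ hzK (sq_of_orderOf_two hzo)).resolve_left (ne_one_of_orderOf_two hzo)
    intro c hc
    refine hCK _ c.2 ?_
    have h2 : (c : X) * ((((z : (T : Subgroup Ca))) : Ca) : X)
        = ((((z : (T : Subgroup Ca))) : Ca) : X) * c :=
      congrArg (fun q : (T : Subgroup Ca) => ((q : Ca) : X)) (hzc ⟨c, hc⟩)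
    rwa [hzx] at h2
  have hTcomm : IsMulCommutative (T : Subgroup Ca) :=
    ⟨⟨fun u w => Subtype.ext (Subtype.ext (hK.comm _ (hTK _ u.2) _ (hTK _ w.2)))⟩⟩
  -- the Sylow subgroup is cyclic, so there is a normal complement
  haveI hTcyc : IsCyclic (T : Subgroup Ca) := by
    have h0 := Invol.isCyclic_of_unique_involution (P := (T : Subgroup Ca)) T.2 ⊤
      ⟨⟨fun u w => Subtype.ext (hTcomm.is_comm.comm _ _)⟩⟩ ⟨_, hxT⟩ (fun q _ hq => by
        have hqo : orderOf (((q : Ca)) : X) = 2 := by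
          rw [Subgroup.orderOf_coe, Subgroup.orderOf_coe]; exact hq
        exact Subtype.ext (Subtype.ext ((hK.unique _ (hTK _ q.2) (sq_of_orderOf_two hqo)).resolve_left
          (ne_one_of_orderOf_two hqo))))
    exact (Subgroup.topEquiv.isCyclic).1 h0
  have hdvd : 2 ∣ Nat.card Ca := hx ▸ Subgroup.orderOf_dvd_natCard Ca hxCa
  obtain ⟨R, N, hN, hc⟩ := Transfer.hasNormalPComplement_of_normalizer_le_centralizer T
    (IsCyclic.normalizer_le_centralizer (p := 2)
      ((Nat.minFac_eq_two_iff _).mpr hdvd) (P := T) inferInstance)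
  obtain ⟨i, hi⟩ := IsPGroup.iff_card.1 R.2
  have hidx : N.index = 2 ^ i := by rw [← hi]; exact hc.symm.index_eq_card
  have hNodd : Odd (Nat.card N) := by
    rw [← Nat.not_even_iff_odd, even_iff_two_dvd]
    intro h2
    have h3 := R.not_dvd_index
    rw [show (R : Subgroup Ca).index = Nat.card N from hc.index_eq_card] at h3
    exact h3 h2
  have hmemN : ∀ b : Ca, b ∈ N ↔ Odd (orderOf (b : X)) := by
    intro b
    rw [Subgroup.orderOf_coe]
    refine ⟨fun hb => hNodd.of_dvd_nat (Subgroup.orderOf_dvd_natCard N hb), fun hb => ?_⟩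
    rw [← QuotientGroup.eq_one_iff, ← orderOf_eq_one_iff]
    have h1 : orderOf (b : Ca ⧸ N) ∣ 2 ^ i := hidx ▸ orderOf_dvd_natCard (b : Ca ⧸ N)
    exact Nat.eq_one_of_dvd_coprimes ((Nat.coprime_two_left.2 hb).pow_left i) h1
      (orderOf_map_dvd (QuotientGroup.mk' N) b)
  refine ⟨N.map Ca.subtype, by rwa [card_map_of_injective Ca.subtype_injective], ?_, ?_⟩
  · intro b
    constructor
    · rintro ⟨b', hb', rfl⟩
      exact ⟨mem_centralizer_singleton_iff.1 b'.2, (hmemN b').1 hb'⟩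
    · rintro ⟨hb, hbo⟩
      exact ⟨⟨b, mem_centralizer_singleton_iff.2 hb⟩, (hmemN _).2 hbo, rfl⟩
  · intro c hcc
    refine ⟨⟨c, mem_centralizer_singleton_iff.2 hcc⟩ * ⟨x, hxCa⟩ *
      ⟨c, mem_centralizer_singleton_iff.2 hcc⟩⁻¹ * ⟨x, hxCa⟩⁻¹, ?_, rfl⟩
    obtain ⟨g, hg⟩ := MulAction.exists_smul_eq Ca R T
    have hRcomm : ∀ u ∈ (R : Subgroup Ca), ∀ w ∈ (R : Subgroup Ca), u * w = w * u := by
      intro u hu w hw
      have h1 : ∀ u ∈ (R : Subgroup Ca), g * u * g⁻¹ ∈ (T : Subgroup Ca) := fun u hu => by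
        rw [← hg, Sylow.coe_subgroup_smul]; exact ⟨u, hu, rfl⟩
      have h2 : (g * u * g⁻¹) * (g * w * g⁻¹) = (g * w * g⁻¹) * (g * u * g⁻¹) := congrArg
        Subtype.val (hTcomm.is_comm.comm (⟨_, h1 u hu⟩ : (T : Subgroup Ca)) ⟨_, h1 w hw⟩)
      refine mul_left_cancel (a := g) (mul_right_cancel (b := g⁻¹) ?_)
      calc g * (u * w) * g⁻¹ = g * u * g⁻¹ * (g * w * g⁻¹) := by group
        _ = g * w * g⁻¹ * (g * u * g⁻¹) := h2
        _ = _ := by group
    have hrep : ∀ b : Ca, ∃ ρ ∈ (R : Subgroup Ca), (b : Ca ⧸ N) = (ρ : Ca ⧸ N) := by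
      intro b
      obtain ⟨⟨n, ρ⟩, hb⟩ := hc.existsUnique b |>.exists
      exact ⟨ρ, ρ.2, by rw [← hb, QuotientGroup.mk_mul, (QuotientGroup.eq_one_iff _).2 n.2, one_mul]⟩
    set c' : Ca := ⟨c, mem_centralizer_singleton_iff.2 hcc⟩
    set x' : Ca := ⟨x, hxCa⟩
    obtain ⟨u, hu, hu'⟩ := hrep c'
    obtain ⟨w, hw, hw'⟩ := hrep x'
    show c' * x' * c'⁻¹ * x'⁻¹ ∈ N
    rw [← QuotientGroup.eq_one_iff, QuotientGroup.mk_mul, QuotientGroup.mk_mul, QuotientGroup.mk_mul,
      QuotientGroup.mk_inv, QuotientGroup.mk_inv, hu', hw', ← QuotientGroup.mk_mul, hRcomm u hu w hw,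
      QuotientGroup.mk_mul]
    group

end Loc

end Cfsg.Agent.GenDih
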