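import Cfsg.Agent.GenDih.RTwoA
import Cfsg.Agent.S0215

/-!
# Reduction for S3322, `|Ω| ≥ 4`: `A₂` elementary abelian
-/

set_option autoImplicit false
set_option linter.style.haveILetI false
set_option linter.unusedSectionVars false

namespace Cfsg.Agent.GenDih

open Subgroup

universe u

variable {G : Type u} [Group G] [Finite G] {H A : Subgroup G}

namespace DG

theorem card_omega_pow (h : DG H A) : ∃ k, Nat.card h.omega = 2 ^ k := by
  haveI : Fact (Nat.Prime 2) := ⟨Nat.prime_two⟩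
  exact IsPGroup.iff_card.1 (fun x => ⟨1, Subtype.ext (by rw [pow_one, pow_two]; exact x.2.2)⟩ :
    IsPGroup 2 h.omega)

theorem concl_of_odd_squares (h : DG H A) (hk : 4 ≤ Nat.card h.omega)
    (hodd : Odd (Nat.card h.squares)) : Concl G := by
  classical
  haveI : Fact (Nat.Prime 2) := ⟨Nat.prime_two⟩
  obtain ⟨i, hi, hiA, hfix⟩ := h.exists_fixed_coset hk
  have hio := h.orderOf_out hi hiA
  obtain ⟨S, hSH, hiS, hΩS⟩ := h.exists_sylow hk
    (IsPGroup.of_card (n := 1) (by rw [Nat.card_zpowers, hio, pow_one]) : IsPGroup 2 (zpowers i))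
    (zpowers_le.2 hi)
  have hiS' : i ∈ (S : Subgroup G) := hiS (mem_zpowers i)
  -- 2-elements among the squares are trivial
  have h2sq : ∀ x ∈ (S : Subgroup G), x ∈ h.squares → x = 1 := by
    intro x hxS hx
    obtain ⟨j, hj⟩ := Element.orderOf_eq_pow_of_mem_isPGroup S.isPGroup' hxS
    have h1 := hodd.of_dvd_nat (Subgroup.orderOf_dvd_natCard _ hx)
    rw [hj] at h1
    rcases j with - | j
    · rwa [pow_zero, orderOf_eq_one_iff] at hj
    · exact absurd h1 (Nat.not_odd_iff_even.2 (even_iff_two_dvd.2 (dvd_pow_self 2 j.succ_ne_zero)))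
  -- `i` is isolated in `S`
  obtain ⟨N, hNn, hNodd, hN⟩ := Cfsg.Agent.S0215.result S i hio hiS' (fun g hg => by
    have hyo : orderOf (g * i * g⁻¹) = 2 := by rw [GenDih.orderOf_conj, hio]
    by_cases hyA : g * i * g⁻¹ ∈ A
    · exfalso
      have hy := h.mem_omega_of_inv (hSH hg) hyA hyo
      exact h.not_isConj_out hk hy (ne_one_of_orderOf_two hyo) hi hiA
        (isConj_iff.2 ⟨g⁻¹, by group⟩)
    obtain ⟨n, hn, hny⟩ := h.fusion_out hk hi hiA (hSH hg) hyA (isConj_iff.2 ⟨g, rfl⟩)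
    obtain ⟨x, hx, hnx⟩ := hfix n hn
    rw [hny] at hnx
    have hxS : x ∈ (S : Subgroup G) := by
      have h1 := (S : Subgroup G).mul_mem ((S : Subgroup G).inv_mem hiS') hg
      rw [hnx, inv_mul_cancel_left] at h1
      exact h1
    rw [hnx, h2sq x hxS hx, mul_one])
  haveI := hNn
  -- the squares lie in `N`
  have hsqN : h.squares ≤ N := by
    intro x hx
    obtain ⟨a, ha, rfl⟩ := h.mem_squares.1 hx
    have h1 := hN a⁻¹
    rw [h.inv i hi hiA a⁻¹ (inv_mem ha)] at h1
    simpa using h1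
  -- `M = N ⟨i⟩`
  set M := N ⊔ zpowers i with hM
  have hMcases : ∀ m ∈ M, m ∈ N ∨ m * i ∈ N := by
    intro m hm
    obtain ⟨z, hz, k, hk', rfl⟩ := Subgroup.mem_sup_of_normal_left.1 hm
    obtain ⟨j, rfl⟩ := mem_zpowers_iff.1 hk'
    rcases Int.emod_two_eq_zero_or_one j with e | e
    · refine Or.inl ?_
      rw [← zpow_mod_orderOf, hio, show ((2 : ℕ) : ℤ) = 2 from rfl, e, zpow_zero, mul_one]
      exact hz
    · refine Or.inr ?_
      rw [← zpow_mod_orderOf, hio, show ((2 : ℕ) : ℤ) = 2 from rfl, e, zpow_one, mul_assoc,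
        sq_of_orderOf_two hio, mul_one]
      exact hz
  have hiN : i ∉ N := fun hi' => by
    have h1 := hNodd.of_dvd_nat (Subgroup.orderOf_dvd_natCard N hi')
    rw [hio] at h1
    exact absurd h1 (by decide)
  haveI hMn : M.Normal := by
    refine ⟨fun m hm g => ?_⟩
    have hgi : g * i * g⁻¹ ∈ M := by
      have h1 : g * i * g⁻¹ = (i * g * i⁻¹ * g⁻¹)⁻¹ * i := by group
      rw [h1]
      exact mul_mem (mem_sup_left (inv_mem (hN g))) (mem_sup_right (mem_zpowers i))
    rcases hMcases m hm with hmN | hmi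
    · exact mem_sup_left (hNn.conj_mem m hmN g)
    · rw [show g * m * g⁻¹ = g * (m * i) * g⁻¹ * (g * i * g⁻¹)⁻¹ by group]
      exact mul_mem (mem_sup_left (hNn.conj_mem _ hmi g)) (inv_mem hgi)
  have hMcard : Nat.card M = 2 * Nat.card N := by
    have hidx : (N.subgroupOf M).index = 2 := by
      rw [Subgroup.index_eq_two_iff]
      refine ⟨⟨i, mem_sup_right (mem_zpowers i)⟩, fun b => ?_⟩
      rcases hMcases b b.2 with hbN | hbi
      · refine Or.inr ⟨hbN, fun hh => hiN ?_⟩
        have h1 : (b : G) * i ∈ N := mem_subgroupOf.1 hh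
        simpa using N.mul_mem (N.inv_mem hbN) h1
      · refine Or.inl ⟨hbi, fun hh => hiN ?_⟩
        simpa using N.mul_mem (N.inv_mem (mem_subgroupOf.1 hh)) hbi
    rw [← Subgroup.card_mul_index (N.subgroupOf M), hidx,
      Nat.card_congr (subgroupOfEquivOfLe (le_sup_left : N ≤ M)).toEquiv, mul_comm]
  have h2inM : ∀ x ∈ M, x * x = 1 → x ≠ 1 → x ∉ N := by
    intro x _ hx hx1 hxN
    exact hx1 (eq_one_of_odd_of_sq (hNodd.of_dvd_nat (Subgroup.orderOf_dvd_natCard N hxN)) hx)
  -- `Ω` meets `M` trivially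
  have hΩM : ∀ w ∈ h.omega, w ∈ M → w = 1 := by
    intro w hw hwM
    by_contra hw1
    rcases hMcases w hwM with hwN | hwi
    · exact h2inM w hwM hw.2 hw1 hwN
    · refine hiA ?_
      have h1 : (w * i) * (w * i) = 1 := by
        rw [show w * i * (w * i) = w * (i * w) * i by group, h.omega_central hw hi,
          show w * (w * i) * i = (w * w) * (i * i) by group, hw.2, sq_of_orderOf_two hio, mul_one]
      have h3 : w * i = 1 :=
        eq_one_of_odd_of_sq (hNodd.of_dvd_nat (Subgroup.orderOf_dvd_natCard N hwi)) h1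
      rw [eq_inv_of_mul_eq_one_right h3]
      exact inv_mem hw.1
  -- `H ≤ Ω M`
  have hHΩ : H ≤ h.omega ⊔ M := by
    have hAle : A ≤ h.omega ⊔ M := by
      intro a ha
      -- compare orders
      have hΩsq : h.omega ⊓ h.squares = ⊥ := by
        rw [eq_bot_iff]
        rintro x ⟨hx1, hx2⟩
        exact Subgroup.mem_bot.2 (eq_one_of_odd_of_sq
          (hodd.of_dvd_nat (Subgroup.orderOf_dvd_natCard _ hx2)) hx1.2)
      let f : h.omega × h.squares → A := fun p =>
        ⟨(p.1 : G) * p.2, mul_mem p.1.2.1 (h.squares_le p.2.2)⟩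
      have hf : Function.Injective f := by
        rintro ⟨⟨a1, ha1⟩, ⟨b1, hb1⟩⟩ ⟨⟨a2, ha2⟩, ⟨b2, hb2⟩⟩ he
        have he' : a1 * b1 = a2 * b2 := congrArg Subtype.val he
        have h3 : a2⁻¹ * a1 ∈ h.omega ⊓ h.squares := by
          refine ⟨h.omega.mul_mem (h.omega.inv_mem ha2) ha1, ?_⟩
          have : a2⁻¹ * a1 = b2 * b1⁻¹ := by
            rw [eq_mul_inv_iff_mul_eq, mul_assoc, he', inv_mul_cancel_left]
          rw [this]; exact h.squares.mul_mem hb2 (h.squares.inv_mem hb1)
        rw [hΩsq, Subgroup.mem_bot, inv_mul_eq_one] at h3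
        subst h3
        have := mul_left_cancel he'
        subst this
        rfl
      have hsurj := ((Nat.bijective_iff_injective_and_card f).2
        ⟨hf, by rw [Nat.card_prod, h.card_A]⟩).surjective
      obtain ⟨⟨w, s⟩, hws⟩ := hsurj ⟨a, ha⟩
      have : (w : G) * s = a := congrArg Subtype.val hws
      rw [← this]
      exact mul_mem (mem_sup_left w.2) (mem_sup_right (mem_sup_left (hsqN s.2)))
    intro x hx
    by_cases hxA : x ∈ A
    · exact hAle hxA
    · have h1 := h.mul_out i hi hiA x hx hxA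
      rw [show x = i * (i * x) by rw [← mul_assoc, sq_of_orderOf_two hio, one_mul]]
      exact mul_mem (mem_sup_right (mem_sup_right (mem_zpowers i))) (hAle h1)
  -- the quotient
  set π := QuotientGroup.mk' M with hπ
  set Hb := H.map π with hHb
  have hHb_mem : ∀ y ∈ Hb, ∃ w ∈ h.omega, π w = y := by
    rintro _ ⟨x, hx, rfl⟩
    obtain ⟨w, hw, m, hm, rfl⟩ := Subgroup.mem_sup_of_normal_right.1 (hHΩ hx)
    exact ⟨w, hw, by rw [map_mul, hπ, QuotientGroup.mk'_apply (N := M) m,
      (QuotientGroup.eq_one_iff m).2 hm, mul_one]⟩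
  have hHbsq : ∀ y ∈ Hb, y ^ 2 = 1 := by
    intro y hy
    obtain ⟨w, hw, rfl⟩ := hHb_mem y hy
    rw [← map_pow, pow_two, hw.2, map_one]
  have hHbcomm : ∀ a ∈ Hb, ∀ b ∈ Hb, a * b = b * a := by
    intro a ha b hb
    obtain ⟨u, hu, rfl⟩ := hHb_mem a ha
    obtain ⟨v, hv, rfl⟩ := hHb_mem b hb
    rw [← map_mul, ← map_mul, h.comm u hu.1 v hv.1]
  -- centralizers of images of `Ω#`
  have hcentf : ∀ f ∈ h.omega, f ≠ 1 → centralizer ({π f} : Set (G ⧸ M)) ≤ Hb := by
    intro f hf hf1 y hy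
    obtain ⟨g, rfl⟩ := QuotientGroup.mk'_surjective M y
    have hgf : π (g * f * g⁻¹) = π f := by
      rw [map_mul, map_mul, map_inv, mem_centralizer_singleton_iff.1 hy, mul_inv_cancel_right]
    set f' := g * f * g⁻¹ with hf'
    have hf'o : orderOf f' = 2 := by
      rw [hf', GenDih.orderOf_conj]; exact orderOf_eq_prime (by rw [pow_two]; exact hf.2) hf1
    set L := M ⊔ zpowers f with hL
    have hf'L : f' ∈ L := by
      have h1 : f⁻¹ * f' ∈ M := QuotientGroup.eq.1 (hgf.symm : π f = π f')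
      rw [show f' = f * (f⁻¹ * f') by group]
      exact mul_mem (mem_sup_right (mem_zpowers f)) (mem_sup_left h1)
    -- the Sylow subgroup `{1, i, f, i f}` of `L`
    have hfo : orderOf f = 2 := orderOf_eq_prime (by rw [pow_two]; exact hf.2) hf1
    have hif : i ≠ f := fun e => hiA (e ▸ hf.1)
    obtain ⟨V, hV4, hiV, hfV, hVc⟩ := exists_four hio hfo hif (h.omega_central hf hi).symm
    have hVL : V ≤ L := by
      intro v hv
      rcases hVc v hv with rfl | rfl | rfl | rfl
      · exact one_mem _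
      · exact mem_sup_left (mem_sup_right (mem_zpowers _))
      · exact mem_sup_right (mem_zpowers _)
      · exact mul_mem (mem_sup_left (mem_sup_right (mem_zpowers _))) (mem_sup_right (mem_zpowers _))
    have hLcard : Nat.card L ∣ 4 * Nat.card N := by
      have h1 := PSolv.card_sup_dvd_of_normal (zpowers f) M
      rw [sup_comm, ← hL, Nat.card_zpowers, hfo, hMcard] at h1
      exact h1.trans (dvd_of_eq (by ring))
    have hVp : IsPGroup 2 V := IsPGroup.of_card (n := 2) (by rw [hV4.card]; norm_num)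
    obtain ⟨P, hP⟩ := (hVp.comap_subtype (K := L)).exists_le_sylow
    have hPV : (P : Subgroup L).map L.subtype = V := by
      symm
      refine eq_of_le_of_card_ge (fun x hx => ⟨⟨x, hVL hx⟩, hP (mem_subgroupOf.2 hx), rfl⟩) ?_
      rw [card_map_of_injective L.subtype_injective, hV4.card]
      obtain ⟨j, hj⟩ := IsPGroup.iff_card.1 P.2
      have hdvd : 2 ^ j ∣ 4 * Nat.card N := hj ▸ (Subgroup.card_subgroup_dvd_card _).trans hLcard
      have h4 : 2 ^ j ∣ 4 := ((Nat.coprime_two_left.2 hNodd).pow_left j).dvd_of_dvd_mul_right hdvd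
      rw [hj]; exact Nat.le_of_dvd (by norm_num) h4
    obtain ⟨T, hT⟩ := ((IsPGroup.of_card (n := 1) (by rw [Nat.card_zpowers, hf'o, pow_one]) :
      IsPGroup 2 (zpowers f')).comap_subtype (K := L)).exists_le_sylow
    obtain ⟨c, hc⟩ := MulAction.exists_smul_eq L T P
    have hcf : (c : G) * f' * (c : G)⁻¹ ∈ V := by
      rw [← hPV]
      refine ⟨c * ⟨f', hf'L⟩ * c⁻¹, ?_, rfl⟩
      rw [← hc, Sylow.coe_subgroup_smul]
      exact ⟨⟨f', hf'L⟩, hT (mem_subgroupOf.2 (mem_zpowers f')), rfl⟩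
    have hconj : IsConj f ((c : G) * f' * (c : G)⁻¹) :=
      (isConj_iff.2 ⟨g, rfl⟩ : IsConj f f').trans (isConj_iff.2 ⟨c, rfl⟩)
    have hcfeq : (c : G) * f' * (c : G)⁻¹ = f := by
      rcases hVc _ hcf with e | e | e | e
      · exact absurd (conj_eq_one_iff.1 e) (ne_one_of_orderOf_two hf'o)
      · exact absurd (e ▸ hconj) (h.not_isConj_out hk hf hf1 hi hiA)
      · exact e
      · exact absurd (e ▸ hconj) (h.not_isConj_out hk hf hf1 (mul_mem hi (h.omega_le_H hf))
          fun hA => hiA (by simpa using A.mul_mem hA (A.inv_mem hf.1)))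
    have hcg : (c : G) * g ∈ H := by
      rw [← h.cent_omega hf hf1, mem_centralizer_singleton_iff]
      have h1 : (c : G) * g * f * ((c : G) * g)⁻¹ = f := by
        rw [show (c : G) * g * f * ((c : G) * g)⁻¹ = (c : G) * (g * f * g⁻¹) * (c : G)⁻¹ by group]
        exact hcfeq
      exact mul_inv_eq_iff_eq_mul.1 h1
    have hcπ : π (c : G) ∈ Hb := by
      obtain ⟨m, hm, z, hz, hmz⟩ := Subgroup.mem_sup_of_normal_left.1 c.2
      rw [← hmz, map_mul, hπ, QuotientGroup.mk'_apply (N := M) m,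
        (QuotientGroup.eq_one_iff m).2 hm, one_mul]
      exact mem_map_of_mem _ (zpowers_le.2 (h.omega_le_H hf) hz)
    have h2 : π g = (π (c : G))⁻¹ * π ((c : G) * g) := by rw [map_mul, inv_mul_cancel_left]
    show π g ∈ Hb
    rw [h2]
    exact mul_mem (inv_mem hcπ) (mem_map_of_mem _ hcg)
  -- the Sylow subgroup of the quotient
  set Sb := S.mapSurjective (QuotientGroup.mk'_surjective M) with hSb
  have hSb_eq : (Sb : Subgroup (G ⧸ M)) = h.omega.map π := by
    show (S : Subgroup G).map π = h.omega.map π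
    refine le_antisymm ?_ (map_mono hΩS)
    rintro _ ⟨x, hx, rfl⟩
    obtain ⟨w, hw, he⟩ := hHb_mem (π x) (mem_map_of_mem _ (hSH hx))
    exact ⟨w, hw, he⟩
  have hSb_card : Nat.card (Sb : Subgroup (G ⧸ M)) = Nat.card h.omega := by
    rw [hSb_eq]
    refine (Nat.card_congr (Equiv.ofBijective
      (fun w : h.omega => (⟨π w, mem_map_of_mem π w.2⟩ : h.omega.map π)) ⟨?_, ?_⟩)).symm
    · intro a b hab
      have h1 : (a : G)⁻¹ * b ∈ M := QuotientGroup.eq.1 (congrArg Subtype.val hab)
      exact Subtype.ext (inv_mul_eq_one.1 (hΩM _ (mul_mem (inv_mem a.2) b.2) h1))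
    · rintro ⟨_, w, hw, rfl⟩; exact ⟨⟨w, hw⟩, rfl⟩
  have hSbHb : (Sb : Subgroup (G ⧸ M)) ≤ Hb := hSb_eq ▸ map_mono h.omega_le_H
  have hnc : ¬ IsCyclic (Sb : Subgroup (G ⧸ M)) := by
    intro hcy
    haveI := hcy
    haveI : Fintype (Sb : Subgroup (G ⧸ M)) := Fintype.ofFinite _
    have h3 := IsCyclic.card_pow_eq_one_le (α := (Sb : Subgroup (G ⧸ M))) (show 0 < 2 by norm_num)
    rw [Finset.filter_true_of_mem (fun x _ => Subtype.ext (by
      rw [Subgroup.coe_pow]; exact hHbsq _ (hSbHb x.2))), Finset.card_univ,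
      ← Nat.card_eq_fintype_card, hSb_card] at h3
    omega
  have hnn : ¬ (Sb : Subgroup (G ⧸ M)).Normal := by
    intro hn
    haveI := hn
    have hQ : Group.IsSolvable (G ⧸ M) := by
      refine isSolvable_of_normal_odd_index (Sb : Subgroup (G ⧸ M)) ?_
        (odd_index_of_sylow_le Sb le_rfl)
      exact Group.isSolvable_of_comm fun a b =>
        Subtype.ext (hHbcomm _ (hSbHb a.2) _ (hSbHb b.2))
    have hMs : Group.IsSolvable M := by
      haveI : Group.IsSolvable N := Cfsg.Agent.S0205.result hNodd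
      haveI : Group.IsSolvable (M ⧸ N.subgroupOf M) := by
        refine Group.isSolvable_of_comm fun a b => ?_
        have hc2 : Nat.card (M ⧸ N.subgroupOf M) = 2 := by
          rw [← Subgroup.index_eq_card]
          have h1 := Subgroup.card_mul_index (N.subgroupOf M)
          rw [Nat.card_congr (subgroupOfEquivOfLe (le_sup_left : N ≤ M)).toEquiv, hMcard,
            mul_comm 2] at h1
          exact Nat.eq_of_mul_eq_mul_left Nat.card_pos h1
        haveI : IsCyclic (M ⧸ N.subgroupOf M) := isCyclic_of_prime_card (p := 2) hc2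
        exact mul_comm' a b
      haveI : Group.IsSolvable (N.subgroupOf M) :=
        Group.isSolvable_of_isSolvable_injective
          (f := (subgroupOfEquivOfLe (le_sup_left : N ≤ M)).toMonoidHom)
          (subgroupOfEquivOfLe (le_sup_left : N ≤ M)).injective
      exact Group.isSolvable_of_ker_le_range (N.subgroupOf M).subtype
        (QuotientGroup.mk' (N.subgroupOf M))
        (by rw [QuotientGroup.ker_mk', Subgroup.range_subtype])
    exact h.nsolv (Group.isSolvable_of_ker_le_range M.subtype (QuotientGroup.mk' M)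
      (by rw [QuotientGroup.ker_mk', Subgroup.range_subtype]))
  obtain ⟨F, i1, i2, hcard, ⟨e⟩⟩ := Cfsg.Agent.S1230.result Sb hnc hnn (by
    intro t ht
    obtain ⟨g, hg⟩ := TwoFusion.exists_conj_le_sylow Sb
      (IsPGroup.of_card (n := 1) (by rw [Nat.card_zpowers, ht, pow_one]) : IsPGroup 2 (zpowers t))
    have hgt := hg t (mem_zpowers t)
    rw [hSb_eq] at hgt
    obtain ⟨f, hf, hfe⟩ := hgt
    have hf1 : f ≠ 1 := by
      rintro rfl
      rw [map_one] at hfe
      exact ne_one_of_orderOf_two ht (conj_eq_one_iff.1 hfe.symm)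
    have hmem : ∀ c ∈ centralizer ({t} : Set (G ⧸ M)), g * c * g⁻¹ ∈ Hb := by
      intro c hc
      refine hcentf f hf hf1 (mem_centralizer_singleton_iff.2 ?_)
      rw [show (π f : G ⧸ M) = g * t * g⁻¹ from hfe]
      calc g * c * g⁻¹ * (g * t * g⁻¹) = g * (c * t) * g⁻¹ := by group
        _ = g * (t * c) * g⁻¹ := by rw [mem_centralizer_singleton_iff.1 hc]
        _ = _ := by group
    refine ⟨⟨⟨fun a b => Subtype.ext (mul_left_cancel (a := g) (mul_right_cancel (b := g⁻¹) ?_))⟩⟩,
      fun c hc => ?_⟩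
    · calc g * ((a : G ⧸ M) * b) * g⁻¹ = g * a * g⁻¹ * (g * b * g⁻¹) := by group
        _ = g * b * g⁻¹ * (g * a * g⁻¹) := hHbcomm _ (hmem a a.2) _ (hmem b b.2)
        _ = g * ((b : G ⧸ M) * a) * g⁻¹ := by group
        _ = _ := rfl
    · have h5 := hHbsq _ (hmem c hc)
      rw [pow_two] at h5 ⊢
      calc c * c = g⁻¹ * (g * c * g⁻¹ * (g * c * g⁻¹)) * g := by group
        _ = 1 := by rw [h5]; group)
  refine ⟨M, hMn, Or.inr ⟨Nat.card N, hNodd, hMcard⟩, F, i1, i2, ?_, Or.inl ⟨e⟩⟩
  rw [hcard, hSb_card]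
  omega

end DG

end Cfsg.Agent.GenDih
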