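import Cfsg.Agent.GenDih.RTwoA
import Cfsg.Agent.S1227
import Cfsg.Agent.Linear.SmallIso
import Cfsg.Agent.Lib.ClassSize

/-!
# Reduction for S3322, `|Ω| ≥ 4`: `A₂` not elementary abelian is impossible

An order formula in the style of Thompson, applied to two pairs of classes of involutions.
-/

set_option autoImplicit false
set_option linter.style.haveILetI false
set_option linter.unusedSectionVars false

namespace Cfsg.Agent.GenDih

open Subgroup

universe u

variable {G : Type u} [Group G] [Finite G]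

/-- The central involution of the dihedral group generated by two involutions. -/
noncomputable def zc (u v : G) : G := (u * v) ^ (orderOf (u * v) / 2)

theorem zc_conj (g u v : G) : zc (g * u * g⁻¹) (g * v * g⁻¹) = g * zc u v * g⁻¹ := by
  have h1 : g * u * g⁻¹ * (g * v * g⁻¹) = g * (u * v) * g⁻¹ := by group
  rw [zc, zc, h1, GenDih.orderOf_conj, conj_pow]

theorem zc_spec {u v : G} (hu : orderOf u = 2) (hv : orderOf v = 2) (h : ¬ IsConj u v) :
    orderOf (zc u v) = 2 ∧ zc u v * u = u * zc u v ∧ zc u v * v = v * zc u v :=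
  ⟨Invol.pow_half_eq_two (orderOf_pos _) (Invol.even_of_not_isConj hu hv h),
    (Invol.commute_pow_half hu hv (Invol.even_of_not_isConj hu hv h)).1.eq,
    (Invol.commute_pow_half hu hv (Invol.even_of_not_isConj hu hv h)).2.eq⟩

/-- Pairs sorted by their central involution. -/
theorem card_pairs (N : Subgroup G) (X Y Z : Set G) (z₀ : G)
    (hX : ∀ g ∈ N, ∀ x ∈ X, g * x * g⁻¹ ∈ X) (hY : ∀ g ∈ N, ∀ x ∈ Y, g * x * g⁻¹ ∈ Y)
    (hZ : ∀ z ∈ Z, ∃ g ∈ N, g * z₀ * g⁻¹ = z) (hall : ∀ u ∈ X, ∀ v ∈ Y, zc u v ∈ Z) :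
    Nat.card X * Nat.card Y = Nat.card Z * Nat.card {p : X × Y // zc (p.1 : G) p.2 = z₀} := by
  classical
  let f : X × Y → Z := fun p => ⟨zc (p.1 : G) p.2, hall _ p.1.2 _ p.2.2⟩
  have he : ∀ z : Z, Nat.card {p : X × Y // f p = z}
      = Nat.card {p : X × Y // zc (p.1 : G) p.2 = z₀} := by
    intro z
    obtain ⟨g, hg, hgz⟩ := hZ z z.2
    have hgi := N.inv_mem hg
    have hz0 : g⁻¹ * (z : G) * g = z₀ := by rw [← hgz]; group
    refine Nat.card_congr
      { toFun := fun p => ⟨(⟨g⁻¹ * p.1.1 * g, by simpa using hX _ hgi _ p.1.1.2⟩,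
          ⟨g⁻¹ * p.1.2 * g, by simpa using hY _ hgi _ p.1.2.2⟩), ?_⟩
        invFun := fun p => ⟨(⟨g * p.1.1 * g⁻¹, hX _ hg _ p.1.1.2⟩,
          ⟨g * p.1.2 * g⁻¹, hY _ hg _ p.1.2.2⟩), ?_⟩
        left_inv := fun p => Subtype.ext (Prod.ext (Subtype.ext (by simp [mul_assoc]))
          (Subtype.ext (by simp [mul_assoc])))
        right_inv := fun p => Subtype.ext (Prod.ext (Subtype.ext (by simp [mul_assoc]))
          (Subtype.ext (by simp [mul_assoc]))) }
    · have h1 : zc (p.1.1 : G) p.1.2 = z := congrArg Subtype.val p.2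
      have h2 := zc_conj g⁻¹ (p.1.1 : G) p.1.2
      rw [inv_inv] at h2
      show zc (g⁻¹ * (p.1.1 : G) * g) (g⁻¹ * (p.1.2 : G) * g) = z₀
      rw [h2, h1, hz0]
    · refine Subtype.ext ?_
      show zc (g * (p.1.1 : G) * g⁻¹) (g * (p.1.2 : G) * g⁻¹) = z
      rw [zc_conj, p.2, hgz]
  haveI := Fintype.ofFinite Z
  rw [← Nat.card_prod, ← Nat.card_congr (Equiv.sigmaFiberEquiv f), Nat.card_sigma,
    Finset.sum_congr rfl (fun z _ => he z), Finset.sum_const, Finset.card_univ,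
    Nat.card_eq_fintype_card (α := Z), smul_eq_mul]

namespace DG

variable {H A : Subgroup G}

theorem card_H (h : DG H A) : Nat.card H = 2 * Nat.card A := by
  obtain ⟨r, hr, hrA⟩ := h.outside
  have hidx : (A.subgroupOf H).index = 2 := by
    rw [Subgroup.index_eq_two_iff']
    refine ⟨⟨r, hr⟩, fun b => ?_⟩
    by_cases hb : (b : G) ∈ A
    · refine Or.inr ⟨hb, fun hh => hrA ?_⟩
      have h1 : r * b ∈ A := mem_subgroupOf.1 hh
      simpa using A.mul_mem h1 (A.inv_mem hb)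
    · exact Or.inl ⟨h.mul_out r hr hrA b b.2 hb, hb⟩
  rw [← Subgroup.card_mul_index (A.subgroupOf H), hidx,
    Nat.card_congr (subgroupOfEquivOfLe h.le).toEquiv, mul_comm]

theorem card_omega_sharp (h : DG H A) :
    Nat.card ({x : G | x ∈ h.omega ∧ x ≠ 1} : Set G) = Nat.card h.omega - 1 := by
  have hset : ({x : G | x ∈ h.omega ∧ x ≠ 1} : Set G) = (h.omega : Set G) \ {1} := by
    ext x; simp
  rw [hset, Nat.card_coe_set_eq, Set.ncard_sdiff_singleton_of_mem (one_mem _),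
    ← Nat.card_coe_set_eq]
  rfl

variable (h : DG H A) (hk : 4 ≤ Nat.card h.omega) (hΩ : h.omega ≤ h.squares)
include hk hΩ

theorem isConj_r_mul_omega {r w : G} (hr : r ∈ H) (hrA : r ∉ A) (hw : w ∈ h.omega) :
    IsConj r (r * w) := by
  obtain ⟨a, -, ha⟩ := h.isConj_mul_square hr hrA (hΩ hw)
  exact isConj_iff.2 ⟨a, ha⟩

set_option maxHeartbeats 2000000 in
/-- Centralizer and order formula at an involution outside `A`. -/
theorem key_card {r : G} (hr : r ∈ H) (hrA : r ∉ A) :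
    Nat.card (centralizer ({r} : Set G)) = 2 * (Nat.card h.omega * (Nat.card h.omega ^ 2 - 1)) ∧
      ∃ x, x + Nat.card h.omega = Nat.card h.omega ^ 2 + 1 ∧
        Nat.card G = Nat.card H * ((Nat.card h.omega ^ 2 - 1) * x) := by
  classical
  haveI : Fact (Nat.Prime 2) := ⟨Nat.prime_two⟩
  have hro := h.orderOf_out hr hrA
  obtain ⟨e, he, he1⟩ := h.exists_omega_ne_one
  have heo : orderOf e = 2 := orderOf_eq_prime (by rw [pow_two]; exact he.2) he1
  set q := Nat.card h.omega with hq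
  set C := centralizer ({r} : Set G) with hC
  have hΩC : h.omega ≤ C := fun w hw => mem_centralizer_singleton_iff.2 (h.omega_central hw hr).symm
  have hconjΩ : ∀ w ∈ h.omega, w ≠ 1 → IsConj e w := by
    intro w hw hw1
    obtain ⟨n, -, hn⟩ := h.trans_omega hk he he1 hw hw1
    exact isConj_iff.2 ⟨n, hn⟩
  have hnotI : ∀ w, IsConj e w → ¬ IsConj r w := fun w hw hw' =>
    h.not_isConj_out hk he he1 hr hrA (hw.trans hw'.symm)
  set W : Set G := {w | IsConj e w ∧ w * r = r * w} with hW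
  have hWo : ∀ w ∈ W, orderOf w = 2 := fun w hw => by
    rw [← Invol.orderOf_eq_of_isConj hw.1, heo]
  -- conjugating `W` into `Ω` inside `C(r)`
  have hWconj : ∀ w ∈ W, ∃ c ∈ C, c * w * c⁻¹ ∈ h.omega := by
    intro w hw
    obtain ⟨c, hc, hcw | ⟨h1, h2, -⟩⟩ := h.inv_conj_into_cent hk hr hrA (hWo w hw) hw.2
    · exact ⟨c, hc, hcw⟩
    · exact absurd (hw.1.trans (isConj_iff.2 ⟨c, rfl⟩)) (h.not_isConj_out hk he he1 h1 h2)
  have hconj_cent : ∀ c ∈ C, ∀ w, w * r = r * w → c * w * c⁻¹ * r = r * (c * w * c⁻¹) := by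
    intro c hc w hw
    have hcr : c * r = r * c := mem_centralizer_singleton_iff.1 hc
    calc c * w * c⁻¹ * r = c * w * (c⁻¹ * r) := by group
      _ = c * w * (r * c⁻¹) := by
          rw [(Commute.inv_left (show Commute c r from hcr)).eq]
      _ = c * (w * r) * c⁻¹ := by group
      _ = c * (r * w) * c⁻¹ := by rw [hw]
      _ = (c * r) * w * c⁻¹ := by group
      _ = _ := by rw [hcr]; group
  have hrW : ∀ w ∈ W, IsConj r (r * w) := by
    intro w hw
    obtain ⟨c, hc, hcw⟩ := hWconj w hw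
    refine (h.isConj_r_mul_omega hk hΩ hr hrA hcw).trans (isConj_iff.2 ⟨c⁻¹, ?_⟩)
    calc c⁻¹ * (r * (c * w * c⁻¹)) * c⁻¹⁻¹ = (c⁻¹ * r) * c * w := by group
      _ = (r * c⁻¹) * c * w := by
          rw [(Commute.inv_left (show Commute c r from mem_centralizer_singleton_iff.1 hc)).eq]
      _ = r * w := by group
  -- the pairs
  set X : Set G := {u | IsConj e u} with hX
  set Y : Set G := {v | IsConj r v} with hY
  have hXY : ∀ u ∈ X, ∀ v ∈ Y, orderOf u = 2 ∧ orderOf v = 2 ∧ ¬ IsConj u v := by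
    intro u hu v hv
    refine ⟨by rw [← Invol.orderOf_eq_of_isConj hu, heo],
      by rw [← Invol.orderOf_eq_of_isConj hv, hro], fun huv => ?_⟩
    exact h.not_isConj_out hk he he1 hr hrA ((hu.trans huv).trans hv.symm)
  have hall : ∀ u ∈ X, ∀ v ∈ Y, zc u v ∈ Y := by
    intro u hu v hv
    obtain ⟨huo, hvo, hnc⟩ := hXY u hu v hv
    obtain ⟨hzo, hzu, hzv⟩ := zc_spec huo hvo hnc
    obtain ⟨g, hg⟩ := h.exists_conj_mem hk hzo
    set z' := g * zc u v * g⁻¹ with hz'
    set u' := g * u * g⁻¹ with hu'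
    set v' := g * v * g⁻¹ with hv'
    have hz'o : orderOf z' = 2 := by rw [hz', GenDih.orderOf_conj, hzo]
    have hz'u : z' * u' = u' * z' := by
      rw [hz', hu', show g * zc u v * g⁻¹ * (g * u * g⁻¹) = g * (zc u v * u) * g⁻¹ by group, hzu]
      group
    have hz'v : z' * v' = v' * z' := by
      rw [hz', hv', show g * zc u v * g⁻¹ * (g * v * g⁻¹) = g * (zc u v * v) * g⁻¹ by group, hzv]
      group
    have hev : IsConj r v' := hv.trans (isConj_iff.2 ⟨g, rfl⟩)
    have heu : IsConj e u' := hu.trans (isConj_iff.2 ⟨g, rfl⟩)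
    obtain ⟨cu, hcu⟩ := isConj_iff.1 heu
    by_cases hzA : z' ∈ A
    · exfalso
      have hzΩ := h.mem_omega_of_inv hg hzA hz'o
      have hcent := h.cent_omega hzΩ (ne_one_of_orderOf_two hz'o)
      have hu'H : u' ∈ H := hcent.le (mem_centralizer_singleton_iff.2 hz'u.symm)
      have hv'H : v' ∈ H := hcent.le (mem_centralizer_singleton_iff.2 hz'v.symm)
      have hu'Ω : u' ∈ h.omega := hcu ▸ h.conj_mem_omega hk he he1 (hcu.symm ▸ hu'H)
      have hu'o : orderOf u' = 2 := by rw [hu', GenDih.orderOf_conj, huo]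
      have hv'o : orderOf v' = 2 := by rw [hv', GenDih.orderOf_conj, hvo]
      have hv'A : v' ∉ A := fun hA => h.not_isConj_out hk (h.mem_omega_of_inv hv'H hA hv'o)
        (ne_one_of_orderOf_two hv'o) hr hrA hev.symm
      have hout : u' * v' ∉ A := fun hA => hv'A (by
        simpa using A.mul_mem (A.inv_mem hu'Ω.1) hA)
      have huv'o : orderOf (u' * v') = 2 := h.orderOf_out (mul_mem hu'H hv'H) hout
      have hzeq : z' = u' * v' := by
        rw [hz', ← zc_conj, ← hu', ← hv', zc, huv'o, show 2 / 2 = 1 from rfl, pow_one]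
      exact hout (hzeq ▸ hzA)
    · have hv'o : orderOf v' = 2 := by rw [hv', GenDih.orderOf_conj, hvo]
      obtain ⟨c, hc, hcv | ⟨h1, h2, h3⟩⟩ := h.inv_conj_into_cent hk hg hzA hv'o hz'v.symm
      · exact absurd (hev.trans (isConj_iff.2 ⟨c, rfl⟩)).symm (h.not_isConj_out hk hcv
          (fun e => ne_one_of_orderOf_two hv'o (conj_eq_one_iff.1 e)) hr hrA)
      · have h4 := h.isConj_r_mul_omega hk hΩ hg hzA h3
        rw [← mul_assoc, sq_of_orderOf_two hz'o, one_mul] at h4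
        exact ((hev.trans (isConj_iff.2 ⟨c, rfl⟩)).trans h4.symm).trans
          (isConj_iff.2 ⟨g⁻¹, by rw [hz']; group⟩)
  have hcount := card_pairs (⊤ : Subgroup G) X Y Y r
    (fun g _ x hx => hx.trans (isConj_iff.2 ⟨g, rfl⟩))
    (fun g _ x hx => hx.trans (isConj_iff.2 ⟨g, rfl⟩))
    (fun z hz => by obtain ⟨g, hg⟩ := isConj_iff.1 hz; exact ⟨g, mem_top g, hg⟩) hall
  -- the fibre
  let P := {p : W × W // (p.1 : G) = p.2 ∨ (p.1 : G) * p.2 ≠ p.2 * p.1}
  have hfib : Nat.card {p : X × Y // zc (p.1 : G) p.2 = r} = Nat.card P := by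
    have hfwd : ∀ p : {p : X × Y // zc (p.1 : G) p.2 = r},
        (p.1.1 : G) ∈ W ∧ r * p.1.2 ∈ W ∧
          ((p.1.1 : G) = r * p.1.2 ∨ (p.1.1 : G) * (r * p.1.2) ≠ (r * p.1.2) * p.1.1) := by
      rintro ⟨⟨⟨u, hu⟩, ⟨v, hv⟩⟩, hz⟩
      obtain ⟨huo, hvo, hnc⟩ := hXY u hu v hv
      obtain ⟨-, hzu, hzv⟩ := zc_spec huo hvo hnc
      change zc u v = r at hz
      rw [hz] at hzu hzv
      show u ∈ W ∧ r * v ∈ W ∧ (u = r * v ∨ u * (r * v) ≠ (r * v) * u)
      have hwv : r * v * r = r * (r * v) := by rw [mul_assoc, ← hzv]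
      have hw : r * v ∈ W := by
        obtain ⟨c, hc, hcv | ⟨h1, h2, h3⟩⟩ := h.inv_conj_into_cent hk hr hrA hvo hzv.symm
        · exact absurd (hv.trans (isConj_iff.2 ⟨c, rfl⟩)).symm (h.not_isConj_out hk hcv
            (fun e => ne_one_of_orderOf_two hvo (conj_eq_one_iff.1 e)) hr hrA)
        have hcr : c * r * c⁻¹ = r := by
          rw [mem_centralizer_singleton_iff.1 hc, mul_inv_cancel_right]
        have hne : r * (c * v * c⁻¹) ≠ 1 := by
          intro e0
          have hvr : v = r := by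
            have e1 : c * v * c⁻¹ = c * r * c⁻¹ := by
              rw [hcr, eq_inv_of_mul_eq_one_right e0, inv_of_orderOf_two hro]
            exact mul_left_cancel (mul_right_cancel e1)
          -- then `u r` is an involution with `zc u r = r`
          have huv : u * v = r := by
            have h5 : orderOf (u * v) = 2 := by
              refine orderOf_eq_prime ?_ fun e1 => hnc ?_
              · rw [pow_two, hvr, show u * r * (u * r) = u * (r * u) * r by group, hzu,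
                  show u * (u * r) * r = (u * u) * (r * r) by group, sq_of_orderOf_two huo,
                  sq_of_orderOf_two hro, mul_one]
              · rw [show u = v by rw [eq_inv_of_mul_eq_one_left e1, inv_of_orderOf_two hvo]]
            have := hz
            rwa [zc, h5, show 2 / 2 = 1 from rfl, pow_one] at this
          rw [hvr, mul_eq_right] at huv
          exact ne_one_of_orderOf_two huo huv
        refine ⟨(hconjΩ _ h3 hne).trans (isConj_iff.2 ⟨c⁻¹, ?_⟩), hwv⟩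
        calc c⁻¹ * (r * (c * v * c⁻¹)) * c⁻¹⁻¹ = c⁻¹ * (c * r * c⁻¹ * (c * v * c⁻¹)) * c := by
              rw [hcr]; group
          _ = _ := by group
      refine ⟨⟨hu, hzu.symm⟩, hw, ?_⟩
      by_contra hno
      push Not at hno
      obtain ⟨hne, hcm⟩ := hno
      have huw2 : orderOf (u * v) = 2 := by
        have hcv : u * v = v * u := by
          calc u * v = u * (r * (r * v)) := by
                rw [← mul_assoc r r v, sq_of_orderOf_two hro, one_mul]
            _ = r * (u * (r * v)) := by rw [← mul_assoc, ← hzu, mul_assoc]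
            _ = r * ((r * v) * u) := by rw [hcm]
            _ = v * u := by
                rw [← mul_assoc, ← mul_assoc, sq_of_orderOf_two hro, one_mul]
        refine orderOf_eq_prime ?_ fun e1 => hnc ?_
        · rw [pow_two, show u * v * (u * v) = u * (v * u) * v by group, ← hcv,
            show u * (u * v) * v = (u * u) * (v * v) by group, sq_of_orderOf_two huo,
            sq_of_orderOf_two hvo, mul_one]
        · rw [show u = v by rw [eq_inv_of_mul_eq_one_left e1, inv_of_orderOf_two hvo]]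
      have := hz
      rw [zc, huw2, show 2 / 2 = 1 from rfl, pow_one] at this
      refine hne ?_
      calc u = u * (v * v) := by rw [sq_of_orderOf_two hvo, mul_one]
        _ = r * v := by rw [← mul_assoc, this]
    have hbwd : ∀ p : P, IsConj r (r * p.1.2) ∧ zc (p.1.1 : G) (r * p.1.2) = r := by
      rintro ⟨⟨⟨u, hu⟩, ⟨w, hw⟩⟩, hp⟩
      refine ⟨hrW w hw, ?_⟩
      show zc u (r * w) = r
      have hcr : Commute r (u * w) :=
        (show Commute r u from hu.2.symm).mul_right (show Commute r w from hw.2.symm)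
      have huv : u * (r * w) = r * (u * w) := by rw [← mul_assoc, hu.2, mul_assoc]
      rcases hp with heq | hnc
      · change u = w at heq
        have h1 : u * (r * w) = r := by
          rw [huv, ← heq, sq_of_orderOf_two (hWo u hu), mul_one]
        rw [zc, h1, hro, show 2 / 2 = 1 from rfl, pow_one]
      · change u * w ≠ w * u at hnc
        have hodd : Odd (orderOf (u * w)) := by
          obtain ⟨g, hg⟩ := isConj_iff.1 (hu.1)
          obtain ⟨g', hg'⟩ := isConj_iff.1 (hw.1)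
          rcases h.odd_or_mem hk he he1 he he1 (g := g⁻¹ * g') with hmem | ho
          · exfalso
            have h2 := h.omega_central (w := g⁻¹ * g' * e * (g⁻¹ * g')⁻¹) hmem (h.omega_le_H he)
            refine hnc ?_
            rw [← hg, ← hg']
            have h3 := congrArg (fun y => g * y * g⁻¹) h2
            group at h3 ⊢
            exact h3
          · have h3 : u * w = g * (e * (g⁻¹ * g' * e * (g⁻¹ * g')⁻¹)) * g⁻¹ := by
              rw [← hg, ← hg']; group
            rw [h3, GenDih.orderOf_conj]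
            exact ho
        obtain ⟨j, hj⟩ := hodd
        have hord : orderOf (r * (u * w)) = 2 * orderOf (u * w) := by
          rw [hcr.orderOf_mul_eq_mul_orderOf_of_coprime
            (by rw [hro]; exact Nat.coprime_two_left.2 ⟨j, hj⟩), hro]
        rw [zc, huv, hord, Nat.mul_div_cancel_left _ two_pos, hcr.mul_pow, pow_orderOf_eq_one,
          mul_one, hj, pow_succ, pow_mul, pow_two, sq_of_orderOf_two hro, one_pow, one_mul]
    exact Nat.card_congr
      { toFun := fun p => ⟨(⟨p.1.1, (hfwd p).1⟩, ⟨r * p.1.2, (hfwd p).2.1⟩), (hfwd p).2.2⟩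
        invFun := fun p => ⟨(⟨p.1.1, p.1.1.2.1⟩, ⟨r * p.1.2, (hbwd p).1⟩), (hbwd p).2⟩
        left_inv := fun p => Subtype.ext (Prod.ext rfl (Subtype.ext
          (by show r * (r * (p.1.2 : G)) = p.1.2
              rw [← mul_assoc, sq_of_orderOf_two hro, one_mul])))
        right_inv := fun p => Subtype.ext (Prod.ext rfl (Subtype.ext
          (by show r * (r * (p.1.2 : G)) = p.1.2
              rw [← mul_assoc, sq_of_orderOf_two hro, one_mul]))) }
  -- the size of `P`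
  obtain ⟨x, hxN, hPx⟩ : ∃ x, x + (q - 1) = Nat.card W + 1 ∧ Nat.card P = Nat.card W * x := by
    have hW0 : Nat.card W ≠ 0 := by
      haveI : Nonempty W := ⟨⟨e, IsConj.refl e, (h.omega_central he hr).symm⟩⟩
      exact Nat.card_pos.ne'
    have key : ∀ u : W, Nat.card {w : W // (u : G) = w ∨ (u : G) * w ≠ w * u} + (q - 1)
        = Nat.card W + 1 := by
      intro u
      obtain ⟨c, hc, hcu⟩ := hWconj u u.2
      have hcu1 : c * u * c⁻¹ ≠ 1 := fun e0 =>
        ne_one_of_orderOf_two (hWo u u.2) (conj_eq_one_iff.1 e0)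
      have hcard : Nat.card {w : W // (u : G) * w = w * u} = q - 1 := by
        rw [← h.card_omega_sharp]
        have hf1 : ∀ w : {w : W // (u : G) * w = w * u}, c * (w.1 : G) * c⁻¹ ∈ h.omega ∧
            c * (w.1 : G) * c⁻¹ ≠ 1 := by
          intro w
          refine ⟨?_, fun e0 => ne_one_of_orderOf_two (hWo _ w.1.2) (conj_eq_one_iff.1 e0)⟩
          have hH : c * (w.1 : G) * c⁻¹ ∈ H := by
            rw [← h.cent_omega hcu hcu1, mem_centralizer_singleton_iff]
            calc c * (w.1 : G) * c⁻¹ * (c * u * c⁻¹) = c * ((w.1 : G) * u) * c⁻¹ := by group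
              _ = c * ((u : G) * w.1) * c⁻¹ := by rw [w.2]
              _ = _ := by group
          obtain ⟨g, hg⟩ := isConj_iff.1 (w.1.2.1.trans (isConj_iff.2 ⟨c, rfl⟩))
          rw [← hg] at hH ⊢
          exact h.conj_mem_omega hk he he1 hH
        have hf2 : ∀ f : ({x : G | x ∈ h.omega ∧ x ≠ 1} : Set G),
            c⁻¹ * (f : G) * c ∈ W ∧ (u : G) * (c⁻¹ * f * c) = c⁻¹ * f * c * u := by
          intro f
          refine ⟨⟨(hconjΩ _ f.2.1 f.2.2).trans (isConj_iff.2 ⟨c⁻¹, by group⟩), ?_⟩, ?_⟩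
          · have := hconj_cent c⁻¹ (C.inv_mem hc) f (h.omega_central f.2.1 hr).symm
            rwa [inv_inv] at this
          · have h1 := h.comm _ hcu.1 _ f.2.1.1
            calc (u : G) * (c⁻¹ * f * c) = c⁻¹ * (c * u * c⁻¹ * f) * c := by group
              _ = c⁻¹ * (f * (c * u * c⁻¹)) * c := by rw [h1]
              _ = _ := by group
        exact Nat.card_congr
          { toFun := fun w => ⟨c * (w.1 : G) * c⁻¹, hf1 w⟩
            invFun := fun f => ⟨⟨c⁻¹ * (f : G) * c, (hf2 f).1⟩, (hf2 f).2⟩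
            left_inv := fun w => Subtype.ext (Subtype.ext (by
              show c⁻¹ * (c * (w.1 : G) * c⁻¹) * c = w.1
              group))
            right_inv := fun f => Subtype.ext (by
              show c * (c⁻¹ * (f : G) * c) * c⁻¹ = f
              group) }
      rw [← hcard]
      have h1 := Set.ncard_union_add_ncard_inter {w : W | (u : G) = w ∨ (u : G) * w ≠ w * u}
        {w : W | (u : G) * w = w * u}
      have h2 : {w : W | (u : G) = w ∨ (u : G) * w ≠ w * u} ∪ {w : W | (u : G) * w = w * u}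
          = Set.univ := by
        ext w; simp only [Set.mem_union, Set.mem_setOf_eq, Set.mem_univ, iff_true]; tauto
      have h3 : {w : W | (u : G) = w ∨ (u : G) * w ≠ w * u} ∩ {w : W | (u : G) * w = w * u}
          = {u} := by
        ext w
        simp only [Set.mem_inter_iff, Set.mem_setOf_eq, Set.mem_singleton_iff]
        constructor
        · rintro ⟨h4 | h4, h5⟩
          · exact Subtype.ext h4.symm
          · exact absurd h5 h4
        · rintro rfl; exact ⟨Or.inl rfl, rfl⟩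
      rw [h2, h3, Set.ncard_univ, Set.ncard_singleton, ← Nat.card_coe_set_eq,
        ← Nat.card_coe_set_eq] at h1
      exact h1.symm
    haveI : Fintype W := Fintype.ofFinite _
    have hpos : 0 < Nat.card W := Nat.pos_of_ne_zero hW0
    obtain ⟨u₀⟩ : Nonempty W := (Nat.card_pos_iff.1 hpos).1
    refine ⟨_, key u₀, ?_⟩
    let eP : P ≃ Σ u : W, {w : W // (u : G) = w ∨ (u : G) * w ≠ w * u} :=
      { toFun := fun p => ⟨p.1.1, p.1.2, p.2⟩
        invFun := fun s => ⟨(s.1, s.2.1), s.2.2⟩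
        left_inv := fun p => rfl
        right_inv := fun s => rfl }
    rw [Nat.card_congr eP, Nat.card_sigma,
      Finset.sum_congr rfl (fun u _ => (Nat.add_right_cancel ((key u).trans (key u₀).symm) :
        _ = Nat.card {w : W // (u₀ : G) = w ∨ (u₀ : G) * w ≠ w * u₀})),
      Finset.sum_const, Finset.card_univ, ← Nat.card_eq_fintype_card, smul_eq_mul]
  have hGH : Nat.card G = Nat.card H * (Nat.card W * x) := by
    have h1 : Nat.card X = Nat.card W * x := by
      rw [hfib, hPx, mul_comm (Nat.card Y)] at hcount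
      haveI : Nonempty Y := ⟨⟨r, IsConj.refl r⟩⟩
      exact Nat.eq_of_mul_eq_mul_right Nat.card_pos hcount
    rw [← ClassSize.card_centralizer_mul_ncard_conjugatesOf e, h.cent_omega he he1, ← h1,
      Nat.card_coe_set_eq]
    rfl
  -- the structure of `C(r)/⟨r⟩`
  have hrC : r ∈ C := mem_centralizer_singleton_iff.2 rfl
  set Z : Subgroup C := zpowers ⟨r, hrC⟩ with hZ
  haveI hZn : Z.Normal := ⟨fun z hz g => by
    obtain ⟨j, rfl⟩ := mem_zpowers_iff.1 hz
    have hc' : g * (⟨r, hrC⟩ : C) = ⟨r, hrC⟩ * g :=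
      Subtype.ext (mem_centralizer_singleton_iff.1 g.2)
    rw [((show Commute g (⟨r, hrC⟩ : C) from hc').zpow_right j).eq, mul_inv_cancel_right]
    exact hz⟩
  have hZcard : Nat.card Z = 2 := by rw [hZ, Nat.card_zpowers, Subgroup.orderOf_mk, hro]
  have hZmem : ∀ z ∈ Z, z = 1 ∨ z = ⟨r, hrC⟩ := by
    intro z hz
    obtain ⟨j, rfl⟩ := mem_zpowers_iff.1 hz
    rw [← zpow_mod_orderOf, Subgroup.orderOf_mk, hro, show ((2 : ℕ) : ℤ) = 2 from rfl]
    rcases Int.emod_two_eq_zero_or_one j with e0 | e0 <;> rw [e0]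
    · exact Or.inl (zpow_zero _)
    · exact Or.inr (zpow_one _)
  set π := QuotientGroup.mk' Z with hπ
  -- the Sylow subgroup
  have hEp : IsPGroup 2 ((H ⊓ C).subgroupOf C) := (h.isPGroup_cent hr hrA).comap_subtype
  obtain ⟨T₀, hT₀⟩ := hEp.exists_le_sylow
  have hΩT : ∀ w (hw : w ∈ h.omega), (⟨w, hΩC hw⟩ : C) ∈ (T₀ : Subgroup C) := fun w hw =>
    hT₀ (mem_subgroupOf.2 ⟨h.omega_le_H hw, hΩC hw⟩)
  have hrT : (⟨r, hrC⟩ : C) ∈ (T₀ : Subgroup C) := hT₀ (mem_subgroupOf.2 ⟨hr, hrC⟩)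
  have hTE : ∀ t ∈ (T₀ : Subgroup C), (t : G) ∈ H := by
    intro t ht
    obtain ⟨d, hd, hdt⟩ := h.conj_into_cent hk hr hrA (T₀.2.map C.subtype) (map_subtype_le _)
    have hle : Nat.card (T₀ : Subgroup C) ≤ Nat.card ((H ⊓ C).subgroupOf C) := by
      rw [Nat.card_congr (subgroupOfEquivOfLe (inf_le_right : H ⊓ C ≤ C)).toEquiv,
        ← card_map_of_injective C.subtype_injective (K := (T₀ : Subgroup C)),
        ← card_map_of_injective (f := (MulAut.conj d).toMonoidHom) (MulAut.conj d).injective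
          (K := (T₀ : Subgroup C).map C.subtype)]
      exact card_le_of_le (by rintro _ ⟨y, hy, rfl⟩; exact hdt y hy)
    exact (mem_subgroupOf.1 ((eq_of_le_of_card_ge hT₀ hle).symm ▸ ht : t ∈ (H ⊓ C).subgroupOf C)).1
  set Tb := T₀.mapSurjective (QuotientGroup.mk'_surjective Z) with hTb
  have hTb_mem : ∀ y ∈ (Tb : Subgroup (C ⧸ Z)), ∃ (w : G) (hw : w ∈ h.omega),
      π ⟨w, hΩC hw⟩ = y := by
    rintro _ ⟨t, ht, rfl⟩
    rcases h.cases_cent hr hrA (hTE t ht) (mem_centralizer_singleton_iff.1 t.2) with hw | ⟨-, hw⟩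
    · exact ⟨_, hw, rfl⟩
    · refine ⟨_, hw, QuotientGroup.eq.2 ?_⟩
      have : (⟨r * (t : G), hΩC hw⟩ : C)⁻¹ * t = ⟨r, hrC⟩ := Subtype.ext (by
        show (r * (t : G))⁻¹ * t = r
        rw [mul_inv_rev, mul_assoc, inv_of_orderOf_two hro,
          mem_centralizer_singleton_iff.1 t.2 |>.symm, inv_mul_cancel_left])
      rw [this]; exact mem_zpowers _
  have hinjΩ : ∀ a b : h.omega, π ⟨a, hΩC a.2⟩ = π ⟨b, hΩC b.2⟩ → a = b := by
    intro a b hab
    rcases hZmem _ (QuotientGroup.eq.1 hab) with e0 | e0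
    · exact Subtype.ext (inv_mul_eq_one.1 (congrArg Subtype.val e0))
    · exfalso
      have e1 : (a : G)⁻¹ * b = r := congrArg Subtype.val e0
      exact hrA (e1 ▸ mul_mem (inv_mem a.2.1) b.2.1)
  have hTb_card : Nat.card (Tb : Subgroup (C ⧸ Z)) = q := by
    refine (Nat.card_congr (Equiv.ofBijective (fun w : h.omega =>
      (⟨π ⟨w, hΩC w.2⟩, ⟨_, hΩT w w.2, rfl⟩⟩ : (Tb : Subgroup (C ⧸ Z)))) ⟨?_, ?_⟩)).symm
    · exact fun a b hab => hinjΩ a b (congrArg Subtype.val hab)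
    · rintro ⟨y, hy⟩
      obtain ⟨w, hw, hwy⟩ := hTb_mem y hy
      exact ⟨⟨w, hw⟩, Subtype.ext hwy⟩
  have hTb_sq : ∀ y ∈ (Tb : Subgroup (C ⧸ Z)), y ^ 2 = 1 := by
    intro y hy
    obtain ⟨w, hw, rfl⟩ := hTb_mem y hy
    rw [← map_pow, show (⟨w, hΩC hw⟩ : C) ^ 2 = 1 from Subtype.ext (by
      show w ^ 2 = 1; rw [pow_two, hw.2]), map_one]
  -- lifting involutions
  have hlift : ∀ y : C ⧸ Z, orderOf y = 2 →
      ∃ (d : C ⧸ Z) (f : G) (hf : f ∈ h.omega), f ≠ 1 ∧ d * y * d⁻¹ = π ⟨f, hΩC hf⟩ := by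
    intro y hy
    obtain ⟨d, hd⟩ := TwoFusion.exists_conj_le_sylow Tb
      (IsPGroup.of_card (n := 1) (by rw [Nat.card_zpowers, hy, pow_one]) : IsPGroup 2 (zpowers y))
    obtain ⟨f, hf, hfe⟩ := hTb_mem _ (hd y (mem_zpowers y))
    refine ⟨d, f, hf, ?_, hfe.symm⟩
    rintro rfl
    have : d * y * d⁻¹ = 1 := by rw [← hfe]; exact map_one π
    exact ne_one_of_orderOf_two hy (conj_eq_one_iff.1 this)
  have hcentf : ∀ (f : G) (hf : f ∈ h.omega), f ≠ 1 →
      centralizer ({π ⟨f, hΩC hf⟩} : Set (C ⧸ Z)) = (Tb : Subgroup (C ⧸ Z)) := by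
    intro f hf hf1
    refine le_antisymm ?_ ?_
    · intro y hy
      obtain ⟨g, rfl⟩ := QuotientGroup.mk'_surjective Z y
      have h1 : π (g * ⟨f, hΩC hf⟩ * g⁻¹) = π ⟨f, hΩC hf⟩ := by
        rw [map_mul, map_mul, map_inv, mem_centralizer_singleton_iff.1 hy, mul_inv_cancel_right]
      rcases hZmem _ (QuotientGroup.eq.1 h1.symm) with e0 | e0
      · have e1 : f⁻¹ * ((g : G) * f * (g : G)⁻¹) = 1 := congrArg Subtype.val e0
        have hgH : (g : G) ∈ H := (h.cent_omega hf hf1).le (mem_centralizer_singleton_iff.2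
          (mul_inv_eq_iff_eq_mul.1 (inv_mul_eq_one.1 e1).symm))
        exact ⟨g, hT₀ (mem_subgroupOf.2 ⟨hgH, g.2⟩), rfl⟩
      · exfalso
        have e1 : f⁻¹ * ((g : G) * f * (g : G)⁻¹) = r := congrArg Subtype.val e0
        refine h.not_isConj_out hk hf hf1 (mul_mem (h.omega_le_H hf) hr) (fun hA => hrA
          (by simpa using A.mul_mem (A.inv_mem hf.1) hA)) (isConj_iff.2 ⟨g, ?_⟩)
        rw [← e1, mul_inv_cancel_left]
    · intro y hy
      obtain ⟨w, hw, rfl⟩ := hTb_mem y hy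
      rw [mem_centralizer_singleton_iff, ← map_mul, ← map_mul]
      exact congrArg π (Subtype.ext (h.comm w hw.1 f hf.1))
  have hq4 : 4 ≤ q := hk
  by_cases hnn : (Tb : Subgroup (C ⧸ Z)).Normal
  · -- a normal Sylow subgroup makes `H` normal
    exfalso
    have hWΩ : ∀ w ∈ W, w ∈ h.omega ∧ w ≠ 1 := by
      intro w hw
      refine ⟨?_, ne_one_of_orderOf_two (hWo w hw)⟩
      obtain ⟨c, hc, hcw⟩ := hWconj w hw
      have hmem : π (⟨c, hc⟩⁻¹ * ⟨c * w * c⁻¹, hΩC hcw⟩ * ⟨c, hc⟩) ∈ (Tb : Subgroup (C ⧸ Z)) := by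
        rw [map_mul, map_mul, map_inv]
        simpa using hnn.conj_mem _ (⟨_, hΩT _ hcw, rfl⟩ :
          π ⟨c * w * c⁻¹, hΩC hcw⟩ ∈ (Tb : Subgroup (C ⧸ Z))) (π ⟨c, hc⟩)⁻¹
      obtain ⟨t, ht, htw⟩ := hmem
      have hwH : w ∈ H := by
        have hz := QuotientGroup.eq.1 htw
        have hzT : t⁻¹ * (⟨c, hc⟩⁻¹ * ⟨c * w * c⁻¹, hΩC hcw⟩ * ⟨c, hc⟩) ∈ (T₀ : Subgroup C) :=
          (zpowers_le.2 hrT) hz
        have := hTE _ ((T₀ : Subgroup C).mul_mem ht hzT)
        rw [mul_inv_cancel_left] at this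
        simpa [mul_assoc] using this
      obtain ⟨g, hg⟩ := isConj_iff.1 hw.1
      rw [← hg] at hwH ⊢
      exact h.conj_mem_omega hk he he1 hwH
    have hWcard : Nat.card W = q - 1 := by
      rw [← h.card_omega_sharp]
      exact Nat.card_congr
        { toFun := fun w => ⟨w, hWΩ w w.2⟩
          invFun := fun f => ⟨f, hconjΩ _ f.2.1 f.2.2, (h.omega_central f.2.1 hr).symm⟩
          left_inv := fun w => rfl
          right_inv := fun f => rfl }
    have hx1 : x = 1 := by rw [hWcard] at hxN; omega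
    rw [hx1, mul_one, hWcard] at hGH
    set NH := normalizer (H : Set G) with hNH
    haveI := Fintype.ofFinite (NH ⧸ H.subgroupOf NH)
    have hsurj : q - 1 ≤ Nat.card (NH ⧸ H.subgroupOf NH) := by
      rw [← h.card_omega_sharp]
      have hcls : ∀ n : NH, (n : G) * e * (n : G)⁻¹ ∈ h.omega ∧ (n : G) * e * (n : G)⁻¹ ≠ 1 :=
        fun n => ⟨(mem_normalizer_iff.1 (h.normalizer_omega n.2) e).1 he,
          fun e0 => he1 (conj_eq_one_iff.1 e0)⟩
      refine Nat.card_le_card_of_surjective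
        (fun c : NH ⧸ H.subgroupOf NH => (⟨_, hcls (Quotient.out c)⟩ :
          ({x : G | x ∈ h.omega ∧ x ≠ 1} : Set G))) ?_
      rintro ⟨f, hf, hf1⟩
      obtain ⟨n, hn, hnf⟩ := h.trans_omega hk he he1 hf hf1
      refine ⟨((⟨n, hn⟩ : NH) : NH ⧸ H.subgroupOf NH), Subtype.ext ?_⟩
      obtain ⟨⟨y, hy⟩, hye⟩ := QuotientGroup.mk_out_eq_mul (H.subgroupOf NH) (⟨n, hn⟩ : NH)
      show ((Quotient.out ((⟨n, hn⟩ : NH) : NH ⧸ H.subgroupOf NH) : NH) : G) * e *
        ((Quotient.out ((⟨n, hn⟩ : NH) : NH ⧸ H.subgroupOf NH) : NH) : G)⁻¹ = f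
      rw [hye]
      push_cast
      rw [show n * (y : G) * e * (n * (y : G))⁻¹ = n * ((y : G) * e * (y : G)⁻¹) * n⁻¹ by group,
        h.omega_central he (mem_subgroupOf.1 hy), mul_inv_cancel_right, hnf]
    have h1 := Subgroup.card_mul_index (H.subgroupOf NH)
    rw [Nat.card_congr (subgroupOfEquivOfLe (le_normalizer : H ≤ NH)).toEquiv,
      Subgroup.index_eq_card] at h1
    have h2 : Nat.card G ≤ Nat.card NH := by
      rw [hGH, ← h1]; exact Nat.mul_le_mul_left _ hsurj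
    obtain ⟨S, hSH, -, -⟩ := h.exists_sylow hk (P := ⊥) IsPGroup.of_bot bot_le
    exact h.not_normal S hSH (normalizer_eq_top_iff.1 (eq_top_of_le_card NH h2))
  -- otherwise `C(r)/⟨r⟩ ≅ PSL₂(q)`
  have hnc : ¬ IsCyclic (Tb : Subgroup (C ⧸ Z)) := by
    intro hcy
    haveI := hcy
    haveI : Fintype (Tb : Subgroup (C ⧸ Z)) := Fintype.ofFinite _
    have h3 := IsCyclic.card_pow_eq_one_le (α := (Tb : Subgroup (C ⧸ Z))) (show 0 < 2 by norm_num)
    rw [Finset.filter_true_of_mem (fun x _ => Subtype.ext (by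
      rw [Subgroup.coe_pow]; exact hTb_sq _ x.2)), Finset.card_univ,
      ← Nat.card_eq_fintype_card, hTb_card] at h3
    omega
  have hTcomm : ∀ a ∈ (Tb : Subgroup (C ⧸ Z)), ∀ b ∈ (Tb : Subgroup (C ⧸ Z)), a * b = b * a := by
    intro a ha b hb
    obtain ⟨u, hu, rfl⟩ := hTb_mem a ha
    obtain ⟨v, hv, rfl⟩ := hTb_mem b hb
    rw [← map_mul, ← map_mul]
    exact congrArg π (Subtype.ext (h.comm u hu.1 v hv.1))
  have hCb : ∀ t : C ⧸ Z, orderOf t = 2 →
      IsMulCommutative (centralizer ({t} : Set (C ⧸ Z))) ∧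
        ∀ c ∈ centralizer ({t} : Set (C ⧸ Z)), c ^ 2 = 1 := by
    intro t ht
    obtain ⟨d, f, hf, hf1, hdt⟩ := hlift t ht
    have hmem : ∀ c ∈ centralizer ({t} : Set (C ⧸ Z)), d * c * d⁻¹ ∈ (Tb : Subgroup (C ⧸ Z)) := by
      intro c hc
      rw [← hcentf f hf hf1, mem_centralizer_singleton_iff, ← hdt]
      calc d * c * d⁻¹ * (d * t * d⁻¹) = d * (c * t) * d⁻¹ := by group
        _ = d * (t * c) * d⁻¹ := by rw [mem_centralizer_singleton_iff.1 hc]
        _ = _ := by group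
    refine ⟨⟨⟨fun a b => Subtype.ext (mul_left_cancel (a := d) (mul_right_cancel (b := d⁻¹) ?_))⟩⟩,
      fun c hc => ?_⟩
    · calc d * ((a : C ⧸ Z) * b) * d⁻¹ = d * a * d⁻¹ * (d * b * d⁻¹) := by group
        _ = d * b * d⁻¹ * (d * a * d⁻¹) := hTcomm _ (hmem a a.2) _ (hmem b b.2)
        _ = d * ((b : C ⧸ Z) * a) * d⁻¹ := by group
        _ = _ := rfl
    · have h5 := hTb_sq _ (hmem c hc)
      rw [pow_two] at h5 ⊢
      calc c * c = d⁻¹ * (d * c * d⁻¹ * (d * c * d⁻¹)) * d := by group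
        _ = 1 := by rw [h5]; group
  obtain ⟨F, i1, i2, hFcard, ⟨iso⟩⟩ := Cfsg.Agent.S1230.result Tb hnc hnn hCb
  rw [show Nat.card Tb = q from hTb_card] at hFcard
  have hqeven : Even q := by
    obtain ⟨j, hj⟩ := IsPGroup.iff_card.1 Tb.2
    rw [hTb_card] at hj
    rw [hj]
    rcases j with - | j
    · rw [hj] at hq4; norm_num at hq4
    · exact even_iff_two_dvd.2 (dvd_pow_self 2 j.succ_ne_zero)
  have hsq1 : 1 ≤ q ^ 2 := Nat.one_le_pow _ _ (by omega)
  have hmul : q * (q ^ 2 - 1) = q * (q - 1) * (q + 1) := by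
    have h1 : (q - 1) * (q + 1) = q ^ 2 - 1 := by
      zify [hsq1, (by omega : 1 ≤ q)]; ring
    rw [mul_assoc, h1]
  have hCbcard : Nat.card (C ⧸ Z) = q * (q ^ 2 - 1) := by
    rw [Nat.card_congr iso.toEquiv, hmul, ← hFcard]
    exact Linear.card_PSL_two_of_even (F := F) (hFcard ▸ hqeven)
  have hCcard : Nat.card C = 2 * (q * (q ^ 2 - 1)) := by
    rw [← Subgroup.card_mul_index Z, hZcard, Subgroup.index_eq_card, hCbcard]
  refine ⟨hCcard, ?_⟩
  -- one class of involutions in the quotient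
  obtain ⟨u, hu, huN⟩ : ∃ u : C ⧸ Z, orderOf u = 2 ∧
      u ∉ normalizer ((Tb : Subgroup (C ⧸ Z)) : Set (C ⧸ Z)) := by
    by_contra hno
    push Not at hno
    refine hnn (normalizer_eq_top_iff.1 (eq_top_iff.2 fun g _ => ?_))
    refine (TwoFusion.map_conj_eq_self_iff_mem_normalizer _ g).1
      (eq_of_le_of_card_ge ?_ (by rw [card_map_of_injective (MulAut.conj g).injective]))
    rintro _ ⟨t, ht, rfl⟩
    rcases eq_or_ne t 1 with rfl | ht1
    · rw [map_one]; exact one_mem _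
    have hto : orderOf (g * t * g⁻¹) = 2 := by
      rw [GenDih.orderOf_conj]; exact orderOf_eq_prime (hTb_sq t ht) ht1
    have h2 : IsPGroup 2 ((Tb : Subgroup (C ⧸ Z)) ⊔ zpowers (g * t * g⁻¹) : Subgroup (C ⧸ Z)) :=
      Tb.2.to_sup_of_normal_left'
        (IsPGroup.of_card (n := 1) (by rw [Nat.card_zpowers, hto, pow_one]))
        (zpowers_le.2 (hno _ hto))
    exact Tb.3 h2 le_sup_left ▸ mem_sup_right (mem_zpowers _)
  obtain ⟨-, hNcard, -⟩ := Cfsg.Agent.S1227.result Tb hnc hnn hCb u hu huN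
  set NT := normalizer ((Tb : Subgroup (C ⧸ Z)) : Set (C ⧸ Z)) with hNT
  set yb := π ⟨e, hΩC he⟩ with hyb
  have hybo : orderOf yb = 2 := by
    refine orderOf_eq_prime (hTb_sq _ ⟨_, hΩT e he, rfl⟩) fun e0 => he1 ?_
    exact congrArg Subtype.val (hinjΩ ⟨e, he⟩ ⟨1, one_mem _⟩ (e0.trans (map_one π).symm))
  have htransT : ∀ t ∈ (Tb : Subgroup (C ⧸ Z)), t ≠ 1 → IsConj yb t := by
    let T1 : Set (C ⧸ Z) := {t | t ∈ (Tb : Subgroup (C ⧸ Z)) ∧ t ≠ 1}
    have hT1 : Nat.card T1 = q - 1 := by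
      have hset : T1 = ((Tb : Subgroup (C ⧸ Z)) : Set (C ⧸ Z)) \ {1} := by
        ext y; exact Iff.rfl
      rw [hset, Nat.card_coe_set_eq, Set.ncard_sdiff_singleton_of_mem (one_mem _),
        ← Nat.card_coe_set_eq]
      exact congrArg (· - 1) hTb_card
    have hcl : ∀ n : NT, (n : C ⧸ Z) * yb * (n : C ⧸ Z)⁻¹ ∈ T1 := fun n =>
      ⟨(mem_normalizer_iff.1 n.2 yb).1 ⟨_, hΩT e he, rfl⟩,
        fun e0 => ne_one_of_orderOf_two hybo (conj_eq_one_iff.1 e0)⟩
    have hdiv := Subgroup.card_mul_index ((Tb : Subgroup (C ⧸ Z)).subgroupOf NT)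
    rw [Nat.card_congr (subgroupOfEquivOfLe (le_normalizer :
      (Tb : Subgroup (C ⧸ Z)) ≤ NT)).toEquiv, hTb_card, hNcard,
      show Nat.card Tb = q from hTb_card] at hdiv
    have hidx := Nat.eq_of_mul_eq_mul_left (by omega : 0 < q) hdiv
    haveI := Fintype.ofFinite T1
    let φ : NT ⧸ (Tb : Subgroup (C ⧸ Z)).subgroupOf NT → T1 :=
      fun c => ⟨_, hcl (Quotient.out c)⟩
    have hinj : Function.Injective φ := by
      intro a b hab
      have h3 : ((Quotient.out a : NT) : C ⧸ Z) * yb * ((Quotient.out a : NT) : C ⧸ Z)⁻¹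
          = ((Quotient.out b : NT) : C ⧸ Z) * yb * ((Quotient.out b : NT) : C ⧸ Z)⁻¹ := congrArg Subtype.val hab
      rw [← QuotientGroup.out_eq' a, ← QuotientGroup.out_eq' b, QuotientGroup.eq, mem_subgroupOf]
      refine (hcentf e he he1).le (mem_centralizer_singleton_iff.2 ?_)
      rw [← hyb]
      push_cast
      calc ((Quotient.out a : NT) : C ⧸ Z)⁻¹ * ((Quotient.out b : NT) : C ⧸ Z) * yb
          = ((Quotient.out a : NT) : C ⧸ Z)⁻¹ * (((Quotient.out b : NT) : C ⧸ Z) * yb * ((Quotient.out b : NT) : C ⧸ Z)⁻¹)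
              * ((Quotient.out b : NT) : C ⧸ Z) := by group
        _ = ((Quotient.out a : NT) : C ⧸ Z)⁻¹ * (((Quotient.out a : NT) : C ⧸ Z) * yb * ((Quotient.out a : NT) : C ⧸ Z)⁻¹)
              * ((Quotient.out b : NT) : C ⧸ Z) := by rw [h3]
        _ = _ := by group
    have hbij := (Nat.bijective_iff_injective_and_card φ).2
      ⟨hinj, by rw [← Subgroup.index_eq_card, hidx, hT1]⟩
    intro t ht ht1
    obtain ⟨c, hc⟩ := hbij.2 ⟨t, ht, ht1⟩
    exact isConj_iff.2 ⟨((Quotient.out c : NT) : C ⧸ Z), congrArg Subtype.val hc⟩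
  have hone : ∀ t : C ⧸ Z, orderOf t = 2 → IsConj yb t := by
    intro t ht
    obtain ⟨d, f, hf, hf1, hdt⟩ := hlift t ht
    refine (htransT _ ⟨_, hΩT f hf, rfl⟩ fun e0 => ?_).trans
      (isConj_iff.2 ⟨d⁻¹, by rw [← hdt]; group⟩)
    exact ne_one_of_orderOf_two ht (conj_eq_one_iff.1 (hdt.trans e0))
  have hncls : Nat.card (conjugatesOf yb) = q ^ 2 - 1 := by
    have h1 := ClassSize.card_centralizer_mul_ncard_conjugatesOf yb
    rw [hyb, hcentf e he he1, hTb_card, hCbcard, ← hyb] at h1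
    rw [Nat.card_coe_set_eq]
    exact Nat.eq_of_mul_eq_mul_left (by omega : 0 < q) h1
  have hWcard : Nat.card W = q ^ 2 - 1 := by
    rw [← hncls]
    have hWC : ∀ w ∈ W, w ∈ C := fun w hw => mem_centralizer_singleton_iff.2 hw.2
    have hπo : ∀ w : W, π ⟨w, hWC w w.2⟩ ∈ conjugatesOf yb := by
      intro w
      show IsConj yb _
      refine hone _ (orderOf_eq_prime ?_ fun e0 => ?_)
      · rw [← map_pow, show (⟨(w : G), hWC w w.2⟩ : C) ^ 2 = 1 from Subtype.ext (by
          show (w : G) ^ 2 = 1; rw [pow_two, sq_of_orderOf_two (hWo w w.2)]), map_one]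
      · rcases hZmem _ ((QuotientGroup.eq_one_iff _).1 e0) with e1 | e1
        · exact ne_one_of_orderOf_two (hWo w w.2) (congrArg Subtype.val e1)
        · exact hnotI _ w.2.1 (congrArg Subtype.val e1 ▸ IsConj.refl _)
    refine Nat.card_congr (Equiv.ofBijective
      (fun w : W => (⟨_, hπo w⟩ : conjugatesOf yb)) ⟨?_, ?_⟩)
    · intro a b hab
      rcases hZmem _ (QuotientGroup.eq.1 (congrArg Subtype.val hab)) with e0 | e0
      · exact Subtype.ext (inv_mul_eq_one.1 (congrArg Subtype.val e0))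
      · exfalso
        have e1 : (a : G)⁻¹ * b = r := congrArg Subtype.val e0
        have e2 : (b : G) = r * a := by
          rw [← a.2.2, ← e1, mul_inv_cancel_left]
        exact hnotI _ b.2.1 (e2 ▸ hrW a a.2)
    · rintro ⟨y, hy⟩
      obtain ⟨d, hd⟩ := isConj_iff.1 (show IsConj yb y from hy)
      obtain ⟨d', rfl⟩ := QuotientGroup.mk'_surjective Z d
      refine ⟨⟨(d' : G) * e * (d' : G)⁻¹, isConj_iff.2 ⟨d', rfl⟩,
        hconj_cent d' d'.2 e (h.omega_central he hr).symm⟩, Subtype.ext ?_⟩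
      show π _ = y
      rw [← hd, hyb, ← map_inv, ← map_mul, ← map_mul]
      rfl
  refine ⟨x, ?_, by rw [hGH, hWcard]⟩
  rw [hWcard] at hxN
  omega

omit hΩ in
set_option maxHeartbeats 1000000 in
/-- `A₂` is elementary abelian. -/
theorem odd_squares : Odd (Nat.card h.squares) := by
  classical
  haveI : Fact (Nat.Prime 2) := ⟨Nat.prime_two⟩
  by_contra hne
  obtain ⟨s₀, hs₀⟩ := exists_prime_orderOf_dvd_card' (G := h.squares) 2
    (even_iff_two_dvd.1 (Nat.not_odd_iff_even.1 hne))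
  have hs₀o : orderOf (s₀ : G) = 2 := by rw [Subgroup.orderOf_coe]; exact hs₀
  have hs₀Ω : (s₀ : G) ∈ h.omega :=
    h.mem_omega_of_inv (h.le (h.squares_le s₀.2)) (h.squares_le s₀.2) hs₀o
  have hΩ : h.omega ≤ h.squares := by
    intro w hw
    rcases eq_or_ne w 1 with rfl | hw1
    · exact one_mem _
    obtain ⟨n, hn, hnw⟩ := h.trans_omega hk hs₀Ω (ne_one_of_orderOf_two hs₀o) hw hw1
    exact hnw ▸ h.normalizer_squares hn s₀.2
  obtain ⟨i, hi, hiA, hfix⟩ := h.exists_fixed_coset hk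
  obtain ⟨j, hj, hjA, hij⟩ : ∃ j ∈ H, j ∉ A ∧ ¬ IsConj i j := by
    by_contra hno
    push Not at hno
    have hAle : A ≤ h.squares := by
      intro a ha
      have hia : i * a ∉ A := fun hA => hiA (by simpa using A.mul_mem hA (A.inv_mem ha))
      have hiaH : i * a ∈ H := mul_mem hi (h.le ha)
      obtain ⟨n, hn, hnia⟩ := h.fusion_out hk hi hiA hiaH hia (hno _ hiaH hia)
      obtain ⟨x, hx, hnx⟩ := hfix n hn
      rw [hnia] at hnx
      exact mul_left_cancel hnx ▸ hx
    have h1 := card_le_of_le hAle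
    rw [h.card_A] at h1
    have h2 : 0 < Nat.card h.squares := Nat.card_pos
    nlinarith
  set q := Nat.card h.omega with hq
  set s := Nat.card h.squares with hs
  obtain ⟨hCi, x, hx, hGn⟩ := h.key_card hk hΩ hi hiA
  obtain ⟨hCj, -⟩ := h.key_card hk hΩ hj hjA
  obtain ⟨e, he, he1⟩ := h.exists_omega_ne_one
  have hio := h.orderOf_out hi hiA
  have hjo := h.orderOf_out hj hjA
  set X : Set G := {u | IsConj i u} with hX
  set Y : Set G := {v | IsConj j v} with hY
  set Fc : Set G := {z | IsConj e z} with hF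
  have hXY : ∀ u ∈ X, ∀ v ∈ Y, orderOf u = 2 ∧ orderOf v = 2 ∧ ¬ IsConj u v := fun u hu v hv =>
    ⟨by rw [← Invol.orderOf_eq_of_isConj hu, hio], by rw [← Invol.orderOf_eq_of_isConj hv, hjo],
      fun huv => hij ((hu.trans huv).trans hv.symm)⟩
  have hconjr : ∀ {r₀ z v}, r₀ ∈ H → r₀ ∉ A → z ∈ H → z ∉ A → orderOf v = 2 → IsConj r₀ v →
      z * v = v * z → IsConj r₀ z := by
    intro r₀ z v hr₀ hr₀A hz hzA hv hrv hzv
    obtain ⟨c, hc, hcv | ⟨h1, h2, h3⟩⟩ := h.inv_conj_into_cent hk hz hzA hv hzv.symm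
    · exact absurd (hrv.trans (isConj_iff.2 ⟨c, rfl⟩)).symm (h.not_isConj_out hk hcv
        (fun e0 => ne_one_of_orderOf_two hv (conj_eq_one_iff.1 e0)) hr₀ hr₀A)
    · have h4 := h.isConj_r_mul_omega hk hΩ hz hzA h3
      rw [← mul_assoc, h.sq z hz hzA, one_mul] at h4
      exact (hrv.trans (isConj_iff.2 ⟨c, rfl⟩)).trans h4.symm
  have hall : ∀ u ∈ X, ∀ v ∈ Y, zc u v ∈ Fc := by
    intro u hu v hv
    obtain ⟨huo, hvo, hnc⟩ := hXY u hu v hv
    obtain ⟨hzo, hzu, hzv⟩ := zc_spec huo hvo hnc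
    obtain ⟨g, hg⟩ := h.exists_conj_mem hk hzo
    have hz'o : orderOf (g * zc u v * g⁻¹) = 2 := by rw [GenDih.orderOf_conj, hzo]
    by_cases hzA : g * zc u v * g⁻¹ ∈ A
    · obtain ⟨n, -, hn⟩ := h.trans_omega hk he he1 (h.mem_omega_of_inv hg hzA hz'o)
        (ne_one_of_orderOf_two hz'o)
      exact (isConj_iff.2 ⟨n, hn⟩ : IsConj e _).trans (isConj_iff.2 ⟨g⁻¹, by group⟩)
    · exfalso
      have hcu : g * zc u v * g⁻¹ * (g * u * g⁻¹) = g * u * g⁻¹ * (g * zc u v * g⁻¹) := by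
        rw [show g * zc u v * g⁻¹ * (g * u * g⁻¹) = g * (zc u v * u) * g⁻¹ by group, hzu]; group
      have hcv : g * zc u v * g⁻¹ * (g * v * g⁻¹) = g * v * g⁻¹ * (g * zc u v * g⁻¹) := by
        rw [show g * zc u v * g⁻¹ * (g * v * g⁻¹) = g * (zc u v * v) * g⁻¹ by group, hzv]; group
      exact hij ((hconjr hi hiA hg hzA (by rw [GenDih.orderOf_conj, huo])
        (hu.trans (isConj_iff.2 ⟨g, rfl⟩)) hcu).trans
        (hconjr hj hjA hg hzA (by rw [GenDih.orderOf_conj, hvo])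
          (hv.trans (isConj_iff.2 ⟨g, rfl⟩)) hcv).symm)
  have hcount := card_pairs (⊤ : Subgroup G) X Y Fc e
    (fun g _ x hx => hx.trans (isConj_iff.2 ⟨g, rfl⟩))
    (fun g _ x hx => hx.trans (isConj_iff.2 ⟨g, rfl⟩))
    (fun z hz => by obtain ⟨g, hg⟩ := isConj_iff.1 hz; exact ⟨g, mem_top g, hg⟩) hall
  -- the pairs inside `H`
  set XH : Set G := {u | u ∈ H ∧ IsConj i u} with hXH
  set YH : Set G := {v | v ∈ H ∧ IsConj j v} with hYH
  set Om : Set G := {f | f ∈ h.omega ∧ f ≠ 1} with hOm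
  have hout : ∀ {r₀ u}, r₀ ∈ H → r₀ ∉ A → u ∈ H → orderOf u = 2 → IsConj r₀ u → u ∉ A := by
    intro r₀ u hr₀ hr₀A hu huo hc hA
    exact h.not_isConj_out hk (h.mem_omega_of_inv hu hA huo) (ne_one_of_orderOf_two huo) hr₀ hr₀A
      hc.symm
  have hcountH := card_pairs (normalizer (H : Set G)) XH YH Om e
    (fun g hg x hx => ⟨(mem_normalizer_iff.1 hg x).1 hx.1, hx.2.trans (isConj_iff.2 ⟨g, rfl⟩)⟩)
    (fun g hg x hx => ⟨(mem_normalizer_iff.1 hg x).1 hx.1, hx.2.trans (isConj_iff.2 ⟨g, rfl⟩)⟩)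
    (fun z hz => h.trans_omega hk he he1 hz.1 hz.2)
    (fun u hu v hv => by
      obtain ⟨huo, hvo, hnc⟩ := hXY u hu.2 v hv.2
      obtain ⟨hzo, -, -⟩ := zc_spec huo hvo hnc
      have hzA : zc u v ∈ A := pow_mem (h.mul_out u hu.1 (hout hi hiA hu.1 huo hu.2) v hv.1
        (hout hj hjA hv.1 hvo hv.2)) _
      exact ⟨h.mem_omega_of_inv (h.le hzA) hzA hzo, ne_one_of_orderOf_two hzo⟩)
  have hsame : Nat.card {p : XH × YH // zc (p.1 : G) p.2 = e}
      = Nat.card {p : X × Y // zc (p.1 : G) p.2 = e} := by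
    have hin : ∀ p : {p : X × Y // zc (p.1 : G) p.2 = e}, (p.1.1 : G) ∈ H ∧ (p.1.2 : G) ∈ H := by
      rintro ⟨⟨⟨u, hu⟩, ⟨v, hv⟩⟩, hz⟩
      obtain ⟨huo, hvo, hnc⟩ := hXY u hu v hv
      obtain ⟨-, hzu, hzv⟩ := zc_spec huo hvo hnc
      change zc u v = e at hz
      rw [hz] at hzu hzv
      exact ⟨(h.cent_omega he he1).le (mem_centralizer_singleton_iff.2 hzu.symm),
        (h.cent_omega he he1).le (mem_centralizer_singleton_iff.2 hzv.symm)⟩
    exact Nat.card_congr
      { toFun := fun p => ⟨(⟨p.1.1, p.1.1.2.2⟩, ⟨p.1.2, p.1.2.2.2⟩), p.2⟩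
        invFun := fun p => ⟨(⟨p.1.1, (hin p).1, p.1.1.2⟩, ⟨p.1.2, (hin p).2, p.1.2.2⟩), p.2⟩
        left_inv := fun p => rfl
        right_inv := fun p => rfl }
  have hXHcard : Nat.card XH = s := by
    refine (Nat.card_congr (Equiv.ofBijective (fun y : h.squares => (⟨i * y,
      mul_mem hi (h.le (h.squares_le y.2)), ?_⟩ : XH)) ⟨?_, ?_⟩)).symm
    · obtain ⟨a, -, ha⟩ := h.isConj_mul_square hi hiA y.2
      exact isConj_iff.2 ⟨a, ha⟩
    · intro a b hab
      exact Subtype.ext (mul_left_cancel (congrArg Subtype.val hab))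
    · rintro ⟨u, hu, hc⟩
      have huo : orderOf u = 2 := by rw [← Invol.orderOf_eq_of_isConj hc, hio]
      obtain ⟨n, hn, hnu⟩ := h.fusion_out hk hi hiA hu (hout hi hiA hu huo hc) hc
      obtain ⟨y, hy, hny⟩ := hfix n hn
      exact ⟨⟨y, hy⟩, Subtype.ext (hny.symm.trans hnu)⟩
  obtain ⟨m, hm⟩ : ∃ m, Nat.card YH = s * m := by
    refine ⟨Nat.card ((QuotientGroup.mk : G → G ⧸ h.squares) '' YH), ?_⟩
    have hsat : (QuotientGroup.mk : G → G ⧸ h.squares) ⁻¹'
        ((QuotientGroup.mk : G → G ⧸ h.squares) '' YH) = YH := by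
      refine Set.Subset.antisymm ?_ (Set.subset_preimage_image _ _)
      rintro v' ⟨v, ⟨hv, hc⟩, hvv⟩
      have hvo : orderOf v = 2 := by rw [← Invol.orderOf_eq_of_isConj hc, hjo]
      have hz := QuotientGroup.eq.1 hvv
      obtain ⟨a, ha, hav⟩ := h.isConj_mul_square hv (hout hj hjA hv hvo hc) hz
      rw [mul_inv_cancel_left] at hav
      exact ⟨hav ▸ mul_mem (mul_mem (h.le ha) hv) (inv_mem (h.le ha)),
        hc.trans (isConj_iff.2 ⟨a, hav⟩)⟩
    calc Nat.card YH = Nat.card ((QuotientGroup.mk : G → G ⧸ h.squares) ⁻¹'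
          ((QuotientGroup.mk : G → G ⧸ h.squares) '' YH)) := by rw [hsat]
      _ = _ := by rw [Nat.card_congr (QuotientGroup.preimageMkEquivSubgroupProdSet _ _), Nat.card_prod]
  -- the class sizes
  set fib := Nat.card {p : X × Y // zc (p.1 : G) p.2 = e} with hfibdef
  rw [hsame, hXHcard, hm, show Nat.card Om = q - 1 from h.card_omega_sharp] at hcountH
  have hI : Nat.card (centralizer ({i} : Set G)) * Nat.card X = Nat.card G := by
    rw [← ClassSize.card_centralizer_mul_ncard_conjugatesOf i, Nat.card_coe_set_eq]; rfl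
  have hJ : Nat.card (centralizer ({j} : Set G)) * Nat.card Y = Nat.card G := by
    rw [← ClassSize.card_centralizer_mul_ncard_conjugatesOf j, Nat.card_coe_set_eq]; rfl
  have hFc : Nat.card H * Nat.card Fc = Nat.card G := by
    rw [← ClassSize.card_centralizer_mul_ncard_conjugatesOf e, h.cent_omega he he1,
      Nat.card_coe_set_eq]; rfl
  rw [hCi] at hI
  rw [hCj] at hJ
  have hHc : Nat.card H = 2 * (q * s) := by rw [h.card_H, h.card_A]
  rw [hHc] at hFc hGn
  have hq4 : 4 ≤ q := hk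
  have hs0 : 0 < s := Nat.card_pos
  have hF0 : 0 < Nat.card Fc := by
    haveI : Nonempty Fc := ⟨⟨e, IsConj.refl e⟩⟩
    exact Nat.card_pos
  set n := q ^ 2 - 1 with hn
  have hnq : n + 1 = q ^ 2 := by
    rw [hn]; exact Nat.sub_add_cancel (Nat.one_le_pow _ _ (by omega))
  have hn0 : 0 < n := by nlinarith
  have hF : Nat.card Fc = n * x := by
    rw [hGn] at hFc
    exact Nat.eq_of_mul_eq_mul_left (by positivity) hFc
  have hGpos : 0 < Nat.card G := Nat.card_pos
  have hx0 : 0 < x := by nlinarith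
  have e1 : (2 * (q * n)) * (2 * (q * n)) * fib * (n * x) = Nat.card G * Nat.card G := by
    calc (2 * (q * n)) * (2 * (q * n)) * fib * (n * x)
        = (2 * (q * n)) * (2 * (q * n)) * (Nat.card Fc * fib) := by rw [hF]; ring
      _ = ((2 * (q * n)) * Nat.card X) * ((2 * (q * n)) * Nat.card Y) := by rw [← hcount]; ring
      _ = _ := by rw [hI, hJ]
  have e2 : n * fib = s * s * x := by
    rw [hGn] at e1
    have e1' : (4 * q * q * n * n * x) * (n * fib) = (4 * q * q * n * n * x) * (s * s * x) := by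
      calc (4 * q * q * n * n * x) * (n * fib)
          = (2 * (q * n)) * (2 * (q * n)) * fib * (n * x) := by ring
        _ = _ := by rw [e1]; ring
    exact Nat.eq_of_mul_eq_mul_left (by positivity) e1'
  have e3 : n * m = (q - 1) * x := by
    refine Nat.eq_of_mul_eq_mul_left (show 0 < s * s by positivity) ?_
    calc s * s * (n * m) = n * (s * (s * m)) := by ring
      _ = n * ((q - 1) * fib) := by rw [hcountH]
      _ = (q - 1) * (n * fib) := by ring
      _ = (q - 1) * (s * s * x) := by rw [e2]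
      _ = _ := by ring
  obtain ⟨p, hp⟩ : ∃ p, q = p + 1 := ⟨q - 1, by omega⟩
  have hnp : n = p * (q + 1) := by
    have h1 : p * (q + 1) + 1 = q ^ 2 := by rw [hp]; ring
    omega
  rw [hnp, show q - 1 = p by omega, mul_assoc] at e3
  have e4 : (q + 1) * m = x := Nat.eq_of_mul_eq_mul_left (show 0 < p by omega) e3
  -- `q + 1 ∣ 3`
  have e5 : (q + 1) ∣ 3 := by
    have hz : ((q : ℤ) + 1) * ((m : ℤ) - q + 2) = 3 := by
      have h1 : ((q : ℤ) + 1) * m = x := by exact_mod_cast e4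
      have h2 : (x : ℤ) + q = (q : ℤ) ^ 2 + 1 := by exact_mod_cast hx
      linear_combination h1 + h2
    have : ((q + 1 : ℕ) : ℤ) ∣ ((3 : ℕ) : ℤ) := ⟨_, by push_cast; exact hz.symm⟩
    exact Int.natCast_dvd_natCast.1 this
  have := Nat.le_of_dvd (by norm_num) e5
  omega

end DG

end Cfsg.Agent.GenDih
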