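import Cfsg.Agent.GenDih.RankOneCase
import Cfsg.Agent.GenDih.RTwoB
import Cfsg.Agent.GenDih.RTwoC

/-!
# Assembly for S3322
-/

set_option autoImplicit false

namespace Cfsg.Agent.GenDih

open Subgroup

universe u

/-- **The D-group theorem.** -/
theorem concl_of_dgroup {G : Type u} [Group G] [Finite G] (H A : Subgroup G) (hAH : A < H)
    (hD : ∀ x ∈ H, x ∉ A → x ^ 2 = 1) (h4 : 4 ∣ Nat.card H)
    (hC : ∀ j ∈ H, orderOf j = 2 → (∀ h ∈ H, h * j = j * h) →
      centralizer ({j} : Set G) = H)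
    (hns : ¬ Group.IsSolvable G) : Concl G := by
  classical
  have hCj : ∀ j ∈ H, j * j = 1 → j ≠ 1 → (∀ x ∈ H, x * j = j * x) →
      centralizer ({j} : Set G) = H :=
    fun j hj h2 h1 hc => hC j hj (orderOf_eq_prime (by rw [pow_two]; exact h2) h1) hc
  by_cases hel : ∀ x ∈ H, x * x = 1
  · refine concl_of_elementary hel h4 (fun j hj hj1 => hCj j hj (hel j hj) hj1 fun x hx => ?_) hns
    have h := hel _ (H.mul_mem hx hj)
    calc x * j = (x * j)⁻¹ := (inv_eq_of_mul_eq_one_right h).symm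
      _ = j * x := by
        rw [mul_inv_rev, inv_eq_of_mul_eq_one_right (hel j hj),
          inv_eq_of_mul_eq_one_right (hel x hx)]
  push Not at hel
  obtain ⟨a₀, ha₀, ha₀2⟩ := hel
  have hsq : ∀ x ∈ H, x ∉ A → x * x = 1 := fun x hx hxA => by rw [← pow_two]; exact hD x hx hxA
  have ha₀A : a₀ ∈ A := by_contra fun h => ha₀2 (hsq a₀ ha₀ h)
  have hinv : ∀ x ∈ H, x ∉ A → ∀ a ∈ A, x * a * x⁻¹ = a⁻¹ := by
    intro x hx hxA a ha
    have hxa : x * a ∉ A := fun h => hxA (by simpa using A.mul_mem h (A.inv_mem ha))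
    have h1 := hsq _ (H.mul_mem hx (hAH.le ha)) hxa
    rw [inv_eq_of_mul_eq_one_right (hsq x hx hxA)]
    exact eq_inv_of_mul_eq_one_left (by rw [← h1]; group)
  obtain ⟨r, hr, hrA⟩ := SetLike.exists_of_lt hAH
  have hcomm : ∀ a ∈ A, ∀ b ∈ A, a * b = b * a := by
    intro a ha b hb
    have h1 := hinv r hr hrA _ (A.mul_mem ha hb)
    rw [show r * (a * b) * r⁻¹ = r * a * r⁻¹ * (r * b * r⁻¹) by group, hinv r hr hrA a ha,
      hinv r hr hrA b hb, mul_inv_rev] at h1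
    exact inv_injective (by rw [mul_inv_rev, mul_inv_rev]; exact h1.symm)
  have hmul : ∀ x ∈ H, x ∉ A → ∀ y ∈ H, y ∉ A → x * y ∈ A := by
    intro x hx hxA y hy hyA
    by_contra hxy
    have h1 := hinv _ (H.mul_mem hx hy) hxy a₀ ha₀A
    rw [show x * y * a₀ * (x * y)⁻¹ = x * (y * a₀ * y⁻¹) * x⁻¹ by group, hinv y hy hyA a₀ ha₀A,
      hinv x hx hxA _ (A.inv_mem ha₀A), inv_inv] at h1
    exact ha₀2 (eq_inv_iff_mul_eq_one.1 h1)
  have h : DG H A := ⟨hAH.le, hcomm, hsq, hinv, hmul, ⟨r, hr, hrA⟩, ⟨a₀, ha₀A, ha₀2⟩, h4,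
    fun j hj hj2 hj1 => hCj j (hAH.le hj) hj2 hj1 fun x hx => by
      by_cases hxA : x ∈ A
      · exact hcomm x hxA j hj
      · have := hinv x hx hxA j hj
        rw [inv_eq_of_mul_eq_one_right hj2] at this
        exact mul_inv_eq_iff_eq_mul.1 this, hns⟩
  obtain ⟨k, hk⟩ := h.card_omega_pow
  rcases Nat.lt_or_ge k 2 with hk2 | hk2
  · refine h.concl_of_omega_two ?_
    have h1 : 1 < Nat.card h.omega := by
      obtain ⟨e, he, he1⟩ := h.exists_omega_ne_one
      haveI : Nontrivial h.omega := ⟨⟨⟨e, he⟩, 1, fun h0 => he1 (congrArg Subtype.val h0)⟩⟩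
      exact Finite.one_lt_card
    rw [hk] at h1 ⊢
    interval_cases k
    · simp at h1
    · rfl
  · have h4' : 4 ≤ Nat.card h.omega := by
      rw [hk]
      calc 4 = 2 ^ 2 := by norm_num
        _ ≤ 2 ^ k := Nat.pow_le_pow_right (by norm_num) hk2
    exact h.concl_of_odd_squares h4' (h.odd_squares h4')

end Cfsg.Agent.GenDih
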