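import Cfsg.Agent.GenDih.Loc
import Cfsg.Agent.AutPSL.Outer

/-!
# Extensions of `PSL(2, F)` inside its automorphism group

`pgl_of_index_two`: if `L ≅ PSL(2, F)` has index two and trivial centralizer in `X`, some involution
lies outside `L` and `X` has no elementary abelian subgroup of order eight, then `X ≅ PGL(2, F)`.
`mem_of_odd_small`: for `|F|` prime or nine, elements of odd order lie in `L`.
-/

set_option autoImplicit false
set_option linter.style.haveILetI false
set_option linter.unusedSectionVars false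

namespace Cfsg.Agent.GenDih

open Subgroup Matrix
open Cfsg.Agent.AutPSL

universe u

/-- No elementary abelian subgroup of order eight. -/
def RankTwo (X : Type*) [Group X] : Prop :=
  ∀ a b c : X, a * a = 1 → b * b = 1 → c * c = 1 → a * b = b * a → a * c = c * a → b * c = c * b →
    a ≠ 1 → b ≠ 1 → a ≠ b → c = 1 ∨ c = a ∨ c = b ∨ c = a * b

section Aut

variable {X : Type u} [Group X] {F : Type} [Field F]

local notation "PSL₂" => Matrix.ProjectiveSpecialLinearGroup (Fin 2) F
local notation "SL₂" => Matrix.SpecialLinearGroup (Fin 2) F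
local notation "GL₂" => GL (Fin 2) F

variable {L : Subgroup X} [L.Normal] (ι : L ≃* Matrix.ProjectiveSpecialLinearGroup (Fin 2) F)

/-- The action of `X` on `L ≅ PSL(2, F)`. -/
noncomputable def autHom : X →* MulAut (Matrix.ProjectiveSpecialLinearGroup (Fin 2) F) :=
  (MulAut.congr ι).toMonoidHom.comp MulAut.conjNormal

theorem autHom_apply (x : X) (l : L) : autHom ι x (ι l) = ι (MulAut.conjNormal x l) := by
  show ι (MulAut.conjNormal x (ι.symm (ι l))) = _
  rw [MulEquiv.symm_apply_apply]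

theorem autHom_of_mem (l : L) : autHom ι (l : X) = MulAut.conj (ι l) := by
  refine MulEquiv.ext fun p => ?_
  obtain ⟨m, rfl⟩ := ι.surjective p
  rw [autHom_apply, MulAut.conjNormal_val, MulAut.conj_apply, MulAut.conj_apply, map_mul, map_mul,
    map_inv]

theorem autHom_injective (hC : centralizer (L : Set X) = ⊥) : Function.Injective (autHom ι) := by
  rw [injective_iff_map_eq_one]
  intro x hx
  rw [← Subgroup.mem_bot, ← hC, mem_centralizer_iff]
  intro l hl
  have h1 := autHom_apply ι x ⟨l, hl⟩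
  rw [hx, MulAut.one_apply] at h1
  have h2 : l = x * l * x⁻¹ := by
    have := congrArg Subtype.val (ι.injective h1)
    rwa [MulAut.conjNormal_apply] at this
  calc l * x = (x * l * x⁻¹) * x := by rw [← h2]
    _ = x * l := inv_mul_cancel_right _ _

theorem conjAut_inner {g : GL₂} {μ : Fˣ} (h : GeneralLinearGroup.det g = μ * μ) :
    ∃ s : SL₂, (conjAut g : MulAut PSL₂) = MulAut.conj (proj s) := by
  have hmem : GeneralLinearGroup.scalar (Fin 2) μ⁻¹ * g ∈
      (SpecialLinearGroup.toGL : SL₂ →* GL₂).range := by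
    rw [Cfsg.Agent.Linear.range_toGL_eq_ker_det, MonoidHom.mem_ker, map_mul, det_sc, h]
    rw [pow_two, mul_mul_mul_comm, inv_mul_cancel, mul_one]
  obtain ⟨s, hs⟩ := hmem
  refine ⟨s, ?_⟩
  rw [← conjAut_toGL, hs, map_mul, conjAut_sc le_rfl, one_mul]

theorem exists_mem_of_square {g : GL₂} {μ : Fˣ} (h : GeneralLinearGroup.det g = μ * μ) :
    ∃ l : L, autHom ι (l : X) = conjAut g := by
  obtain ⟨s, hs⟩ := conjAut_inner h
  exact ⟨ι.symm (proj s), by rw [autHom_of_mem, MulEquiv.apply_symm_apply, hs]⟩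

end Aut

section Field

variable {F : Type} [Field F] [Fintype F]

theorem ringChar_ne_two (hodd : Odd (Fintype.card F)) : ringChar F ≠ 2 := fun h => by
  have h1 := (FiniteField.even_card_iff_char_two (F := F)).1 h
  obtain ⟨k, hk⟩ := hodd
  omega

theorem exists_sq_mul {ν ν' : Fˣ} (hodd : Odd (Fintype.card F)) (hν : ∀ μ : Fˣ, ν ≠ μ * μ)
    (hν' : ∀ μ : Fˣ, ν' ≠ μ * μ) : ∃ μ : Fˣ, ν' * ν⁻¹ = μ * μ := by
  have hcard : Nat.card Fˣ = Fintype.card F - 1 := by
    classical
    rw [Nat.card_eq_fintype_card, Fintype.card_units]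
  obtain ⟨k, hk⟩ := hodd
  have hidx : (powMonoidHom 2 : Fˣ →* Fˣ).range.index = 2 := by
    rw [IsCyclic.index_powMonoidHom_range, hcard, hk, show 2 * k + 1 - 1 = 2 * k by omega,
      Nat.gcd_mul_right_left]
  have hmem : ∀ a : Fˣ, a ∈ (powMonoidHom 2 : Fˣ →* Fˣ).range ↔ ∃ μ, a = μ * μ := by
    intro a
    constructor
    · rintro ⟨μ, rfl⟩; exact ⟨μ, by rw [powMonoidHom_apply, pow_two]⟩
    · rintro ⟨μ, rfl⟩; exact ⟨μ, by rw [powMonoidHom_apply, pow_two]⟩
  refine (hmem _).1 ((Subgroup.mul_mem_iff_of_index_two hidx).2 (iff_of_false ?_ ?_))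
  · rw [hmem]; exact fun ⟨μ, h⟩ => hν' μ h
  · rw [inv_mem_iff, hmem]; exact fun ⟨μ, h⟩ => hν μ h

end Field

variable {X : Type u} [Group X] {F : Type} [Field F] [Fintype F] {L : Subgroup X} [L.Normal]

local notation "PSL₂" => Matrix.ProjectiveSpecialLinearGroup (Fin 2) F
local notation "SL₂" => Matrix.SpecialLinearGroup (Fin 2) F
local notation "GL₂" => GL (Fin 2) F

theorem map_map_of_sq {σ : F ≃+* F} (h : σ * σ = 1) (g : GL₂) :
    GeneralLinearGroup.map σ.toRingHom (GeneralLinearGroup.map σ.toRingHom g) = g := by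
  refine Units.ext (Matrix.ext fun i j => ?_)
  exact DFunLike.congr_fun h _

theorem sq_of_involution {g : GL₂} {σ : F ≃+* F}
    (h : (conjAut g * fieldAut σ : MulAut PSL₂) * (conjAut g * fieldAut σ) = 1) :
    σ * σ = 1 ∧ g * GeneralLinearGroup.map σ.toRingHom g ∈ center GL₂ := by
  have h1 : (conjAut g * fieldAut σ : MulAut PSL₂) * (conjAut g * fieldAut σ)
      = conjAut (g * GeneralLinearGroup.map σ.toRingHom g) * fieldAut (σ * σ) := by
    rw [map_mul, map_mul, mul_assoc, ← mul_assoc (fieldAut σ), fieldAut_mul_conjAut]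
    simp only [mul_assoc]
  rw [h1] at h
  exact conj_field_eq_one le_rfl h

/-- If the twisted norm of `g` is scalar then `det g` is a square. -/
theorem det_square_of_field {g : GL₂} {σ : F ≃+* F} (hodd : Odd (Fintype.card F))
    (hσ : orderOf σ = 2) (hσσ : σ * σ = 1)
    (hc : g * GeneralLinearGroup.map σ.toRingHom g ∈ center GL₂) :
    ∃ μ : Fˣ, GeneralLinearGroup.det g = μ * μ := by
  obtain ⟨c, hc⟩ := exists_sc_of_center hc
  set y := GeneralLinearGroup.map σ.toRingHom g with hy
  have hfix : Units.map σ.toRingHom.toMonoidHom c = c := by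
    have h1 : y * g = GeneralLinearGroup.scalar (Fin 2) c := by
      rw [show y * g = g⁻¹ * (g * y) * g by group, hc, mul_assoc, sc_comm, inv_mul_cancel_left]
    have h2 : y * g = GeneralLinearGroup.scalar (Fin 2) (Units.map σ.toRingHom.toMonoidHom c) := by
      rw [← map_sc, ← hc, map_mul, ← hy, hy, map_map_of_sq hσσ]
    have h3 := congrArg (fun m : GL₂ => (m : Matrix (Fin 2) (Fin 2) F) 0 0) (h1.symm.trans h2)
    simp only [coe_sc, Matrix.smul_apply, Matrix.one_apply_eq, smul_eq_mul, mul_one] at h3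
    exact Units.ext h3.symm
  set ν := GeneralLinearGroup.det g with hν
  have hdy : GeneralLinearGroup.det y = Units.map σ.toRingHom.toMonoidHom ν := by
    refine Units.ext ?_
    rw [GeneralLinearGroup.val_det_apply]
    show ((g : Matrix (Fin 2) (Fin 2) F).map σ.toRingHom).det = σ.toRingHom (ν : F)
    rw [hν, GeneralLinearGroup.val_det_apply, RingHom.map_det]
    rfl
  set q₀ := Nat.card ↥(fixedField σ) with hq₀
  have hF : Fintype.card F = q₀ ^ 2 := by
    rw [← Nat.card_eq_fintype_card, card_fixedField_pow σ, hσ]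
  have happ : ∀ a : Fˣ, Units.map σ.toRingHom.toMonoidHom a = a ^ q₀ := fun a =>
    Units.ext (by rw [Units.val_pow_eq_pow_val]; exact involution_apply σ hσ rfl (a : F))
  have hdet : ν * ν ^ q₀ = c ^ 2 := by
    rw [← happ, ← hdy, hν, ← map_mul, hc, det_sc]
  have hcq : c ^ q₀ = c := (happ c).symm.trans hfix
  obtain ⟨j, hj⟩ : Odd q₀ := by
    rw [hF] at hodd
    exact (Nat.odd_pow_iff two_ne_zero).1 hodd
  have h2j : c ^ (2 * j) = 1 := by
    rw [hj, pow_succ] at hcq
    exact mul_eq_right.1 hcq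
  have hhalf : Fintype.card F / 2 = (2 * j + 2) * j := by
    rw [hF, hj, show (2 * j + 1) ^ 2 = 2 * ((2 * j + 2) * j) + 1 by ring]
    omega
  have hsq : IsSquare ν := by
    rw [FiniteField.unit_isSquare_iff (ringChar_ne_two hodd), hhalf, pow_mul,
      show 2 * j + 2 = q₀ + 1 by omega, pow_succ', hdet, ← pow_mul, h2j]
  exact hsq

variable [Finite X]

/-- **Index two extensions with an outer involution.** -/
theorem pgl_of_index_two (ι : L ≃* Matrix.ProjectiveSpecialLinearGroup (Fin 2) F)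
    (hidx : L.index = 2) (hC : centralizer (L : Set X) = ⊥) (hodd : Odd (Fintype.card F))
    (hrank : RankTwo X) {x : X} (hx : x * x = 1) (hxL : x ∉ L) :
    Nonempty (X ≃* Matrix.ProjGenLinGroup (Fin 2) F) := by
  set φ := autHom ι with hφ
  have hinj := autHom_injective ι hC
  obtain ⟨g, σ, hgσ⟩ := exists_decomp_two (φ x)
  have hnsq : σ = 1 → ∀ μ : Fˣ, GeneralLinearGroup.det g ≠ μ * μ := by
    intro hσ μ hμ
    obtain ⟨l, hl⟩ := exists_mem_of_square ι hμ
    rw [hσ, map_one, mul_one, ← hl] at hgσ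
    exact hxL (hinj hgσ ▸ l.2)
  have h2 : (conjAut g * fieldAut σ : MulAut PSL₂) * (conjAut g * fieldAut σ) = 1 := by
    rw [← hgσ, ← map_mul, hx, map_one]
  obtain ⟨hσσ, hcen⟩ := sq_of_involution h2
  by_cases hσ1 : σ = 1
  · -- inner-diagonal
    subst hσ1
    have hgσ' : φ x = conjAut g := by rw [hgσ, map_one, mul_one]
    have hrange : φ.range = Cfsg.inndiagPSL 2 F := by
      rw [inndiagPSL_eq_range]
      refine le_antisymm ?_ ?_
      · rintro _ ⟨y, rfl⟩
        have hL : ∀ l : L, φ (l : X) ∈ (conjAut : GL₂ →* MulAut PSL₂).range := fun l => by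
          obtain ⟨s, hs⟩ := proj_surjective (ι l)
          exact ⟨SpecialLinearGroup.toGL s, by rw [hφ, autHom_of_mem, conjAut_toGL, hs]⟩
        by_cases hy : y ∈ L
        · exact hL ⟨y, hy⟩
        · have hyx : y * x ∈ L :=
            (Subgroup.mul_mem_iff_of_index_two hidx).2 (iff_of_false hy hxL)
          have h1 : φ y = φ (y * x) * (φ x)⁻¹ := by rw [map_mul, mul_inv_cancel_right]
          rw [h1]
          exact mul_mem (hL ⟨_, hyx⟩) (inv_mem ⟨g, hgσ'.symm⟩)
      · rintro _ ⟨g', rfl⟩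
        by_cases hsq : ∃ μ : Fˣ, GeneralLinearGroup.det g' = μ * μ
        · obtain ⟨μ, hμ⟩ := hsq
          obtain ⟨l, hl⟩ := exists_mem_of_square ι hμ
          exact ⟨l, hl⟩
        · push Not at hsq
          obtain ⟨μ, hμ⟩ := exists_sq_mul hodd (hnsq rfl) hsq
          obtain ⟨l, hl⟩ := exists_mem_of_square ι (g := g' * g⁻¹) (μ := μ)
            (by rw [map_mul, map_inv, hμ])
          refine ⟨(l : X) * x, ?_⟩
          rw [map_mul, hgσ', hφ, hl, map_mul, map_inv, inv_mul_cancel_right]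
    exact ⟨(MonoidHom.ofInjective hinj).trans
      ((MulEquiv.subgroupCongr hrange).trans (pglEquiv le_rfl).symm)⟩
  · -- a field automorphism is impossible
    exfalso
    have hσ2 : orderOf σ = 2 := orderOf_eq_prime (by rw [pow_two]; exact hσσ) hσ1
    obtain ⟨μ, hμ⟩ := det_square_of_field hodd hσ2 hσσ hcen
    obtain ⟨l, hl⟩ := exists_mem_of_square ι hμ
    set y := (l : X)⁻¹ * x with hy
    have hφy : φ y = fieldAut σ := by
      rw [hy, map_mul, map_inv, hgσ, hφ, hl, inv_mul_cancel_left]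
    have hyL : y ∉ L := fun h => hxL (by
      have := L.mul_mem l.2 h
      rwa [hy, mul_inv_cancel_left] at this)
    have h2F : (2 : F) ≠ 0 := Ring.two_ne_zero (ringChar_ne_two hodd)
    obtain ⟨i, hi⟩ : IsSquare (-1 : F) := by
      rw [FiniteField.isSquare_neg_one_iff]
      intro h3
      have hF : Fintype.card F = Nat.card ↥(fixedField σ) ^ 2 := by
        rw [← Nat.card_eq_fintype_card, card_fixedField_pow σ, hσ2]
      rw [hF, pow_two, Nat.mul_mod] at h3
      have h4 := Nat.mod_lt (Nat.card ↥(fixedField σ)) (show 4 > 0 by norm_num)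
      interval_cases h : Nat.card ↥(fixedField σ) % 4 <;> simp_all
    have hi0 : i ≠ 0 := fun h => by rw [h, mul_zero, neg_eq_zero] at hi; exact one_ne_zero hi
    obtain ⟨H₀, hH₀⟩ : ∃ H : SL₂, (H : Matrix (Fin 2) (Fin 2) F) = !![i, 0; 0, -i] :=
      ⟨⟨!![i, 0; 0, -i], by rw [Matrix.det_fin_two]; simp; linear_combination hi⟩, rfl⟩
    obtain ⟨W₀, hW₀⟩ : ∃ W : SL₂, (W : Matrix (Fin 2) (Fin 2) F) = !![0, 1; -1, 0] :=
      ⟨weyl F, rfl⟩
    have hfixH : proj (slField σ H₀) = proj H₀ := by
      have hσi : σ i = i ∨ σ i = -i := by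
        refine mul_self_eq_mul_self_iff.1 ?_
        rw [← map_mul, ← hi, map_neg, map_one]
      rw [eq_comm, proj_eq_proj_iff]
      rcases hσi with h | h
      · refine ⟨1, ?_⟩
        ext a b
        fin_cases a <;> fin_cases b <;> simp [slField_coe, hH₀, h]
      · refine ⟨-1, ?_⟩
        ext a b
        fin_cases a <;> fin_cases b <;> simp [slField_coe, hH₀, h]
    have hfixW : proj (slField σ W₀) = proj W₀ := by
      congr 1
      apply Subtype.ext
      ext a b
      fin_cases a <;> fin_cases b <;> simp [slField_coe, hW₀]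
    set a := ((ι.symm (proj H₀) : L) : X) with ha
    set b := ((ι.symm (proj W₀) : L) : X) with hb
    have hφa : φ a = MulAut.conj (proj H₀) := by
      rw [ha, hφ, autHom_of_mem, MulEquiv.apply_symm_apply]
    have hφb : φ b = MulAut.conj (proj W₀) := by
      rw [hb, hφ, autHom_of_mem, MulEquiv.apply_symm_apply]
    have hinjL : ∀ p p' : PSL₂, ((ι.symm p : L) : X) = ((ι.symm p' : L) : X) → p = p' :=
      fun p p' h => ι.symm.injective (Subtype.ext h)
    have hHH : proj H₀ * proj H₀ = 1 := by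
      rw [← map_mul, ← map_one (proj : SL₂ →* PSL₂), eq_comm, proj_eq_proj_iff]
      refine ⟨-1, ?_⟩
      show (H₀ : Matrix (Fin 2) (Fin 2) F) * (H₀ : Matrix (Fin 2) (Fin 2) F)
        = (-1 : F) • (1 : Matrix (Fin 2) (Fin 2) F)
      ext r s
      fin_cases r <;> fin_cases s <;> simp [hH₀, Matrix.mul_apply, Fin.sum_univ_two, ← hi]
    have hWW : proj W₀ * proj W₀ = 1 := by
      rw [← map_mul, ← map_one (proj : SL₂ →* PSL₂), eq_comm, proj_eq_proj_iff]
      refine ⟨-1, ?_⟩
      show (W₀ : Matrix (Fin 2) (Fin 2) F) * (W₀ : Matrix (Fin 2) (Fin 2) F)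
        = (-1 : F) • (1 : Matrix (Fin 2) (Fin 2) F)
      ext r s
      fin_cases r <;> fin_cases s <;> simp [hW₀, Matrix.mul_apply, Fin.sum_univ_two]
    have hHW : proj H₀ * proj W₀ = proj W₀ * proj H₀ := by
      rw [← map_mul, ← map_mul, eq_comm, proj_eq_proj_iff]
      refine ⟨-1, ?_⟩
      show (H₀ : Matrix (Fin 2) (Fin 2) F) * (W₀ : Matrix (Fin 2) (Fin 2) F)
        = (-1 : F) • ((W₀ : Matrix (Fin 2) (Fin 2) F) * (H₀ : Matrix (Fin 2) (Fin 2) F))
      ext r s
      fin_cases r <;> fin_cases s <;> simp [hH₀, hW₀, Matrix.mul_apply, Fin.sum_univ_two]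
    have hH1 : proj H₀ ≠ 1 := by
      rw [← map_one (proj : SL₂ →* PSL₂), ne_eq, eq_comm, proj_eq_proj_iff]
      rintro ⟨c, hc⟩
      have h00 := congrFun (congrFun hc 0) 0
      have h11 := congrFun (congrFun hc 1) 1
      simp [hH₀] at h00 h11
      apply mul_ne_zero h2F hi0
      linear_combination h00 - h11
    have hW1 : proj W₀ ≠ 1 := by
      rw [← map_one (proj : SL₂ →* PSL₂), ne_eq, eq_comm, proj_eq_proj_iff]
      rintro ⟨c, hc⟩
      have h01 := congrFun (congrFun hc 0) 1
      simp [hW₀] at h01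
    have hne : proj H₀ ≠ proj W₀ := by
      rw [ne_eq, proj_eq_proj_iff]
      rintro ⟨c, hc⟩
      have h01 := congrFun (congrFun hc 0) 1
      simp [hH₀, hW₀] at h01
    have hcomm : ∀ (s : SL₂), proj (slField σ s) = proj s →
        fieldAut σ * MulAut.conj (proj s) = MulAut.conj (proj s) * fieldAut σ := by
      intro s hs
      refine MulEquiv.ext fun p => ?_
      show fieldAut σ (proj s * p * (proj s)⁻¹) = proj s * fieldAut σ p * (proj s)⁻¹
      rw [map_mul, map_mul, map_inv, fieldAut_proj, hs]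
    have hya : a * y = y * a := hinj (by
      rw [map_mul φ a y, map_mul φ y a]
      rw [hφa, hφy, hcomm _ hfixH])
    have hyb : b * y = y * b := hinj (by
      rw [map_mul φ b y, map_mul φ y b]
      rw [hφb, hφy, hcomm _ hfixW])
    have hyy : y * y = 1 := hinj (by
      rw [map_mul, map_one]
      show φ y * φ y = 1
      rw [hφy, ← map_mul, hσσ, map_one])
    have haa : a * a = 1 := by
      rw [ha, ← Subgroup.coe_mul, ← map_mul, hHH, map_one, Subgroup.coe_one]
    have hbb : b * b = 1 := by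
      rw [hb, ← Subgroup.coe_mul, ← map_mul, hWW, map_one, Subgroup.coe_one]
    have hab : a * b = b * a := by
      rw [ha, hb, ← Subgroup.coe_mul, ← Subgroup.coe_mul, ← map_mul ι.symm, ← map_mul ι.symm, hHW]
    have ha1 : a ≠ 1 := fun h => hH1 (hinjL _ _ (by rw [← ha, h, map_one, Subgroup.coe_one]))
    have hb1 : b ≠ 1 := fun h => hW1 (hinjL _ _ (by rw [← hb, h, map_one, Subgroup.coe_one]))
    have hab1 : a ≠ b := fun h => hne (hinjL _ _ h)
    rcases hrank a b y haa hbb hyy hab hya hyb ha1 hb1 hab1 with h | h | h | h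
    · exact hyL (h ▸ L.one_mem)
    · exact hyL (h ▸ (ι.symm (proj H₀)).2)
    · exact hyL (h ▸ (ι.symm (proj W₀)).2)
    · exact hyL (h ▸ L.mul_mem (ι.symm (proj H₀)).2 (ι.symm (proj W₀)).2)

/-- For `|F|` prime or nine, elements of odd order lie in `L`. -/
theorem mem_of_odd_small (ι : L ≃* Matrix.ProjectiveSpecialLinearGroup (Fin 2) F)
    (hC : centralizer (L : Set X) = ⊥) (hq : Fintype.card F = 9 ∨ (Fintype.card F).Prime) {v : X}
    (hv : Odd (orderOf v)) : v ∈ L := by
  set φ := autHom ι with hφ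
  have hinj := autHom_injective ι hC
  obtain ⟨g, σ, hgσ⟩ := exists_decomp_two (φ v)
  have hpow : ∀ k : ℕ, ∃ g' : GL₂, (φ v) ^ k = conjAut g' * fieldAut (σ ^ k) := by
    intro k
    induction k with
    | zero => exact ⟨1, by simp⟩
    | succ k ih =>
      obtain ⟨g', hg'⟩ := ih
      refine ⟨g' * GeneralLinearGroup.map (σ ^ k).toRingHom g, ?_⟩
      rw [pow_succ, hg', hgσ, map_mul, pow_succ σ, map_mul (fieldAut (F := F) (n := 2)),
        mul_assoc (conjAut g'), ← mul_assoc (fieldAut (σ ^ k)), fieldAut_mul_conjAut]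
      simp only [mul_assoc]
  obtain ⟨g', hg'⟩ := hpow (orderOf v)
  rw [← map_pow, pow_orderOf_eq_one, map_one] at hg'
  have hσm := (conj_field_eq_one le_rfl hg'.symm).1
  have hσo : Odd (orderOf σ) := hv.of_dvd_nat (orderOf_dvd_of_pow_eq_one hσm)
  have hσ1 : σ = 1 := by
    rw [← orderOf_eq_one_iff]
    have hcard : Fintype.card F = Nat.card ↥(fixedField σ) ^ orderOf σ := by
      rw [← Nat.card_eq_fintype_card]; exact card_fixedField_pow σ
    have h1 : 2 ≤ Nat.card ↥(fixedField σ) := Finite.one_lt_card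
    rcases hq with h9 | hp
    · rw [h9] at hcard
      obtain ⟨k, hk⟩ := hσo
      rcases k with - | k
      · omega
      · have h3 : 2 ^ 3 ≤ Nat.card ↥(fixedField σ) ^ orderOf σ :=
          (Nat.pow_le_pow_left h1 3).trans (Nat.pow_le_pow_right (by omega) (by omega))
        have h3' : 3 ≤ Nat.card ↥(fixedField σ) := by
          by_contra h
          have h2 : Nat.card ↥(fixedField σ) = 2 := by omega
          rw [h2] at hcard
          have : 2 ∣ 2 ^ orderOf σ := dvd_pow_self 2 (by omega)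
          omega
        have h4 : 3 ^ 3 ≤ Nat.card ↥(fixedField σ) ^ orderOf σ :=
          (Nat.pow_le_pow_left h3' 3).trans (Nat.pow_le_pow_right (by omega) (by omega))
        omega
    · rw [hcard] at hp
      exact hp.eq_one_of_pow
  rw [hσ1, map_one, mul_one] at hgσ
  obtain ⟨l, hl⟩ := exists_mem_of_square ι (g := g * g) (μ := GeneralLinearGroup.det g)
    (map_mul _ g g)
  have hv2 : v * v ∈ L := by
    have h1 : φ (v * v) = φ (l : X) := by rw [map_mul, hgσ, ← map_mul, hφ, hl]
    exact hinj h1 ▸ l.2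
  obtain ⟨k, hk⟩ := hv
  have hvk : v = (v * v) ^ (k + 1) := by
    rw [← pow_two, ← pow_mul, show 2 * (k + 1) = orderOf v + 1 by omega, pow_succ,
      pow_orderOf_eq_one, one_mul]
  rw [hvk]
  exact L.pow_mem hv2 _

end Cfsg.Agent.GenDih
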