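import Cfsg.Agent.GenDih.RedBase

/-!
# Reduction for S3322, `|Ω| ≥ 4`: fusion
-/

set_option autoImplicit false
set_option linter.style.haveILetI false
set_option linter.unusedSectionVars false

namespace Cfsg.Agent.GenDih

open Subgroup

universe u

variable {G : Type u} [Group G] [Finite G] {H A : Subgroup G}

namespace DG

/-- Squaring on `A`. -/
def sqHom (h : DG H A) : A →* G where
  toFun a := (a : G) * a
  map_one' := one_mul 1
  map_mul' a b := by
    show (a : G) * b * ((a : G) * b) = a * a * (b * b)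
    rw [show (a : G) * b * (a * b) = a * (b * a) * b by group, h.comm b b.2 a a.2]
    group

/-- The subgroup of squares of `A`. -/
def squares (h : DG H A) : Subgroup G := h.sqHom.range

theorem mem_squares (h : DG H A) {x : G} : x ∈ h.squares ↔ ∃ a ∈ A, a * a = x :=
  ⟨fun ⟨a, ha⟩ => ⟨a, a.2, ha⟩, fun ⟨a, ha, he⟩ => ⟨⟨a, ha⟩, he⟩⟩

theorem squares_le (h : DG H A) : h.squares ≤ A := fun x hx => by
  obtain ⟨a, ha, rfl⟩ := h.mem_squares.1 hx
  exact mul_mem ha ha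

theorem omega_le (h : DG H A) : h.omega ≤ A := fun _ hx => hx.1

theorem omega_le_H (h : DG H A) : h.omega ≤ H := h.omega_le.trans h.le

theorem card_A (h : DG H A) : Nat.card A = Nat.card h.omega * Nat.card h.squares := by
  rw [← Subgroup.card_mul_index h.sqHom.ker, Subgroup.index_ker]
  refine congrArg (· * _) (Nat.card_congr ⟨fun a => ⟨((a : A) : G), (a : A).2, a.2⟩,
    fun w => ⟨⟨w, w.2.1⟩, w.2.2⟩, fun a => rfl, fun w => rfl⟩)

theorem mem_squares_of_out (h : DG H A) {r : G} (hr : r ∈ H) (hrA : r ∉ A) {a : G} (ha : a ∈ A) :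
    a * r * a⁻¹ = r * (a⁻¹ * a⁻¹) := by
  have h1 := h.inv r hr hrA a ha
  rw [mul_inv_eq_iff_eq_mul] at h1
  calc a * r * a⁻¹ = (a * r) * a⁻¹ := rfl
    _ = (a * r) * a⁻¹ := rfl
    _ = r * (a⁻¹ * a⁻¹) := by
      have h2 : r * a⁻¹ = a * r := by
        have := h.inv r hr hrA a⁻¹ (inv_mem ha)
        rw [inv_inv, mul_inv_eq_iff_eq_mul] at this
        exact this
      rw [← h2]; group

/-- Every `r a²` is conjugate to `r`. -/
theorem isConj_mul_square (h : DG H A) {r : G} (hr : r ∈ H) (hrA : r ∉ A) {x : G}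
    (hx : x ∈ h.squares) : ∃ a ∈ A, a * r * a⁻¹ = r * x := by
  obtain ⟨a, ha, rfl⟩ := h.mem_squares.1 hx
  exact ⟨a⁻¹, inv_mem ha, by rw [h.mem_squares_of_out hr hrA (inv_mem ha), inv_inv]⟩

theorem normalizer_squares (h : DG H A) {n : G} (hn : n ∈ normalizer (H : Set G)) {x : G}
    (hx : x ∈ h.squares) : n * x * n⁻¹ ∈ h.squares := by
  obtain ⟨a, ha, rfl⟩ := h.mem_squares.1 hx
  exact h.mem_squares.2 ⟨n * a * n⁻¹, (mem_normalizer_iff.1 (h.normalizer_le hn) a).1 ha, by group⟩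

/-- An element of `C(r) ∩ H`. -/
theorem cases_cent (h : DG H A) {r : G} (hr : r ∈ H) (hrA : r ∉ A) {x : G} (hx : x ∈ H)
    (hc : x * r = r * x) : x ∈ h.omega ∨ (x ∉ A ∧ r * x ∈ h.omega) := by
  have key : ∀ a ∈ A, a * r = r * a → a ∈ h.omega := by
    intro a ha har
    have h1 := h.inv r hr hrA a ha
    rw [← har, mul_inv_cancel_right] at h1
    exact ⟨ha, eq_inv_iff_mul_eq_one.1 h1⟩
  by_cases hxA : x ∈ A
  · exact Or.inl (key x hxA hc)
  · refine Or.inr ⟨hxA, key _ (h.mul_out r hr hrA x hx hxA) ?_⟩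
    rw [mul_assoc, hc]

theorem isPGroup_cent (h : DG H A) {r : G} (hr : r ∈ H) (hrA : r ∉ A) :
    IsPGroup 2 (H ⊓ centralizer {r} : Subgroup G) := by
  intro x
  refine ⟨1, Subtype.ext ?_⟩
  show (x : G) ^ (2 ^ 1) = 1
  rw [pow_one, pow_two]
  rcases h.cases_cent hr hrA x.2.1 (mem_centralizer_singleton_iff.1 x.2.2) with hx | ⟨hx, -⟩
  · exact hx.2
  · exact h.sq x x.2.1 hx

variable (h : DG H A) (hk : 4 ≤ Nat.card h.omega)
include hk

/-- **(a)**: no element of `Ω#` is conjugate to an element outside `A`. -/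
theorem not_isConj_out {f x : G} (hf : f ∈ h.omega) (hf1 : f ≠ 1) (hx : x ∈ H) (hxA : x ∉ A) :
    ¬ IsConj f x := by
  rintro hc
  obtain ⟨g, rfl⟩ := isConj_iff.1 hc
  -- `Ω` lies in `C(x) = g H g⁻¹`
  have hin : ∀ w ∈ h.omega, g⁻¹ * w * g ∈ H ∧ (g⁻¹ * w * g) * (g⁻¹ * w * g) = 1 := by
    intro w hw
    refine ⟨(h.cent_omega hf hf1).le (mem_centralizer_singleton_iff.2 ?_), ?_⟩
    · calc g⁻¹ * w * g * f = g⁻¹ * (w * (g * f * g⁻¹)) * g := by group
        _ = g⁻¹ * ((g * f * g⁻¹) * w) * g := by rw [h.omega_central hw hx]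
        _ = _ := by group
    · rw [show g⁻¹ * w * g * (g⁻¹ * w * g) = g⁻¹ * (w * w) * g by group, hw.2]; group
  obtain ⟨w, hw, hw1, hwΩ⟩ : ∃ w ∈ h.omega, w ≠ 1 ∧ g⁻¹ * w * g ∈ h.omega := by
    by_contra hno
    push Not at hno
    obtain ⟨e, he, he1⟩ := h.exists_omega_ne_one
    have hout : ∀ w ∈ h.omega, w ≠ 1 → g⁻¹ * w * g ∉ A := fun w hw hw1 hA =>
      hno w hw hw1 ⟨hA, (hin w hw).2⟩
    obtain ⟨e', he', he'1, he'e⟩ : ∃ e' ∈ h.omega, e' ≠ 1 ∧ e' ≠ e := by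
      by_contra hno'
      push Not at hno'
      have hle : h.omega ≤ zpowers e := fun w hw => by
        rcases eq_or_ne w 1 with rfl | hw1
        · exact one_mem _
        · exact hno' w hw hw1 ▸ mem_zpowers e
      have h3 := card_le_of_le hle
      rw [Nat.card_zpowers] at h3
      have : orderOf e ≤ 2 :=
        Nat.le_of_dvd two_pos (orderOf_dvd_of_pow_eq_one (by rw [pow_two]; exact he.2))
      omega
    have h1 := h.mul_out _ (hin e he).1 (hout e he he1) _ (hin e' he').1 (hout e' he' he'1)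
    rw [show g⁻¹ * e * g * (g⁻¹ * e' * g) = g⁻¹ * (e * e') * g by group] at h1
    refine hout (e * e') (mul_mem he he') (fun e0 => he'e ?_) h1
    rw [← inv_eq_of_mul_eq_one_right e0, inv_eq_of_mul_eq_one_right he.2]
  have hn : g⁻¹ ∈ normalizer (H : Set G) := h.mem_normalizer_of_conj hw hw1 (by rwa [inv_inv])
  have h2 := h.normalizer_omega (inv_inv g ▸ inv_mem hn : g ∈ normalizer (H : Set G))
  exact hxA ((mem_normalizer_iff.1 h2 f).1 hf).1

/-- Conjugates of `Ω#` in `H` lie in `Ω`. -/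
theorem conj_mem_omega {f g : G} (hf : f ∈ h.omega) (hf1 : f ≠ 1) (hx : g * f * g⁻¹ ∈ H) :
    g * f * g⁻¹ ∈ h.omega := by
  by_cases hA : g * f * g⁻¹ ∈ A
  · refine ⟨hA, ?_⟩
    rw [show g * f * g⁻¹ * (g * f * g⁻¹) = g * (f * f) * g⁻¹ by group, hf.2]; group
  · exact absurd (isConj_iff.2 ⟨g, rfl⟩) (h.not_isConj_out hk hf hf1 hx hA)

theorem omega_odd : Odd (Nat.card ({x : G | x ∈ h.omega ∧ x ≠ 1} : Set G)) := by
  have hset : ({x : G | x ∈ h.omega ∧ x ≠ 1} : Set G) = (h.omega : Set G) \ {1} := by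
    ext x; simp
  rw [hset, Nat.card_coe_set_eq, Set.ncard_sdiff_singleton_of_mem (one_mem _),
    ← Nat.card_coe_set_eq]
  have h2 : IsPGroup 2 h.omega := fun x => ⟨1, Subtype.ext (by rw [pow_one, pow_two]; exact x.2.2)⟩
  haveI : Fact (Nat.Prime 2) := ⟨Nat.prime_two⟩
  obtain ⟨k, hk'⟩ := IsPGroup.iff_card.1 h2
  have he : Even (Nat.card (h.omega : Set G)) := by
    show Even (Nat.card h.omega)
    rw [hk']
    rcases k with - | k
    · rw [hk'] at hk; norm_num at hk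
    · exact even_iff_two_dvd.2 (dvd_pow_self 2 k.succ_ne_zero)
  exact Nat.Even.sub_odd Nat.card_pos he odd_one

/-- A 2-subgroup of `H` lies in a Sylow subgroup of `G` inside `H`. -/
theorem exists_sylow {P : Subgroup G} (hP : IsPGroup 2 P) (hPH : P ≤ H) :
    ∃ S : Sylow 2 G, (S : Subgroup G) ≤ H ∧ P ≤ (S : Subgroup G) ∧ h.omega ≤ (S : Subgroup G) := by
  haveI : Fact (Nat.Prime 2) := ⟨Nat.prime_two⟩
  set P' := h.omega ⊔ P
  have hΩ2 : IsPGroup 2 h.omega := fun x => ⟨1, Subtype.ext (by rw [pow_one, pow_two]; exact x.2.2)⟩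
  have hP' : IsPGroup 2 P' := hΩ2.to_sup_of_normal_left' hP
    (hPH.trans fun x hx => (TwoFusion.map_conj_eq_self_iff_mem_normalizer h.omega x).1
      (eq_of_le_of_card_ge (by
        rintro _ ⟨w, hw, rfl⟩
        show x * w * x⁻¹ ∈ h.omega
        rw [h.omega_central hw hx, mul_inv_cancel_right]
        exact hw) (by rw [card_map_of_injective (MulAut.conj x).injective])))
  have hP'H : P' ≤ H := sup_le h.omega_le_H hPH
  obtain ⟨T₀, hT₀⟩ := (hP'.comap_subtype (K := H)).exists_le_sylow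
  set E := (T₀ : Subgroup H).map H.subtype with hE
  have hEp : IsPGroup 2 E := T₀.2.map _
  have hEH : E ≤ H := map_subtype_le _
  have hP'E : P' ≤ E := fun x hx => ⟨⟨x, hP'H hx⟩, hT₀ (mem_subgroupOf.2 hx), rfl⟩
  obtain ⟨S, hS⟩ := hEp.exists_le_sylow
  have hSE : (S : Subgroup G) = E := sylow_le_of_fixed hEp {x | x ∈ h.omega ∧ x ≠ 1} (h.omega_odd hk)
    (fun g hg x hx => ⟨h.conj_mem_omega hk hx.1 hx.2
      (hEH ((mem_normalizer_iff.1 hg x).1 (hP'E (mem_sup_left hx.1)))),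
      fun e => hx.2 (conj_eq_one_iff.1 e)⟩)
    (fun x hx => h.cent_omega hx.1 hx.2) (L := ⊤)
    (fun Q hQ hEQ _ hQH => by
      have h1 : (Q.subgroupOf H) = T₀ := T₀.3 (hQ.comap_subtype) (fun y hy => hEQ ⟨y, hy, rfl⟩)
      intro x hx
      exact ⟨⟨x, hQH hx⟩, h1 ▸ (mem_subgroupOf.2 hx : (⟨x, hQH hx⟩ : H) ∈ Q.subgroupOf H), rfl⟩)
    S S.isPGroup' hS le_top
  exact ⟨S, hSE ▸ hEH, hSE ▸ le_sup_right.trans hP'E, hSE ▸ le_sup_left.trans hP'E⟩

/-- Every involution is conjugate into `H`. -/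
theorem exists_conj_mem {t : G} (ht : orderOf t = 2) : ∃ g : G, g * t * g⁻¹ ∈ H := by
  haveI : Fact (Nat.Prime 2) := ⟨Nat.prime_two⟩
  obtain ⟨S, hSH, -, -⟩ := h.exists_sylow hk (P := ⊥) IsPGroup.of_bot bot_le
  obtain ⟨g, hg⟩ := TwoFusion.exists_conj_le_sylow S
    (IsPGroup.of_card (n := 1) (by rw [Nat.card_zpowers, ht, pow_one]) : IsPGroup 2 (zpowers t))
  exact ⟨g, hSH (hg t (mem_zpowers t))⟩

/-- `C_H(r)` is a Sylow 2-subgroup of `C(r)`. -/
theorem conj_into_cent {r : G} (hr : r ∈ H) (hrA : r ∉ A) {P : Subgroup G} (hP : IsPGroup 2 P)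
    (hPC : P ≤ centralizer {r}) :
    ∃ c ∈ centralizer ({r} : Set G), ∀ x ∈ P, c * x * c⁻¹ ∈ H ⊓ centralizer ({r} : Set G) := by
  haveI : Fact (Nat.Prime 2) := ⟨Nat.prime_two⟩
  set L := centralizer ({r} : Set G)
  set E := H ⊓ L with hE
  have hEp := h.isPGroup_cent hr hrA
  obtain ⟨T₀, hT₀⟩ := (hEp.comap_subtype (K := L)).exists_le_sylow
  have hΩE : h.omega ≤ E := fun w hw => ⟨h.omega_le_H hw,
    mem_centralizer_singleton_iff.2 (h.omega_central hw hr).symm⟩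
  have heq : (T₀ : Subgroup L).map L.subtype = E := sylow_le_of_fixed hEp
    {x | x ∈ h.omega ∧ x ≠ 1} (h.omega_odd hk)
    (fun g hg x hx => ⟨h.conj_mem_omega hk hx.1 hx.2
      ((mem_normalizer_iff.1 hg x).1 (hΩE hx.1)).1, fun e => hx.2 (conj_eq_one_iff.1 e)⟩)
    (fun x hx => h.cent_omega hx.1 hx.2) (L := L) (fun Q _ _ hQL hQH => le_inf hQH hQL)
    _ (T₀.2.map _) (fun x hx => ⟨⟨x, hx.2⟩, hT₀ (mem_subgroupOf.2 hx), rfl⟩) (map_subtype_le _)
  obtain ⟨P₀, hP₀⟩ := (hP.comap_subtype (K := L)).exists_le_sylow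
  obtain ⟨c, hc⟩ := MulAction.exists_smul_eq L P₀ T₀
  refine ⟨c, c.2, fun x hx => ?_⟩
  have h1 : c * ⟨x, hPC hx⟩ * c⁻¹ ∈ (T₀ : Subgroup L) := by
    rw [← hc, Sylow.coe_subgroup_smul]
    exact ⟨⟨x, hPC hx⟩, hP₀ (mem_subgroupOf.2 hx), rfl⟩
  exact heq.le ⟨_, h1, rfl⟩

/-- Involutions of `C(r)` are conjugate in `C(r)` into `Ω ∪ r Ω`. -/
theorem inv_conj_into_cent {r : G} (hr : r ∈ H) (hrA : r ∉ A) {v : G} (hv : orderOf v = 2)
    (hc : v * r = r * v) :
    ∃ c ∈ centralizer ({r} : Set G), c * v * c⁻¹ ∈ h.omega ∨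
      ((c * v * c⁻¹) ∈ H ∧ c * v * c⁻¹ ∉ A ∧ r * (c * v * c⁻¹) ∈ h.omega) := by
  haveI : Fact (Nat.Prime 2) := ⟨Nat.prime_two⟩
  obtain ⟨c, hcC, hcv⟩ := h.conj_into_cent hk hr hrA
    (IsPGroup.of_card (n := 1) (by rw [Nat.card_zpowers, hv, pow_one]) : IsPGroup 2 (zpowers v))
    (zpowers_le.2 (mem_centralizer_singleton_iff.2 hc))
  have hm := hcv v (mem_zpowers v)
  refine ⟨c, hcC, ?_⟩
  rcases h.cases_cent hr hrA hm.1 (mem_centralizer_singleton_iff.1 hm.2) with e | ⟨e1, e2⟩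
  · exact Or.inl e
  · exact Or.inr ⟨hm.1, e1, e2⟩

/-- **(d)**: `N(H)` controls fusion of elements outside `A`. -/
theorem fusion_out {r r' : G} (hr : r ∈ H) (hrA : r ∉ A) (hr' : r' ∈ H) (hrA' : r' ∉ A)
    (hc : IsConj r r') : ∃ n ∈ normalizer (H : Set G), n * r * n⁻¹ = r' := by
  obtain ⟨g, hg⟩ := isConj_iff.1 hc
  set E := H ⊓ centralizer ({r} : Set G) with hE
  obtain ⟨c, hcC, hcE⟩ := h.conj_into_cent hk hr' hrA'
    ((h.isPGroup_cent hr hrA).map (MulAut.conj g).toMonoidHom) (by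
      rintro _ ⟨x, hx, rfl⟩
      refine mem_centralizer_singleton_iff.2 ?_
      show g * x * g⁻¹ * r' = r' * (g * x * g⁻¹)
      rw [← hg]
      calc g * x * g⁻¹ * (g * r * g⁻¹) = g * (x * r) * g⁻¹ := by group
        _ = g * (r * x) * g⁻¹ := by rw [mem_centralizer_singleton_iff.1 hx.2]
        _ = _ := by group)
  obtain ⟨e, he, he1⟩ := h.exists_omega_ne_one
  have hmem : c * g * e * (c * g)⁻¹ ∈ H := by
    have := (hcE (g * e * g⁻¹) ⟨e, ⟨h.omega_le_H he,
      mem_centralizer_singleton_iff.2 (h.omega_central he hr).symm⟩, rfl⟩).1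
    rw [show c * g * e * (c * g)⁻¹ = c * (g * e * g⁻¹) * c⁻¹ by group]
    exact this
  refine ⟨c * g, h.mem_normalizer_of_conj he he1 (h.conj_mem_omega hk he he1 hmem), ?_⟩
  rw [show c * g * r * (c * g)⁻¹ = c * (g * r * g⁻¹) * c⁻¹ by group, hg,
    mem_centralizer_singleton_iff.1 hcC, mul_inv_cancel_right]

/-- **(b)**: a conjugate of `Ω#` has odd product with `f ∈ Ω#` unless it lies in `Ω`. -/
theorem odd_or_mem {f e g : G} (hf : f ∈ h.omega) (hf1 : f ≠ 1) (he : e ∈ h.omega) (he1 : e ≠ 1) :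
    g * e * g⁻¹ ∈ h.omega ∨ Odd (orderOf (f * (g * e * g⁻¹))) := by
  set x := g * e * g⁻¹ with hx
  have hfo : orderOf f = 2 := orderOf_eq_prime (by rw [pow_two]; exact hf.2) hf1
  have hxo : orderOf x = 2 := by
    rw [hx, GenDih.orderOf_conj]
    exact orderOf_eq_prime (by rw [pow_two]; exact he.2) he1
  rcases (Nat.even_or_odd (orderOf (f * x))) with hev | ho
  swap
  · exact Or.inr ho
  refine Or.inl ?_
  obtain ⟨hz1, hz2⟩ := Invol.commute_pow_half hfo hxo hev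
  set m := orderOf (f * x) / 2 with hm
  set z := (f * x) ^ m with hzdef
  have hzo : orderOf z = 2 := Invol.pow_half_eq_two (orderOf_pos _) hev
  have hzH : z ∈ H := (h.cent_omega hf hf1).le (mem_centralizer_singleton_iff.2 hz1.eq)
  by_cases hzA : z ∈ A
  · refine h.conj_mem_omega hk he he1 ((h.cent_omega (h.mem_omega_of_inv hzH hzA hzo)
      (ne_one_of_orderOf_two hzo)).le (mem_centralizer_singleton_iff.2 ?_))
    exact hz2.eq.symm
  exfalso
  have hfz : f * z ∈ H := mul_mem (h.omega_le_H hf) hzH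
  have hfzA : f * z ∉ A := fun hA => hzA (by
    simpa using A.mul_mem (A.inv_mem hf.1) hA)
  rcases Nat.even_or_odd m with ⟨l, hl⟩ | ⟨l, hl⟩
  · refine h.not_isConj_out hk hf hf1 hfz hfzA (isConj_iff.2 ⟨(f * x) ^ (-(l : ℤ)), ?_⟩)
    rw [Invol.conj_left_zpow hfo hxo, hzdef, hl, ← zpow_natCast (f * x) (l + l)]
    congr 2
    push_cast; ring
  · refine h.not_isConj_out hk he he1 hfz hfzA
      ((isConj_iff.2 ⟨g, hx.symm⟩ : IsConj e x).trans (isConj_iff.2 ⟨(f * x) ^ (-(l : ℤ)), ?_⟩))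
    rw [Invol.conj_right_zpow hfo hxo, hzdef, hl, ← zpow_natCast (f * x) (2 * l + 1)]
    congr 2

/-- **(c)**: `N(H)` is transitive on `Ω#`. -/
theorem trans_omega {e f : G} (he : e ∈ h.omega) (he1 : e ≠ 1) (hf : f ∈ h.omega) (hf1 : f ≠ 1) :
    ∃ n ∈ normalizer (H : Set G), n * e * n⁻¹ = f := by
  obtain ⟨g₀, hg₀⟩ : ∃ g₀, g₀ * e * g₀⁻¹ ∉ h.omega := by
    by_contra hno
    push Not at hno
    obtain ⟨S, hSH, -, -⟩ := h.exists_sylow hk (P := ⊥) IsPGroup.of_bot bot_le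
    refine h.not_normal S hSH ⟨fun x hx g => ?_⟩
    exact (mem_normalizer_iff.1 (h.mem_normalizer_of_conj he he1 (hno g)) x).1 hx
  have hxo : orderOf (g₀ * e * g₀⁻¹) = 2 := by
    rw [GenDih.orderOf_conj]; exact orderOf_eq_prime (by rw [pow_two]; exact he.2) he1
  have hfo : orderOf f = 2 := orderOf_eq_prime (by rw [pow_two]; exact hf.2) hf1
  have hc : IsConj f (g₀ * e * g₀⁻¹) := Invol.isConj_of_odd hfo hxo
    ((h.odd_or_mem hk hf hf1 he he1).resolve_left hg₀)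
  obtain ⟨g, hg⟩ := isConj_iff.1 ((isConj_iff.2 ⟨g₀, rfl⟩ : IsConj e (g₀ * e * g₀⁻¹)).trans hc.symm)
  exact ⟨g, h.mem_normalizer_of_conj he he1 (hg ▸ hf), hg⟩

/-- **(e)**: `N(H)` fixes a coset `i A²`. -/
theorem exists_fixed_coset :
    ∃ i ∈ H, i ∉ A ∧ ∀ n ∈ normalizer (H : Set G), ∃ x ∈ h.squares, n * i * n⁻¹ = i * x := by
  classical
  obtain ⟨r, hr, hrA⟩ := h.outside
  obtain ⟨S, hSH, -, -⟩ := h.exists_sylow hk (P := ⊥) IsPGroup.of_bot bot_le
  set B := h.squares.subgroupOf H with hB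
  have hsqA : h.squares ≤ A := h.squares_le
  haveI hBn : B.Normal := ⟨fun x hx g => by
    rw [hB, mem_subgroupOf] at hx ⊢
    push_cast
    exact h.normalizer_squares (le_normalizer g.2) hx⟩
  have hQsq : ∀ y : H ⧸ B, y * y = 1 := by
    intro y
    induction y using QuotientGroup.induction_on with | _ y =>
    rw [← QuotientGroup.mk_mul, QuotientGroup.eq_one_iff, hB, mem_subgroupOf]
    by_cases hy : (y : G) ∈ A
    · exact h.mem_squares.2 ⟨y, hy, rfl⟩
    · show (y : G) * y ∈ h.squares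
      rw [h.sq y y.2 hy]; exact one_mem _
  letI : CommGroup (H ⧸ B) :=
    { (inferInstance : Group (H ⧸ B)) with
      mul_comm := fun a b => by
        have h1 := hQsq (a * b)
        calc a * b = a⁻¹ * b⁻¹ := by
              rw [inv_eq_of_mul_eq_one_right (hQsq a), inv_eq_of_mul_eq_one_right (hQsq b)]
          _ = (b * a)⁻¹ := by group
          _ = b * a := inv_eq_of_mul_eq_one_right (hQsq _) }
  set N := normalizer (H : Set G) with hN
  set HN := H.subgroupOf N with hHN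
  haveI : HN.Normal := Subgroup.normal_in_normalizer
  let ψ : N →* MulAut H := H.normalizerMonoidHom
  have hψ : ∀ (n : N) (y : H), ((ψ n y : H) : G) = n * y * (n : G)⁻¹ := fun n y => rfl
  have hφ : ∀ n : N, B ≤ B.comap (ψ n).toMonoidHom := by
    intro n y hy
    rw [hB, mem_comap, mem_subgroupOf]
    show ((ψ n y : H) : G) ∈ h.squares
    rw [hψ]
    exact h.normalizer_squares n.2 (mem_subgroupOf.1 hy)
  let φ : N → (H ⧸ B →* H ⧸ B) := fun n => QuotientGroup.map B B (ψ n).toMonoidHom (hφ n)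
  let f₀ : N → H ⧸ B := fun n => QuotientGroup.mk (ψ n ⟨r, hr⟩)
  have hf₀ : ∀ n m : N, (n : N ⧸ HN) = (m : N ⧸ HN) → f₀ n = f₀ m := by
    intro n m hnm
    have h1 : (n : G)⁻¹ * m ∈ H := mem_subgroupOf.1 (QuotientGroup.eq.1 hnm)
    set u : H := ⟨(n : G)⁻¹ * m, h1⟩ with hu
    have hm : (ψ m ⟨r, hr⟩) = ψ n (u * ⟨r, hr⟩ * u⁻¹) := Subtype.ext (by
      rw [hψ, hψ, hu]; push_cast; group)
    show f₀ n = f₀ m
    simp only [f₀, hm]
    rw [map_mul, map_mul, map_inv, QuotientGroup.mk_mul, QuotientGroup.mk_mul, QuotientGroup.mk_inv,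
      mul_comm (QuotientGroup.mk (ψ n u) : H ⧸ B), mul_assoc, mul_inv_cancel, mul_one]
  let fQ : N ⧸ HN → H ⧸ B := fun c => f₀ (Quotient.out c)
  have hfQ : ∀ n : N, fQ n = f₀ n := fun n => hf₀ _ _ (QuotientGroup.out_eq' _)
  haveI := Fintype.ofFinite (N ⧸ HN)
  set P : H ⧸ B := ∏ c, fQ c with hP
  have hPinv : ∀ n : N, φ n P = P := by
    intro n
    rw [hP, map_prod]
    rw [← Equiv.prod_comp (MulAction.toPerm (n : N)) (fun c : N ⧸ HN => fQ c)]
    refine Finset.prod_congr rfl fun c _ => ?_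
    induction c using QuotientGroup.induction_on with | _ m =>
    show φ n (fQ m) = fQ ((n * m : N) : N ⧸ HN)
    rw [hfQ, hfQ]
    simp only [f₀, φ, QuotientGroup.map_mk]
    refine congrArg QuotientGroup.mk (Subtype.ext ?_)
    show ((ψ n (ψ m ⟨r, hr⟩) : H) : G) = _
    rw [hψ, hψ, hψ]; push_cast; group
  -- `P` lies outside `A`
  haveI : (A.subgroupOf H).Normal := ⟨fun a ha g => by
    rw [mem_subgroupOf] at ha ⊢
    push_cast
    exact (mem_normalizer_iff.1 (h.normalizer_le (le_normalizer g.2)) _).1 ha⟩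
  obtain ⟨i, hi⟩ : ∃ i : H, (i : H ⧸ B) = P := QuotientGroup.mk_surjective P
  have hiA : (i : G) ∉ A := by
    intro hA
    have hsq' : ∀ y : H ⧸ A.subgroupOf H, y * y = 1 := by
      intro y
      induction y using QuotientGroup.induction_on with | _ y =>
      rw [← QuotientGroup.mk_mul, QuotientGroup.eq_one_iff, mem_subgroupOf]
      by_cases hy : (y : G) ∈ A
      · exact mul_mem hy hy
      · show (y : G) * y ∈ A
        rw [h.sq y y.2 hy]; exact one_mem _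
    letI : CommGroup (H ⧸ A.subgroupOf H) :=
      { (inferInstance : Group (H ⧸ A.subgroupOf H)) with
        mul_comm := fun a b => by
          calc a * b = a⁻¹ * b⁻¹ := by
                rw [inv_eq_of_mul_eq_one_right (hsq' a), inv_eq_of_mul_eq_one_right (hsq' b)]
            _ = (b * a)⁻¹ := by group
            _ = b * a := inv_eq_of_mul_eq_one_right (hsq' _) }
    let χ : H ⧸ B →* H ⧸ A.subgroupOf H := QuotientGroup.map B (A.subgroupOf H) (MonoidHom.id H)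
      (fun y hy => hsqA (mem_subgroupOf.1 hy))
    have hval : ∀ c, χ (fQ c) = QuotientGroup.mk (⟨r, hr⟩ : H) := by
      intro c
      induction c using QuotientGroup.induction_on with | _ m =>
      rw [hfQ]
      show QuotientGroup.mk (ψ m ⟨r, hr⟩) = QuotientGroup.mk (⟨r, hr⟩ : H)
      rw [QuotientGroup.eq, mem_subgroupOf]
      have hmA : (m : G) * r * (m : G)⁻¹ ∉ A := fun e =>
        hrA ((mem_normalizer_iff.1 (h.normalizer_le m.2) r).2 e)
      push_cast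
      rw [hψ]
      show ((m : G) * r * (m : G)⁻¹)⁻¹ * r ∈ A
      rw [h.out_inv_eq ((mem_normalizer_iff.1 m.2 r).1 hr) hmA]
      exact h.mul_out _ ((mem_normalizer_iff.1 m.2 r).1 hr) hmA r hr hrA
    have hodd : Odd (Fintype.card (N ⧸ HN)) := by
      rw [← Nat.card_eq_fintype_card, ← Subgroup.index_eq_card]
      exact (odd_index_of_sylow_le S hSH).of_dvd_nat
        ((dvd_of_eq rfl).trans (Subgroup.relIndex_dvd_index_of_le le_normalizer))
    have h1 : χ P = QuotientGroup.mk (⟨r, hr⟩ : H) := by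
      rw [hP, map_prod, Finset.prod_congr rfl (fun c _ => hval c), Finset.prod_const, Finset.card_univ]
      obtain ⟨j, hj⟩ := hodd
      rw [hj, pow_succ, pow_mul, pow_two, hsq', one_pow, one_mul]
    have h2 : χ (i : H ⧸ B) = 1 := (QuotientGroup.eq_one_iff _).2 (mem_subgroupOf.2 hA)
    rw [hi, h1, QuotientGroup.eq_one_iff, mem_subgroupOf] at h2
    exact hrA h2
  refine ⟨i, i.2, hiA, fun n hn => ⟨(i : G)⁻¹ * (n * i * n⁻¹), ?_, by group⟩⟩
  have h1 := hPinv ⟨n, hn⟩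
  rw [← hi] at h1
  simp only [φ, QuotientGroup.map_mk] at h1
  have h2 := QuotientGroup.eq.1 h1.symm
  rw [hB, mem_subgroupOf] at h2
  exact h2

end DG

end Cfsg.Agent.GenDih
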