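import Cfsg.Agent.GenDih.Core
import Cfsg.Agent.S0508
import Cfsg.Agent.Invol.IndexTwo
import Cfsg.Agent.Linear.SmallIso

/-!
# Simple groups with a 2-central involution whose centralizer is generalised dihedral

`psl_of_simple`: such a group is `PSL(2, F)` for a field `F` of odd order `> 3`.
-/

set_option autoImplicit false
set_option linter.style.haveILetI false
set_option linter.unusedSectionVars false

namespace Cfsg.Agent.GenDih

open Subgroup
open scoped MatrixGroups

universe u

/-- The shape of a Sylow 2-subgroup lying in a generalised dihedral centralizer. -/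
theorem sylow_shape {X : Type u} [Group X] [Finite X] {t : X} {K : Subgroup X} (h : GDC t K)
    (S : Sylow 2 X) (hSt : (S : Subgroup X) ≤ centralizer {t}) :
    t ∈ (S : Subgroup X) ∧ IsCyclic ((S : Subgroup X) ⊓ K : Subgroup X) ∧
      Nat.card (S : Subgroup X) = 2 * Nat.card ((S : Subgroup X) ⊓ K : Subgroup X) ∧
      2 ≤ Nat.card ((S : Subgroup X) ⊓ K : Subgroup X) ∧
      (∃ r ∈ (S : Subgroup X), r ∉ K) ∧
      Nonempty ((S : Subgroup X) ≃* DihedralGroup (Nat.card ((S : Subgroup X) ⊓ K : Subgroup X))) := by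
  classical
  haveI : Fact (Nat.Prime 2) := ⟨Nat.prime_two⟩
  set C := centralizer ({t} : Set X) with hC
  have ht := h.inv
  have htS : t ∈ (S : Subgroup X) := by
    have h2 : IsPGroup 2 ((S : Subgroup X) ⊔ zpowers t : Subgroup X) :=
      S.isPGroup'.to_sup_of_normal_left'
        (IsPGroup.of_card (n := 1) (by rw [Nat.card_zpowers, ht, pow_one]))
        (zpowers_le.2 (mem_normalizer_of_conj fun a ha => by
          rw [← mem_centralizer_singleton_iff.1 (hSt ha), mul_inv_cancel_right]; exact ha))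
    exact S.3 h2 le_sup_left ▸ mem_sup_right (mem_zpowers t)
  have hconjK : ∀ g ∈ C, ∀ a ∈ K, g * a * g⁻¹ ∈ K := by
    intro g hg a ha
    by_cases hgK : g ∈ K
    · exact mul_mem (mul_mem hgK ha) (inv_mem hgK)
    · rw [(h.out g hg hgK).2 a ha]; exact inv_mem ha
  obtain ⟨r, hrS, hrK⟩ : ∃ r ∈ (S : Subgroup X), r ∉ K := by
    obtain ⟨c, hc, hcK⟩ := h.proper
    obtain ⟨g, hg, hgS⟩ := TwoFusion.exists_conj_le_sylow_of_le S hSt
      (IsPGroup.of_card (p := 2) (n := 1) (by rw [Nat.card_zpowers, h.orderOf_out hc hcK, pow_one]) :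
        IsPGroup 2 (zpowers c)) (zpowers_le.2 hc)
    refine ⟨_, hgS c (mem_zpowers c), fun hK => hcK ?_⟩
    have := hconjK g⁻¹ (C.inv_mem hg) _ hK
    group at this
    simpa using this
  set A := (S : Subgroup X) ⊓ K with hA
  have htA : t ∈ A := ⟨htS, h.mem⟩
  have h2A : 2 ≤ Nat.card A := by
    have := Nat.le_of_dvd Nat.card_pos (Subgroup.orderOf_dvd_natCard A htA)
    omega
  have hcard : Nat.card (S : Subgroup X) = 2 * Nat.card A := by
    have hidx : (A.subgroupOf S).index = 2 := by
      rw [Subgroup.index_eq_two_iff']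
      refine ⟨⟨r, hrS⟩, fun b => ?_⟩
      by_cases hb : (b : X) ∈ K
      · refine Or.inr ⟨⟨b.2, hb⟩, fun hh => hrK ?_⟩
        have h1 : r * b ∈ K := (mem_subgroupOf.1 hh).2
        simpa using K.mul_mem h1 (K.inv_mem hb)
      · refine Or.inl ⟨⟨mul_mem hrS b.2, h.mul_mem r (hSt hrS) b (hSt b.2) hrK hb⟩,
          fun hh => hb (mem_subgroupOf.1 hh).2⟩
    rw [← Subgroup.card_mul_index (A.subgroupOf S), hidx,
      Nat.card_congr (subgroupOfEquivOfLe (inf_le_left : A ≤ (S : Subgroup X))).toEquiv, mul_comm]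
  have hcyc : IsCyclic A := by
    have hAp : IsPGroup 2 A := S.isPGroup'.to_le inf_le_left
    have h0 := Invol.isCyclic_of_unique_involution (P := A) hAp ⊤
      ⟨⟨fun u w => Subtype.ext (Subtype.ext (h.comm _ u.1.2.2 _ w.1.2.2))⟩⟩ ⟨t, htA⟩
      (fun q _ hq => by
        have hqo : orderOf (q : X) = 2 := by rw [Subgroup.orderOf_coe]; exact hq
        exact Subtype.ext ((h.unique _ q.2.2 (sq_of_orderOf_two hqo)).resolve_left
          (ne_one_of_orderOf_two hqo)))
    exact (Subgroup.topEquiv.isCyclic).1 h0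
  refine ⟨htS, hcyc, hcard, h2A, ⟨r, hrS, hrK⟩, ?_⟩
  obtain ⟨g, hg⟩ := IsCyclic.exists_ofOrder_eq_natCard (α := A)
  haveI : NeZero (Nat.card A) := ⟨by omega⟩
  obtain ⟨hr1, hr2⟩ := h.out r (hSt hrS) hrK
  refine TwoGroups.equiv_dihedral_of_generators (a := (⟨g, g.2.1⟩ : (S : Subgroup X)))
    (b := ⟨r, hrS⟩) (by rw [Subgroup.orderOf_mk, Subgroup.orderOf_coe, hg]) hcard ?_
    (Subtype.ext hr1) (Subtype.ext (hr2 g g.2.2))
  rintro ⟨k, hk⟩
  have hk' : (g : X) ^ k = r := congrArg Subtype.val hk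
  exact hrK (hk' ▸ K.zpow_mem g.2.2 k)

/-- **Simple groups with a generalised dihedral centralizer of a 2-central involution.** -/
theorem psl_of_simple {X : Type u} [Group X] [Finite X] [IsSimpleGroup X]
    (hnc : ¬ ∀ a b : X, a * b = b * a) {t : X} {K : Subgroup X} (h : GDC t K) (S : Sylow 2 X)
    (hSt : (S : Subgroup X) ≤ centralizer {t}) :
    ∃ (F : Type) (_ : Field F) (_ : Fintype F), Odd (Fintype.card F) ∧ 3 < Fintype.card F ∧
      Nonempty (X ≃* Matrix.ProjectiveSpecialLinearGroup (Fin 2) F) := by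
  classical
  haveI : Fact (Nat.Prime 2) := ⟨Nat.prime_two⟩
  obtain ⟨htS, hcyc, hcard, h2A, ⟨r, hrS, hrK⟩, hdih⟩ := sylow_shape h S hSt
  set A := (S : Subgroup X) ⊓ K with hA
  set C := centralizer ({t} : Set X) with hC
  have hno : ∀ H : Subgroup X, H.index ≠ 2 := by
    intro H hH
    haveI := Subgroup.normal_of_index_eq_two hH
    rcases IsSimpleGroup.eq_bot_or_eq_top_of_normal H inferInstance with e | e
    · rw [e, Subgroup.index_bot] at hH
      haveI : IsCyclic X := isCyclic_of_prime_card (p := 2) hH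
      exact hnc fun a b => mul_comm' a b
    · rw [e, Subgroup.index_top] at hH; omega
  have hone : OneClass X := by
    have key : ∀ x : X, orderOf x = 2 → IsConj t x := by
      intro x hx
      obtain ⟨g, hg⟩ := Invol.exists_conj_mem_of_no_index_two hno S A hcard.symm hx
      have ho : orderOf (g⁻¹ * x * g) = 2 := by
        have := orderOf_conj g⁻¹ x
        rw [inv_inv] at this
        rw [this, hx]
      have he := (h.unique _ hg.2 (sq_of_orderOf_two ho)).resolve_left (ne_one_of_orderOf_two ho)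
      exact isConj_iff.2 ⟨g, by rw [← he]; group⟩
    exact fun a b ha hb => (key a ha).symm.trans (key b hb)
  have hL := Loc.of_gdc hone h
  have hset : Setting X S t K := ⟨inferInstance, hL, h, htS, hSt, ⟨_, h2A, hdih⟩⟩
  have hconjK : ∀ g ∈ C, ∀ a ∈ K, g * a * g⁻¹ ∈ K := fun g hg a ha => hset.conj_mem_K hg ha
  -- the odd core of the centralizer
  obtain ⟨N, hNn, hNodd, k, hNk⟩ := Cfsg.Agent.S0514.result S _ h2A hdih t h.inv
  haveI := hNn
  set O := (Cfsg.oddCore C).map C.subtype with hO
  have hOodd : ∀ a ∈ O, Odd (orderOf a) := by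
    have hle : Cfsg.oddCore C ≤ N := by
      refine sSup_le ?_
      rintro N' ⟨-, hN'⟩ x hx
      rw [← QuotientGroup.eq_one_iff, ← orderOf_eq_one_iff]
      have h1 : orderOf (x : C ⧸ N) ∣ 2 ^ k := hNk ▸ orderOf_dvd_natCard (x : C ⧸ N)
      have h2 : orderOf (x : C ⧸ N) ∣ Nat.card N' :=
        (orderOf_map_dvd (QuotientGroup.mk' N) x).trans (Subgroup.orderOf_dvd_natCard _ hx)
      exact Nat.eq_one_of_dvd_coprimes (hN'.pow_right k).symm h1 h2
    rintro _ ⟨a, ha, rfl⟩
    rw [show (C.subtype a) = (a : X) from rfl, Subgroup.orderOf_coe]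
    exact hNodd.of_dvd_nat (Subgroup.orderOf_dvd_natCard N (hle ha))
  have hOK : O ≤ K := fun a ha => h.mem_of_odd
    (mem_centralizer_singleton_iff.1 (Subgroup.map_subtype_le _ ha)) (hOodd a ha)
  have hnotcent : O ≠ ⊥ → ∀ s ∈ (S : Subgroup X), s ∉ K → s ∉ centralizer (O : Set X) := by
    intro hO0 s hs hsK hsc
    obtain ⟨a, ha, ha1⟩ := (bot_or_exists_ne_one O).resolve_left hO0
    have h1 := (h.out s (hSt hs) hsK).2 a (hOK ha)
    rw [← mem_centralizer_iff.1 hsc a ha, mul_inv_cancel_right, eq_inv_iff_mul_eq_one] at h1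
    exact ha1 (eq_one_of_odd_of_sq (hOodd a ha) h1)
  have hAO : O ≠ ⊥ → (S : Subgroup X) ⊓ centralizer (O : Set X) = A := by
    intro hO0
    refine le_antisymm (fun s hs => ⟨hs.1, by_contra fun hsK => hnotcent hO0 s hs.1 hsK hs.2⟩)
      (fun s hs => ⟨hs.1, mem_centralizer_iff.2 fun a ha => h.comm a (hOK ha) s hs.2⟩)
  obtain ⟨F, i1, i2, hodd, hiso⟩ := Cfsg.Agent.S0508.result S _ h2A hdih t h.inv htS
    (fun s hs => mem_centralizer_singleton_iff.1 (hSt hs)) O hO
    (fun hO0 => by
      rw [hAO hO0]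
      refine ⟨hcyc, ?_⟩
      have h1 := Subgroup.card_mul_index (A.subgroupOf S)
      rw [Nat.card_congr (subgroupOfEquivOfLe (inf_le_left : A ≤ (S : Subgroup X))).toEquiv,
        hcard, mul_comm 2] at h1
      exact Nat.eq_of_mul_eq_mul_left (Nat.card_pos) h1)
    (fun s hs hsc a ha => by
      refine (h.out s (hSt hs) fun hsK => hsc ?_).2 a (hOK ha)
      exact mem_centralizer_iff.2 fun b hb => h.comm b (hOK hb) s hsK)
    (fun Y hY hY0 => by
      obtain ⟨y, hy, hy1⟩ := (bot_or_exists_ne_one Y).resolve_left hY0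
      have hyK := hOK (hY hy)
      have hcle := hset.centralizer_le (mem_centralizer_singleton_iff.1 (h.le hyK))
        (hOodd y (hY hy)) hy1
      intro g hg
      have hgt : g * t * g⁻¹ ∈ centralizer (Y : Set X) := by
        refine mem_centralizer_iff.2 fun b hb => ?_
        have hb' : g⁻¹ * b * g ∈ Y := by
          simpa using conj_mem_of_mem_normalizer (inv_mem hg) hb
        have h1 := mem_centralizer_singleton_iff.1 (h.le (hOK (hY hb')))
        have h2 := congrArg (fun w => g * w * g⁻¹) h1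
        group at h2 ⊢
        exact h2
      have hgtC : g * t * g⁻¹ ∈ C :=
        hcle (mem_centralizer_singleton_iff.2 (mem_centralizer_iff.1 hgt y hy).symm)
      have ho : orderOf (g * t * g⁻¹) = 2 := by rw [orderOf_conj, h.inv]
      by_cases hK : g * t * g⁻¹ ∈ K
      · have he := (h.unique _ hK (sq_of_orderOf_two ho)).resolve_left (ne_one_of_orderOf_two ho)
        exact mem_centralizer_singleton_iff.2 (mul_inv_eq_iff_eq_mul.1 he)
      · exfalso
        have h1 := (h.out _ hgtC hK).2 y hyK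
        rw [← mem_centralizer_iff.1 hgt y hy, mul_inv_cancel_right, eq_inv_iff_mul_eq_one] at h1
        exact hy1 (eq_one_of_odd_of_sq (hOodd y (hY hy)) h1))
  refine ⟨F, i1, i2, hodd, ?_, hiso⟩
  -- the field has more than three elements
  by_contra h3
  push Not at h3
  obtain ⟨e⟩ := hiso
  letI := i1
  letI := i2
  have hF : Fintype.card F = 3 := by
    have h1 : 1 < Fintype.card F := Fintype.one_lt_card
    obtain ⟨j, hj⟩ := hodd
    omega
  have hX : Nat.card X = 12 := by
    have := Linear.card_PSL_two_of_odd (F := F) hodd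
    rw [← Nat.card_congr e.toEquiv, hF] at this
    omega
  have hS4 : Nat.card (S : Subgroup X) = 4 := by
    rw [S.card_eq_multiplicity, hX, show (12 : ℕ) = 2 ^ 2 * 3 by norm_num,
      Nat.factorization_mul (by norm_num) (by norm_num), Finsupp.add_apply,
      Nat.prime_two.factorization_pow, Finsupp.single_eq_same,
      Nat.factorization_eq_zero_of_not_dvd (by norm_num : ¬ 2 ∣ 3), add_zero]
    norm_num
  have hidx : (S : Subgroup X).index = 3 := by
    have := Subgroup.card_mul_index (S : Subgroup X)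
    rw [hS4, hX] at this
    omega
  have hker : (S : Subgroup X).normalCore = ⊥ := (IsSimpleGroup.eq_bot_or_eq_top_of_normal _
    (Subgroup.normalCore_normal _)).resolve_right fun hh => by
      have := top_le_iff.1 (hh ▸ Subgroup.normalCore_le (S : Subgroup X))
      rw [this, Subgroup.index_top] at hidx
      omega
  rw [Subgroup.normalCore_eq_ker] at hker
  have hd := Subgroup.card_dvd_of_injective _ ((MonoidHom.ker_eq_bot_iff _).1 hker)
  rw [Nat.card_perm, ← Subgroup.index_eq_card, hidx, hX] at hd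
  norm_num [Nat.factorial] at hd

end Cfsg.Agent.GenDih
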