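import Cfsg.Agent.GenDih.Simple
import Cfsg.Agent.GenDih.Small
import Cfsg.Agent.GenDih.PglExt
import Cfsg.Agent.S3224
import Cfsg.Agent.TwoFusion.DihedralFusion
import Cfsg.Agent.TwoGroups.QuasiDihedral
import Cfsg.Agent.Cores.Fitting
import Cfsg.Agent.LAE62.SylowBasics

/-!
# A generalised dihedral centralizer: the global structure

With trivial odd core, no solvable normal subgroup, and a Sylow 2-subgroup with a cyclic subgroup of
index two, there is a simple normal subgroup with trivial centralizer.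
-/

set_option autoImplicit false
set_option linter.style.haveILetI false
set_option linter.unusedSectionVars false

namespace Cfsg.Agent.GenDih

open Subgroup
open Cfsg.Agent.TwoGroups

universe u

variable {X : Type u} [Group X] [Finite X]

theorem GDC.isSolvable {e : X} {K : Subgroup X} (h : GDC e K) :
    Group.IsSolvable (centralizer ({e} : Set X)) := by
  set H := centralizer ({e} : Set X) with hH
  haveI hKn : (K.subgroupOf H).Normal := ⟨fun a ha g => by
    by_cases hg : (g : X) ∈ K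
    · exact Subgroup.mul_mem _ (Subgroup.mul_mem _ (mem_subgroupOf.2 hg) ha)
        (inv_mem (mem_subgroupOf.2 hg))
    · rw [mem_subgroupOf] at ha ⊢
      push_cast
      rw [(h.out g g.2 hg).2 a ha]
      exact inv_mem ha⟩
  haveI : Group.IsSolvable (K.subgroupOf H) := Group.isSolvable_of_comm fun a b =>
    Subtype.ext (Subtype.ext (h.comm _ (mem_subgroupOf.1 a.2) _ (mem_subgroupOf.1 b.2)))
  haveI : Group.IsSolvable (H ⧸ K.subgroupOf H) := Group.isSolvable_of_comm fun a b => by
    induction a using QuotientGroup.induction_on with | _ a =>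
    induction b using QuotientGroup.induction_on with | _ b =>
    by_cases ha : (a : X) ∈ K
    · rw [(QuotientGroup.eq_one_iff a).2 (mem_subgroupOf.2 ha), one_mul, mul_one]
    by_cases hb : (b : X) ∈ K
    · rw [(QuotientGroup.eq_one_iff b).2 (mem_subgroupOf.2 hb), one_mul, mul_one]
    rw [← QuotientGroup.mk_mul, ← QuotientGroup.mk_mul,
      (QuotientGroup.eq_one_iff _).2 (mem_subgroupOf.2 (h.mul_mem a a.2 b b.2 ha hb)),
      (QuotientGroup.eq_one_iff _).2 (mem_subgroupOf.2 (h.mul_mem b b.2 a a.2 hb ha))]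
  exact Group.isSolvable_of_ker_le_range (K.subgroupOf H).subtype
    (QuotientGroup.mk' (K.subgroupOf H)) (by rw [QuotientGroup.ker_mk', Subgroup.range_subtype])

/-- The standing hypotheses for the quotient by the odd core. -/
structure Hyp (e : X) (K : Subgroup X) : Prop where
  gdc : GDC e K
  core : ∀ N : Subgroup X, N.Normal → Odd (Nat.card N) → N = ⊥
  nsolv : ¬ Group.IsSolvable X
  nonelem : ∃ k ∈ K, k * k ≠ 1

/-- There is no nontrivial solvable normal subgroup. -/
theorem Hyp.eq_bot_of_isSolvable {e : X} {K : Subgroup X} (h : Hyp e K) (N : Subgroup X)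
    [hN : N.Normal] (hs : Group.IsSolvable N) : N = ⊥ := by
  classical
  by_contra hN0
  haveI := hs
  haveI : Nontrivial N := (Subgroup.nontrivial_iff_ne_bot N).2 hN0
  -- a nontrivial 2-core
  have hF : Cfsg.fittingSubgroup X ≠ ⊥ := by
    intro h0
    refine Cores.fittingSubgroup_ne_bot (G := N) ((Subgroup.map_eq_bot_iff_of_injective _
      N.subtype_injective).1 (eq_bot_iff.2 ?_))
    exact (Cores.map_subtype_fittingSubgroup_le (N := N)).trans (le_of_eq h0)
  set O2 := Cfsg.pCore 2 X with hO2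
  have hO2n : O2.Normal := inferInstance
  have hO2p : IsPGroup 2 O2 := Cores.pCore_isPGroup
  have hO2ne : O2 ≠ ⊥ := by
    intro h0
    refine hF ?_
    rw [Cores.fittingSubgroup_eq_iSup_pCore, eq_bot_iff, iSup_le_iff]
    rintro ⟨q, hq⟩
    rcases eq_or_ne q 2 with rfl | hne
    · exact h0.le
    · haveI : Fact q.Prime := ⟨hq⟩
      obtain ⟨j, hj⟩ := IsPGroup.iff_card.1 (Cores.pCore_isPGroup (p := q) (G := X))
      exact (h.core _ inferInstance (hj ▸ (hq.odd_of_ne_two hne).pow)).le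
  haveI : Fact (Nat.Prime 2) := ⟨Nat.prime_two⟩
  -- the involutions of its centre
  let V : Subgroup X :=
    { carrier := {a | a ∈ O2 ∧ (∀ b ∈ O2, a * b = b * a) ∧ a * a = 1}
      one_mem' := ⟨one_mem _, fun b _ => by simp, one_mul 1⟩
      mul_mem' := by
        rintro a c ⟨ha, hac, ha2⟩ ⟨hc, hcc, hc2⟩
        refine ⟨mul_mem ha hc, fun b hb => ?_, ?_⟩
        · rw [mul_assoc, hcc b hb, ← mul_assoc, hac b hb, mul_assoc]
        · rw [show a * c * (a * c) = a * (c * a) * c by group, hcc a ha,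
            show a * (a * c) * c = (a * a) * (c * c) by group, ha2, hc2, one_mul]
      inv_mem' := by
        rintro a ⟨ha, hac, ha2⟩
        rw [inv_eq_of_mul_eq_one_right ha2]
        exact ⟨ha, hac, ha2⟩ }
  haveI hVn : V.Normal := ⟨fun a ha g => by
    obtain ⟨ha, hac, ha2⟩ := ha
    refine ⟨hO2n.conj_mem a ha g, fun b hb => ?_, ?_⟩
    · have hb' : g⁻¹ * b * g ∈ O2 := by simpa using hO2n.conj_mem b hb g⁻¹
      calc g * a * g⁻¹ * b = g * (a * (g⁻¹ * b * g)) * g⁻¹ := by group
        _ = g * ((g⁻¹ * b * g) * a) * g⁻¹ := by rw [hac _ hb']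
        _ = b * (g * a * g⁻¹) := by group
    · rw [show g * a * g⁻¹ * (g * a * g⁻¹) = g * (a * a) * g⁻¹ by group, ha2]; group⟩
  haveI : Nontrivial O2 := (Subgroup.nontrivial_iff_ne_bot _).2 hO2ne
  haveI := hO2p.center_nontrivial
  obtain ⟨k, hk⟩ := IsPGroup.iff_card.1 (hO2p.to_subgroup (center O2))
  have h2 : 2 ∣ Nat.card (center O2) := by
    have h1 : 1 < Nat.card (center O2) := Finite.one_lt_card
    rcases k with - | k
    · rw [hk] at h1; simp at h1
    · rw [hk]; exact dvd_pow_self 2 k.succ_ne_zero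
  obtain ⟨⟨⟨c, hc⟩, hcc⟩, hco⟩ := exists_prime_orderOf_dvd_card' (G := center O2) 2 h2
  have hco' : orderOf c = 2 := by
    rw [← Subgroup.orderOf_coe, ← Subgroup.orderOf_coe] at hco
    exact hco
  have hcV : c ∈ V := ⟨hc, fun b hb =>
    congrArg Subtype.val (Subgroup.mem_center_iff.1 hcc ⟨b, hb⟩).symm, sq_of_orderOf_two hco'⟩
  have hVcomm : ∀ a ∈ V, ∀ b ∈ V, a * b = b * a := fun a ha b hb => ha.2.1 b hb.1
  have hVsq : ∀ a ∈ V, a * a = 1 := fun a ha => ha.2.2
  have hg := h.gdc
  have hee := hg.sq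
  have hei := inv_of_orderOf_two hg.inv
  -- a fixed point of `e` in `V`
  obtain ⟨r, hr, hr1, hre⟩ : ∃ r ∈ V, r ≠ 1 ∧ r * e = e * r := by
    by_cases hfix : c * e = e * c
    · exact ⟨c, hcV, ne_one_of_orderOf_two hco', hfix⟩
    · have hb : e * c * e⁻¹ ∈ V := hVn.conj_mem c hcV e
      refine ⟨c * (e * c * e⁻¹), mul_mem hcV hb, fun h0 => hfix ?_, ?_⟩
      · have h' : e * c * e⁻¹ = c := mul_left_cancel (h0.trans (hVsq c hcV).symm)
        exact (mul_inv_eq_iff_eq_mul.1 h').symm
      · calc c * (e * c * e⁻¹) * e = (c * (e * c * e⁻¹)) * e := rfl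
          _ = (e * c * e⁻¹ * c) * e := by rw [hVcomm c hcV _ hb]
          _ = e * (c * (e * c * e⁻¹)) := by
            rw [hei]
            simp only [mul_assoc]
  have hrC : r ∈ centralizer ({e} : Set X) := mem_centralizer_singleton_iff.2 hre
  -- `e ∈ V`
  have heV : e ∈ V := by
    by_contra heV
    have hrK : r ∉ K := fun hK =>
      (hg.unique r hK (hVsq r hr)).elim hr1 fun h' => heV (h' ▸ hr)
    obtain ⟨k, hk, hk2⟩ := h.nonelem
    refine hk2 ?_
    have h1 := (hg.out r hrC hrK).2 k⁻¹ (K.inv_mem hk)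
    rw [inv_inv] at h1
    have hkk : k * k ∈ V := by
      have h3 := V.mul_mem (hVn.conj_mem r hr k) (V.inv_mem hr)
      rw [show k * r * k⁻¹ * r⁻¹ = k * (r * k⁻¹ * r⁻¹) by group, h1] at h3
      exact h3
    exact (hg.unique _ (K.mul_mem hk hk) (hVsq _ hkk)).resolve_right fun h' => heV (h' ▸ hkk)
  have hVC : V ≤ centralizer ({e} : Set X) := fun v hv =>
    mem_centralizer_singleton_iff.2 (hVcomm v hv e heV)
  -- `V` is small
  have hVcard : Nat.card V ≤ 4 := by
    obtain ⟨w, hw⟩ : ∃ w : X, ∀ v ∈ V, v ∈ ({1, e, w, w * e} : Finset X) := by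
      by_cases hall : ∀ v ∈ V, v ∈ K
      · exact ⟨1, fun v hv => by
          rcases hg.unique v (hall v hv) (hVsq v hv) with rfl | rfl <;> simp⟩
      · push Not at hall
        obtain ⟨w, hw, hwK⟩ := hall
        refine ⟨w, fun v hv => ?_⟩
        by_cases hvK : v ∈ K
        · rcases hg.unique v hvK (hVsq v hv) with rfl | rfl <;> simp
        · have h1 := hg.mul_mem w (hVC hw) v (hVC hv) hwK hvK
          rcases hg.unique _ h1 (hVsq _ (mul_mem hw hv)) with h2 | h2
          · have : v = w := by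
              rw [eq_inv_of_mul_eq_one_right h2, inv_eq_of_mul_eq_one_right (hVsq w hw)]
            simp [this]
          · have : v = w * e := by rw [← h2, ← mul_assoc, hVsq w hw, one_mul]
            simp [this]
    haveI := Fintype.ofFinite V
    rw [Nat.card_eq_fintype_card, ← Finset.card_univ,
      ← Finset.card_image_of_injective _ (Subtype.val_injective (p := (· ∈ V)))]
    exact (Finset.card_le_card (fun x hx => by
      obtain ⟨v, -, rfl⟩ := Finset.mem_image.1 hx
      exact hw v v.2)).trans Finset.card_le_four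
  refine h.nsolv (isSolvable_of_small_normal V hVcard ?_)
  haveI := hg.isSolvable
  have hle : centralizer (V : Set X) ≤ centralizer ({e} : Set X) := fun g hg' =>
    mem_centralizer_singleton_iff.2 (mem_centralizer_iff.1 hg' e heV).symm
  exact Group.isSolvable_of_isSolvable_injective (f := Subgroup.inclusion hle)
    (Subgroup.inclusion_injective hle)

/-- A Sylow 2-subgroup with a cyclic subgroup of index two containing the central involution `z`. -/
structure Two (P : Sylow 2 X) (A0 : Subgroup X) (z : X) : Prop where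
  le : A0 ≤ (P : Subgroup X)
  cyclic : IsCyclic A0
  two : 2 * Nat.card A0 = Nat.card (P : Subgroup X)
  inv : orderOf z = 2
  mem : z ∈ A0
  central : ∀ p ∈ (P : Subgroup X), p * z = z * p
  unique : ∀ a ∈ A0, a * a = 1 → a = 1 ∨ a = z

namespace Two

variable {P : Sylow 2 X} {A0 : Subgroup X} {z : X}

theorem mem_sylow (t : Two P A0 z) : z ∈ (P : Subgroup X) := t.le t.mem

theorem index_eq (t : Two P A0 z) : (A0.subgroupOf (P : Subgroup X)).index = 2 := by
  have h1 := Subgroup.card_mul_index (A0.subgroupOf (P : Subgroup X))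
  rw [Nat.card_congr (subgroupOfEquivOfLe t.le).toEquiv, ← t.two, mul_comm 2] at h1
  exact Nat.eq_of_mul_eq_mul_left Nat.card_pos h1

theorem mul_mem (t : Two P A0 z) {a b : X} (ha : a ∈ (P : Subgroup X)) (hb : b ∈ (P : Subgroup X))
    (haA : a ∉ A0) (hbA : b ∉ A0) : a * b ∈ A0 := by
  have h1 : (⟨a, ha⟩ * ⟨b, hb⟩ : (P : Subgroup X)) ∈ A0.subgroupOf (P : Subgroup X) :=
    (Subgroup.mul_mem_iff_of_index_two t.index_eq).2
      (iff_of_false (fun h => haA (mem_subgroupOf.1 h)) (fun h => hbA (mem_subgroupOf.1 h)))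
  exact mem_subgroupOf.1 h1

/-- A nontrivial subgroup of `A0` contains `z`. -/
theorem mem_of_ne_bot (t : Two P A0 z) {B : Subgroup X} (hB : B ≤ A0) (hB0 : B ≠ ⊥) : z ∈ B := by
  haveI : Fact (Nat.Prime 2) := ⟨Nat.prime_two⟩
  obtain ⟨k, hk⟩ := IsPGroup.iff_card.1 (P.isPGroup'.to_le (hB.trans t.le) : IsPGroup 2 B)
  haveI : Nontrivial B := (Subgroup.nontrivial_iff_ne_bot B).2 hB0
  have h1 : 1 < Nat.card B := Finite.one_lt_card
  have h2 : 2 ∣ Nat.card B := by
    rcases k with - | k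
    · rw [hk] at h1; simp at h1
    · rw [hk]; exact dvd_pow_self 2 k.succ_ne_zero
  obtain ⟨⟨b, hb⟩, hbo⟩ := exists_prime_orderOf_dvd_card' (G := B) 2 h2
  rw [← Subgroup.orderOf_coe] at hbo
  rcases t.unique b (hB hb) (sq_of_orderOf_two hbo) with h | h
  · exact absurd h (ne_one_of_orderOf_two hbo)
  · exact h ▸ hb

/-- No elementary abelian subgroup of order eight. -/
theorem rankTwo (t : Two P A0 z) : RankTwo X := by
  intro a b c ha hb hc hab hac hbc ha1 hb1 hne
  haveI : Fact (Nat.Prime 2) := ⟨Nat.prime_two⟩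
  obtain ⟨V, hV, haV, hbV, hVc⟩ := exists_four
    (orderOf_eq_prime (by rw [pow_two]; exact ha) ha1)
    (orderOf_eq_prime (by rw [pow_two]; exact hb) hb1) hne hab.symm
  have hcV : ∀ v ∈ V, c * v = v * c := by
    intro v hv
    rcases hVc v hv with rfl | rfl | rfl | rfl
    · simp
    · exact hac.symm
    · exact hbc.symm
    · rw [← mul_assoc, ← hac, mul_assoc, ← hbc, mul_assoc]
  by_contra hcon
  have hcnV : c ∉ V := fun h => hcon (hVc c h)
  have hE : IsPGroup 2 (V ⊔ zpowers c : Subgroup X) := by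
    refine IsPGroup.to_sup_of_normal_left' (IsPGroup.of_card (n := 2) (by rw [hV.card]; norm_num))
      ?_ (zpowers_le.2 (mem_normalizer_of_conj fun v hv => ?_))
    · intro x
      refine ⟨1, Subtype.ext ?_⟩
      obtain ⟨j, hj⟩ := mem_zpowers_iff.1 x.2
      rw [Subgroup.coe_pow, ← hj, pow_one, pow_two, ← zpow_add, ← two_mul, zpow_mul,
        show c ^ (2 : ℤ) = 1 by rw [zpow_two]; exact hc, one_zpow, Subgroup.coe_one]
    · rw [hcV v hv, mul_inv_cancel_right]; exact hv
  obtain ⟨g, hg⟩ := TwoFusion.exists_conj_le_sylow P hE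
  let f := (MulAut.conj g).toMonoidHom
  have hfP : ∀ v ∈ V, f v ∈ (P : Subgroup X) := fun v hv => hg v (mem_sup_left hv)
  have hfc : f c ∈ (P : Subgroup X) := hg c (mem_sup_right (mem_zpowers c))
  have hfsq : ∀ v : X, v * v = 1 → f v * f v = 1 := fun v hv => by rw [← map_mul, hv, map_one]
  have hfinj : Function.Injective f := (MulAut.conj g).injective
  have hf1 : ∀ v : X, v ≠ 1 → f v ≠ 1 := fun v hv h => hv (hfinj (h.trans (map_one f).symm))
  obtain ⟨v, hv, hvA⟩ : ∃ v ∈ V, f v ∉ A0 := by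
    by_contra hall
    push Not at hall
    exact hne (hfinj (((t.unique _ (hall a haV) (hfsq a ha)).resolve_left (hf1 a ha1)).trans
      ((t.unique _ (hall b hbV) (hfsq b hb)).resolve_left (hf1 b hb1)).symm))
  obtain ⟨w, hw, hw1, hwA⟩ : ∃ w ∈ V, w ≠ 1 ∧ f w ∈ A0 := by
    by_contra hall
    push Not at hall
    have h1 := t.mul_mem (hfP a haV) (hfP b hbV) (hall a haV ha1) (hall b hbV hb1)
    rw [← map_mul] at h1
    refine hall _ (V.mul_mem haV hbV) (fun h => hne ?_) h1
    rw [eq_inv_of_mul_eq_one_left h, inv_eq_of_mul_eq_one_right hb]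
  have hwz : f w = z := (t.unique _ hwA (hfsq w (hV.sq w hw))).resolve_left (hf1 w hw1)
  have key : ∀ d : X, d * d = 1 → f d ∈ (P : Subgroup X) → f d ∈ A0 → d ∈ V := by
    intro d hd _ hdA
    rcases t.unique _ hdA (hfsq d hd) with h | h
    · rw [hfinj (h.trans (map_one f).symm)]; exact V.one_mem
    · rw [hfinj (h.trans hwz.symm)]; exact hw
  by_cases hcA : f c ∈ A0
  · exact hcnV (key c hc hfc hcA)
  · have h1 := t.mul_mem (hfP v hv) hfc hvA hcA
    rw [← map_mul] at h1
    have h2 : v * c ∈ V := key _ (by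
      rw [show v * c * (v * c) = v * (c * v) * c by group, hcV v hv,
        show v * (v * c) * c = (v * v) * (c * c) by group, hV.sq v hv, hc, one_mul])
      (by rw [map_mul]; exact Subgroup.mul_mem _ (hfP v hv) hfc) h1
    exact hcnV (by simpa using V.mul_mem (V.inv_mem hv) h2)

/-- A subgroup meeting `A0` trivially and meeting `P` in a Sylow subgroup is solvable. -/
theorem isSolvable_of_disjoint (t : Two P A0 z) (M : Subgroup X) (hM : A0 ⊓ M = ⊥)
    (hsyl : ¬ 2 ∣ (P : Subgroup X).relIndex M) : Group.IsSolvable M := by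
  haveI : Fact (Nat.Prime 2) := ⟨Nat.prime_two⟩
  have hp : IsPGroup 2 ((P : Subgroup X).subgroupOf M) :=
    P.isPGroup'.comap_of_injective M.subtype M.subtype_injective
  refine isSolvable_of_sylow_le_two (hp.toSylow hsyl) ?_
  show Nat.card ((P : Subgroup X).subgroupOf M) ≤ 2
  set R := (P : Subgroup X).subgroupOf M
  let f : R → ((P : Subgroup X) ⧸ A0.subgroupOf (P : Subgroup X)) := fun x => QuotientGroup.mk ⟨_, x.2⟩
  have hf : Function.Injective f := by
    intro x y hxy
    have h1 : ((x : M) : X)⁻¹ * ((y : M) : X) ∈ A0 := mem_subgroupOf.1 (QuotientGroup.eq.1 hxy)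
    have h2 : ((x : M) : X)⁻¹ * ((y : M) : X) ∈ A0 ⊓ M :=
      ⟨h1, Subgroup.mul_mem M (M.inv_mem (x : M).2) (y : M).2⟩
    rw [hM, Subgroup.mem_bot, inv_mul_eq_one] at h2
    exact Subtype.ext (Subtype.ext h2)
  refine (Nat.card_le_card_of_injective f hf).trans ?_
  rw [← Subgroup.index_eq_card, t.index_eq]

/-- Of two disjoint subgroups, one is solvable. -/
theorem isSolvable_or_isSolvable (t : Two P A0 z) (M M' : Subgroup X) (hMM : M ⊓ M' = ⊥)
    (hM : ¬ 2 ∣ (P : Subgroup X).relIndex M) (hM' : ¬ 2 ∣ (P : Subgroup X).relIndex M') :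
    Group.IsSolvable M ∨ Group.IsSolvable M' := by
  by_cases h1 : A0 ⊓ M = ⊥
  · exact Or.inl (t.isSolvable_of_disjoint M h1 hM)
  by_cases h2 : A0 ⊓ M' = ⊥
  · exact Or.inr (t.isSolvable_of_disjoint M' h2 hM')
  exfalso
  have h3 : z ∈ M ⊓ M' := ⟨(t.mem_of_ne_bot inf_le_left h1).2, (t.mem_of_ne_bot inf_le_left h2).2⟩
  rw [hMM, Subgroup.mem_bot] at h3
  exact ne_one_of_orderOf_two t.inv h3

end Two

theorem not_dvd_relIndex_normal (P : Sylow 2 X) (N : Subgroup X) [N.Normal] :
    ¬ 2 ∣ (P : Subgroup X).relIndex N := by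
  haveI : Fact (Nat.Prime 2) := ⟨Nat.prime_two⟩
  rw [← Subgroup.inf_relIndex_right]
  exact LAE62.not_dvd_relIndex_sylow_inf_normal P N

/-- The simple normal subgroup. -/
theorem Hyp.exists_simple {e : X} {K : Subgroup X} (h : Hyp e K) {P : Sylow 2 X} {A0 : Subgroup X}
    {z : X} (t : Two P A0 z) :
    ∃ L : Subgroup X, L.Normal ∧ IsSimpleGroup L ∧ (¬ ∀ a b : L, a * b = b * a) ∧ z ∈ L ∧
      centralizer (L : Set X) = ⊥ ∧ (∃ r ∈ L, r ∈ (P : Subgroup X) ∧ r ∉ A0) ∧
      ∀ x ∈ L, orderOf x = 2 → ∃ l ∈ L, l * x * l⁻¹ = z := by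
  classical
  haveI : Fact (Nat.Prime 2) := ⟨Nat.prime_two⟩
  have hns : ∀ N : Subgroup X, N.Normal → N ≠ ⊥ → ¬ Group.IsSolvable N := fun N hN hN0 hs => by
    haveI := hN
    exact hN0 (h.eq_bot_of_isSolvable N hs)
  have hXne : (⊤ : Subgroup X) ≠ ⊥ := fun h0 => h.nsolv (Group.isSolvable_of_comm fun a b => by
    have ha : a ∈ (⊥ : Subgroup X) := h0 ▸ Subgroup.mem_top a
    have hb : b ∈ (⊥ : Subgroup X) := h0 ▸ Subgroup.mem_top b
    rw [Subgroup.mem_bot.1 ha, Subgroup.mem_bot.1 hb])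
  obtain ⟨L, hLmin⟩ : ∃ L, Minimal (fun N : Subgroup X => N.Normal ∧ N ≠ ⊥) L :=
    (Set.toFinite _).exists_minimal (s := {N : Subgroup X | N.Normal ∧ N ≠ ⊥})
      ⟨⊤, inferInstance, hXne⟩
  obtain ⟨hLn, hL0⟩ := hLmin.prop
  haveI := hLn
  have hLns := hns L hLn hL0
  haveI : Nontrivial L := (Subgroup.nontrivial_iff_ne_bot L).2 hL0
  have hQp : IsPGroup 2 ((P : Subgroup X).subgroupOf L) :=
    P.isPGroup'.comap_of_injective L.subtype L.subtype_injective
  set QL := hQp.toSylow (not_dvd_relIndex_normal P L) with hQL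
  have hQLc : (QL : Subgroup L) = (P : Subgroup X).subgroupOf L := IsPGroup.toSylow_coe ..
  have hsub : ∀ M : Subgroup L, M.Normal → ¬ 2 ∣ (P : Subgroup X).relIndex (M.map L.subtype) := by
    intro M hM
    haveI := hM
    rw [← Subgroup.relIndex_comap]
    change ¬ 2 ∣ ((P : Subgroup X).subgroupOf L).relIndex M
    rw [← hQLc]
    exact not_dvd_relIndex_normal QL M
  have hsimple : IsSimpleGroup L := by
    refine ⟨fun N hN => ?_⟩
    by_contra hcon
    push Not at hcon
    obtain ⟨hN0, hN1⟩ := hcon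
    obtain ⟨M, hMle, hMmin⟩ := Set.Finite.exists_le_minimal
      (Set.toFinite {M : Subgroup L | M.Normal ∧ M ≠ ⊥}) (a := N) ⟨hN, hN0⟩
    obtain ⟨hMn, hM0⟩ := hMmin.prop
    haveI := hMn
    by_cases hfix : ∀ g : X, M.map (MulAut.conjNormal g).toMonoidHom = M
    · -- then `M` is normal in `X`
      have hn : (M.map L.subtype).Normal := ⟨by
        rintro _ ⟨m, hm, rfl⟩ g
        exact ⟨MulAut.conjNormal g m, (hfix g).le ⟨m, hm, rfl⟩, MulAut.conjNormal_apply g m⟩⟩
      have hne : M.map L.subtype ≠ ⊥ :=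
        fun h0 => hM0 ((Subgroup.map_eq_bot_iff_of_injective _ L.subtype_injective).1 h0)
      have hle := hLmin.2 ⟨hn, hne⟩ (Subgroup.map_subtype_le M)
      refine hN1 (top_le_iff.1 fun l _ => hMle ?_)
      obtain ⟨m, hm, hml⟩ := hle l.2
      rwa [← Subtype.ext hml]
    · push Not at hfix
      obtain ⟨g, hg⟩ := hfix
      set φ : MulAut L := MulAut.conjNormal g with hφ
      set M' := M.map φ.toMonoidHom with hM'
      haveI hM'n : M'.Normal := hMn.map _ φ.surjective
      have hM'0 : M' ≠ ⊥ :=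
        fun h0 => hM0 ((Subgroup.map_eq_bot_iff_of_injective _ φ.injective).1 h0)
      have hdisj : M ⊓ M' = ⊥ := by
        by_contra h0
        have hle : M ≤ M ⊓ M' := hMmin.2 ⟨inferInstance, h0⟩ inf_le_left
        exact hg (eq_of_le_of_card_ge (hle.trans inf_le_right)
          (card_map_of_injective (f := φ.toMonoidHom) φ.injective).le).symm
      have hdisj' : M.map L.subtype ⊓ M'.map L.subtype = ⊥ := by
        rw [← Subgroup.map_inf _ _ _ L.subtype_injective, hdisj, Subgroup.map_bot]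
      have hiso : Group.IsSolvable (M'.map L.subtype) → Group.IsSolvable M := fun hs => by
        haveI := hs
        exact Group.isSolvable_of_isSolvable_injective
          (f := ((M.equivMapOfInjective φ.toMonoidHom φ.injective).trans
            (M'.equivMapOfInjective L.subtype L.subtype_injective)).toMonoidHom)
          (MulEquiv.injective _)
      have hMs : Group.IsSolvable M := by
        rcases t.isSolvable_or_isSolvable _ _ hdisj' (hsub M hMn) (hsub M' hM'n) with hs | hs
        · haveI := hs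
          exact Group.isSolvable_of_isSolvable_injective
            (f := (M.equivMapOfInjective L.subtype L.subtype_injective).toMonoidHom)
            (MulEquiv.injective _)
        · exact hiso hs
      haveI := hMs
      haveI : Nontrivial M := (Subgroup.nontrivial_iff_ne_bot M).2 hM0
      have hF : Cfsg.fittingSubgroup L ≠ ⊥ := fun h0 =>
        Cores.fittingSubgroup_ne_bot (G := M) ((Subgroup.map_eq_bot_iff_of_injective _
          M.subtype_injective).1 (eq_bot_iff.2
            ((Cores.map_subtype_fittingSubgroup_le (N := M)).trans (le_of_eq h0))))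
      have hFn : ((Cfsg.fittingSubgroup L).map L.subtype).Normal := inferInstance
      refine hF ((Subgroup.map_eq_bot_iff_of_injective _ L.subtype_injective).1
        (h.eq_bot_of_isSolvable _ ?_))
      haveI : Group.IsNilpotent (Cfsg.fittingSubgroup L) := Cores.fittingSubgroup_isNilpotent
      exact Group.isSolvable_of_isSolvable_injective
        (f := ((Cfsg.fittingSubgroup L).equivMapOfInjective L.subtype
          L.subtype_injective).symm.toMonoidHom) (MulEquiv.injective _)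
  have hnc : ¬ ∀ a b : L, a * b = b * a := fun hc => hLns (Group.isSolvable_of_comm hc)
  have hzL : z ∈ L :=
    (t.mem_of_ne_bot inf_le_left (fun h0 => hLns
      (t.isSolvable_of_disjoint L h0 (not_dvd_relIndex_normal P L)))).2
  have hC : centralizer (L : Set X) = ⊥ := by
    by_contra h0
    have hd : centralizer (L : Set X) ⊓ L = ⊥ := h.eq_bot_of_isSolvable _
      (Group.isSolvable_of_comm fun a b => Subtype.ext
        ((mem_centralizer_iff.1 b.2.1 a a.2.2)))
    rcases t.isSolvable_or_isSolvable _ _ hd (not_dvd_relIndex_normal P _)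
      (not_dvd_relIndex_normal P L) with hs | hs
    · exact hns _ inferInstance h0 hs
    · exact hLns hs
  obtain ⟨r, hrL, hrP, hrA⟩ : ∃ r ∈ L, r ∈ (P : Subgroup X) ∧ r ∉ A0 := by
    by_contra hall
    push Not at hall
    haveI := t.cyclic
    refine hLns (isSolvable_of_cyclic_sylow QL ?_)
    rw [hQLc]
    let f : (P : Subgroup X).subgroupOf L →* A0 :=
      { toFun := fun x => ⟨((x : L) : X), hall _ (x : L).2 x.2⟩
        map_one' := rfl
        map_mul' := fun x y => rfl }
    exact isCyclic_of_injective f fun x y hxy =>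
      Subtype.ext (Subtype.ext (congrArg (fun a : A0 => (a : X)) hxy))
  refine ⟨L, hLn, hsimple, hnc, hzL, hC, ⟨r, hrL, hrP, hrA⟩, fun x hx hxo => ?_⟩
  have hno : ∀ H : Subgroup L, H.index ≠ 2 := by
    intro H hH
    haveI := Subgroup.normal_of_index_eq_two hH
    rcases hsimple.eq_bot_or_eq_top_of_normal H inferInstance with e' | e'
    · rw [e', Subgroup.index_bot] at hH
      haveI : IsCyclic L := isCyclic_of_prime_card (p := 2) hH
      exact hnc fun a b => mul_comm' a b
    · rw [e', Subgroup.index_top] at hH; omega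
  set QA := A0.subgroupOf L ⊓ (P : Subgroup X).subgroupOf L with hQA
  have hidx : (QA.subgroupOf (QL : Subgroup L)).index = 2 := by
    rw [Subgroup.index_eq_two_iff]
    refine ⟨⟨⟨r, hrL⟩, hQLc.symm ▸ hrP⟩, fun b => ?_⟩
    have hbP : ((b : L) : X) ∈ (P : Subgroup X) := mem_subgroupOf.1 (hQLc ▸ b.2)
    by_cases hb : ((b : L) : X) ∈ A0
    · refine Or.inr ⟨⟨hb, hbP⟩, fun hh => hrA ?_⟩
      have h1 : ((b : L) : X) * r ∈ A0 := hh.1
      simpa using A0.mul_mem (A0.inv_mem hb) h1
    · exact Or.inl ⟨⟨t.mul_mem hbP hrP hb hrA, Subgroup.mul_mem _ hbP hrP⟩, fun hh => hb hh.1⟩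
  have hcard : 2 * Nat.card QA = Nat.card (QL : Subgroup L) := by
    rw [← Subgroup.card_mul_index (QA.subgroupOf (QL : Subgroup L)), hidx,
      Nat.card_congr (subgroupOfEquivOfLe (inf_le_right.trans hQLc.ge : QA ≤ QL)).toEquiv, mul_comm]
  obtain ⟨l, hl⟩ := Invol.exists_conj_mem_of_no_index_two hno QL QA hcard
    (x := ⟨x, hx⟩) (by rw [Subgroup.orderOf_mk, hxo])
  have hl' : (l : X)⁻¹ * x * l ∈ A0 := hl.1
  have hsq : (l : X)⁻¹ * x * l * ((l : X)⁻¹ * x * l) = 1 := by
    rw [show (l : X)⁻¹ * x * l * ((l : X)⁻¹ * x * l) = (l : X)⁻¹ * (x * x) * l by group,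
      sq_of_orderOf_two hxo]; group
  refine ⟨(l : X)⁻¹, L.inv_mem l.2, ?_⟩
  rw [inv_inv]
  refine (t.unique _ hl' hsq).resolve_left fun h1 => ne_one_of_orderOf_two hxo ?_
  calc x = (l : X) * ((l : X)⁻¹ * x * l) * (l : X)⁻¹ := by group
    _ = 1 := by rw [h1]; group

/-- The case of a 2-central `e`. -/
theorem Hyp.exists_two_in {e : X} {K : Subgroup X} (h : Hyp e K) (S : Sylow 2 X)
    (hS : (S : Subgroup X) ≤ centralizer {e}) : Two S ((S : Subgroup X) ⊓ K) e := by
  obtain ⟨heS, hcyc, hcard, -, -, -⟩ := sylow_shape h.gdc S hS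
  exact ⟨inf_le_left, hcyc, hcard.symm, h.gdc.inv, ⟨heS, h.gdc.mem⟩,
    fun p hp => mem_centralizer_singleton_iff.1 (hS hp), fun a ha => h.gdc.unique a ha.2⟩

/-- The case of a non-2-central `e`. -/
theorem Hyp.exists_two_out {e : X} {K : Subgroup X} (h : Hyp e K)
    (hno : ∀ S : Sylow 2 X, ¬ (S : Subgroup X) ≤ centralizer {e}) :
    ∃ (P : Sylow 2 X) (n : ℕ) (a b : (P : Subgroup X)) (r : ℤ),
      MaxClassData n a b r ∧ e ∈ (P : Subgroup X) ∧ (∀ i : ℤ, (a : X) ^ i ≠ e) ∧
        Two P ((zpowers a).map (P : Subgroup X).subtype) (TwoFusion.MC.zG n a) := by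
  classical
  haveI : Fact (Nat.Prime 2) := ⟨Nat.prime_two⟩
  set C := centralizer ({e} : Set X) with hC
  have heC : e ∈ C := h.gdc.self_mem
  obtain ⟨T, hT⟩ := (IsPGroup.of_card (n := 1) (by
      rw [Nat.card_zpowers, Subgroup.orderOf_mk, h.gdc.inv, pow_one]) :
    IsPGroup 2 (zpowers (⟨e, heC⟩ : C))).exists_le_sylow
  set Tx := (T : Subgroup C).map C.subtype with hTx
  have hTxp : IsPGroup 2 Tx := T.isPGroup'.map _
  obtain ⟨P, hP⟩ := hTxp.exists_le_sylow
  have heT : e ∈ Tx := ⟨⟨e, heC⟩, hT (mem_zpowers _), rfl⟩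
  have heP : e ∈ (P : Subgroup X) := hP heT
  have hTxeq : Tx = (P : Subgroup X) ⊓ C := by
    refine le_antisymm (le_inf hP (Subgroup.map_subtype_le _)) fun x hx => ?_
    have h1 : (P : Subgroup X).subgroupOf C = (T : Subgroup C) :=
      T.3 (P.isPGroup'.comap_of_injective C.subtype C.subtype_injective)
        (fun y hy => mem_subgroupOf.2 (hP (mem_map_of_mem _ hy)))
    exact ⟨⟨x, hx.2⟩, h1 ▸ mem_subgroupOf.2 hx.1, rfl⟩
  set D := (P : Subgroup X) ⊓ C with hD
  have hDP : D ≠ (P : Subgroup X) := fun h0 => hno P (h0 ▸ inf_le_right)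
  haveI : Group.IsNilpotent (P : Subgroup X) := P.isPGroup'.isNilpotent
  have hlt : D.subgroupOf (P : Subgroup X) < ⊤ := by
    rw [lt_top_iff_ne_top]
    exact fun h0 => hDP (le_antisymm inf_le_left (subgroupOf_eq_top.1 h0))
  obtain ⟨g, hg, hgD⟩ := SetLike.exists_of_lt
    (Group.normalizerCondition_of_isNilpotent (G := (P : Subgroup X)) _ hlt)
  set v := (g : X) * e * (g : X)⁻¹ with hv
  have hvD : v ∈ D := by
    have h1 : (⟨e, heP⟩ : (P : Subgroup X)) ∈ D.subgroupOf (P : Subgroup X) :=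
      mem_subgroupOf.2 ⟨heP, heC⟩
    exact mem_subgroupOf.1 ((Subgroup.mem_normalizer_iff.1 hg _).1 h1)
  have hvo : orderOf v = 2 := by rw [hv, orderOf_conj, h.gdc.inv]
  have hve : v ≠ e := fun h0 => hgD (mem_subgroupOf.2 ⟨g.2,
    mem_centralizer_singleton_iff.2 (mul_inv_eq_iff_eq_mul.1 h0)⟩)
  have hvc : ∀ d ∈ D, d * v = v * d := by
    intro d hd
    have h1 : g⁻¹ * ⟨d, hd.1⟩ * g ∈ D.subgroupOf (P : Subgroup X) := by
      have h2 := (Subgroup.mem_normalizer_iff.1 hg (g⁻¹ * ⟨d, hd.1⟩ * g)).2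
      refine h2 ?_
      rw [show g * (g⁻¹ * ⟨d, hd.1⟩ * g) * g⁻¹ = (⟨d, hd.1⟩ : (P : Subgroup X)) by group]
      exact mem_subgroupOf.2 hd
    have h3 := mem_centralizer_singleton_iff.1 (mem_subgroupOf.1 h1).2
    push_cast at h3
    calc d * v = g * (((g : X)⁻¹ * d * g) * e) * (g : X)⁻¹ := by rw [hv]; group
      _ = g * (e * ((g : X)⁻¹ * d * g)) * (g : X)⁻¹ := by rw [h3]
      _ = v * d := by rw [hv]; group
  have hvK : v ∉ K := h.gdc.not_mem_of_inv hvo hve
  obtain ⟨V, hV, heV, hvV, -⟩ := exists_four h.gdc.inv hvo hve.symm (hvc e ⟨heP, heC⟩).symm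
  have hDV : D ≤ V := by
    intro d hd
    rcases h.gdc.cases_of_commute hvD.2 hvK (mem_centralizer_singleton_iff.1 hd.2) (hvc d hd)
      with rfl | rfl | rfl | rfl
    · exact V.one_mem
    · exact heV
    · exact hvV
    · exact V.mul_mem heV hvV
  have hD4 : Nat.card D = 4 := by
    refine le_antisymm (hV.card ▸ card_le_of_le hDV) ?_
    obtain ⟨W, hW, -, -, hWc⟩ := exists_four h.gdc.inv hvo hve.symm (hvc e ⟨heP, heC⟩).symm
    rw [← hW.card]
    refine card_le_of_le fun w hw => ?_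
    rcases hWc w hw with rfl | rfl | rfl | rfl
    · exact D.one_mem
    · exact ⟨heP, heC⟩
    · exact hvD
    · exact D.mul_mem ⟨heP, heC⟩ hvD
  set eP : (P : Subgroup X) := ⟨e, heP⟩ with heP'
  have hcentP : centralizer ({eP} : Set (P : Subgroup X)) = D.subgroupOf (P : Subgroup X) := by
    ext x
    rw [mem_centralizer_singleton_iff, mem_subgroupOf, Subtype.ext_iff]
    exact ⟨fun hx => ⟨x.2, mem_centralizer_singleton_iff.2 hx⟩,
      fun hx => mem_centralizer_singleton_iff.1 hx.2⟩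
  have hc4 : Nat.card (centralizer ({eP} : Set (P : Subgroup X))) = 4 := by
    rw [hcentP, Nat.card_congr (subgroupOfEquivOfLe (inf_le_left : D ≤ (P : Subgroup X))).toEquiv, hD4]
  have hP4 : 4 < Nat.card (P : Subgroup X) := by
    rw [← hD4]
    refine lt_of_le_of_ne (card_le_of_le inf_le_left) fun h0 => hDP ?_
    exact eq_of_le_of_card_ge inf_le_left h0.ge
  obtain ⟨n, a, b, r, hdata⟩ : ∃ (n : ℕ) (a b : (P : Subgroup X)) (r : ℤ), MaxClassData n a b r := by
    rcases Cfsg.Agent.S3224.result P.isPGroup' eP (by rw [heP', Subgroup.orderOf_mk, h.gdc.inv]) hc4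
      with ⟨m, ⟨iso⟩⟩ | hq | h4
    · obtain ⟨k, hk⟩ := IsPGroup.iff_card.1 P.isPGroup'
      have hm : 2 * m = 2 ^ k := by rw [← hk, Nat.card_congr iso.toEquiv, DihedralGroup.nat_card]
      rcases k with - | j
      · simp at hm
      have hm' : m = 2 ^ j := by rw [pow_succ'] at hm; omega
      subst hm'
      have hj : 2 ≤ j := by
        by_contra hj
        have h5 : 2 ^ (j + 1) ≤ 2 ^ 2 := Nat.pow_le_pow_right (by norm_num) (by omega)
        rw [hk] at hP4
        omega
      obtain ⟨a, b, hd⟩ := TwoFusion.DData.of_dihedral hj iso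
      exact ⟨j, a, b, -1, hd.toMaxClassData⟩
    · obtain ⟨n, a, b, hd⟩ := QDData.of_isQuasiDihedral hq
      exact ⟨n, a, b, _, hd.toMaxClassData⟩
    · omega
  have huniq : ∀ x ∈ (zpowers a).map (P : Subgroup X).subtype, x * x = 1 →
      x = 1 ∨ x = TwoFusion.MC.zG n a := by
    rintro _ ⟨y, hy, rfl⟩ h1
    rcases TwoFusion.MC.eq_invol hdata hy (Subtype.ext h1) with rfl | rfl
    · exact Or.inl rfl
    · exact Or.inr rfl
  have hzc : ∀ p ∈ (P : Subgroup X), p * TwoFusion.MC.zG n a = TwoFusion.MC.zG n a * p :=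
    fun p hp => (TwoFusion.MC.zG_comm hdata hp).symm
  refine ⟨P, n, a, b, r, hdata, heP, fun i hi => ?_, ⟨Subgroup.map_subtype_le _, ?_, ?_,
    TwoFusion.MC.orderOf_zG hdata, ⟨_, Subgroup.npow_mem_zpowers a _, rfl⟩, hzc, huniq⟩⟩
  · rcases huniq e ⟨a ^ i, Subgroup.zpow_mem_zpowers a i, by simp [hi]⟩ h.gdc.sq with h0 | h0
    · exact ne_one_of_orderOf_two h.gdc.inv h0
    · exact hno P fun p hp => mem_centralizer_singleton_iff.2 (h0 ▸ hzc p hp)
  · rw [MonoidHom.map_zpowers]; infer_instance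
  · rw [card_map_of_injective (P : Subgroup X).subtype_injective,
      ← Subgroup.card_mul_index (zpowers a), hdata.index_two, mul_comm]

end Cfsg.Agent.GenDih
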